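import Mathlib
import Cfsg.Agent.Lib.Helper52.Coprime
import Cfsg.Agent.Lib.Helper53.Basic

set_option autoImplicit false

namespace Cfsg.Agent.Helper52

open Subgroup
open scoped Pointwise

universe u

variable {G : Type u} [Group G]

/-- the order of a Sylow `p`-subgroup of `K` -/
noncomputable def sylCard (p : ℕ) (K : Subgroup G) : ℕ := p ^ (Nat.card K).factorization p

theorem card_sylow_map [Finite G] (p : ℕ) [Fact p.Prime] (K : Subgroup G) (P : Sylow p K) :
    Nat.card ((P : Subgroup K).map K.subtype) = sylCard p K := by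
  rw [Subgroup.card_map_of_injective K.subtype_injective]
  exact P.card_eq_multiplicity

theorem exists_sylow_of_card [Finite G] (p : ℕ) [Fact p.Prime] (K Q : Subgroup G) (hQK : Q ≤ K)
    (hQ : Nat.card Q = sylCard p K) :
    ∃ P : Sylow p K, (P : Subgroup K).map K.subtype = Q := by
  have h1 : Nat.card (Q.subgroupOf K) = p ^ (Nat.card K).factorization p := by
    rw [← sylCard, ← hQ]
    exact Nat.card_congr (subgroupOfEquivOfLe hQK).toEquiv
  refine ⟨Sylow.ofCard (Q.subgroupOf K) h1, ?_⟩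
  rw [Sylow.coe_ofCard, map_subgroupOf_eq_of_le hQK]

theorem exists_conj_of_card [Finite G] (p : ℕ) [Fact p.Prime] (K Q₁ Q₂ : Subgroup G) (h₁ : Q₁ ≤ K)
    (h₂ : Q₂ ≤ K) (c₁ : Nat.card Q₁ = sylCard p K) (c₂ : Nat.card Q₂ = sylCard p K) :
    ∃ k ∈ K, Q₂ = Q₁.map (MulAut.conj k).toMonoidHom := by
  obtain ⟨P₁, hP₁⟩ := exists_sylow_of_card p K Q₁ h₁ c₁
  obtain ⟨P₂, hP₂⟩ := exists_sylow_of_card p K Q₂ h₂ c₂
  obtain ⟨g, hg⟩ := MulAction.exists_smul_eq K P₁ P₂
  refine ⟨g, g.2, ?_⟩
  rw [← hP₁, ← hP₂, ← hg, Sylow.coe_subgroup_smul, conj_smul_eq_map,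
    Cfsg.Agent.Helper24.map_conj_map]
  rfl

theorem mem_map_conj {g x : G} {H : Subgroup G} :
    x ∈ H.map (MulAut.conj g).toMonoidHom ↔ g⁻¹ * x * g ∈ H := by
  constructor
  · rintro ⟨y, hy, rfl⟩
    have : g⁻¹ * (MulAut.conj g).toMonoidHom y * g = y := by simp [mul_assoc]
    rwa [this]
  · intro h
    exact ⟨g⁻¹ * x * g, h, by simp [mul_assoc]⟩

theorem map_conj_le_of_le_normalizer {K Q : Subgroup G} (hQK : Q ≤ K) {a : G}
    (ha : a ∈ normalizer (K : Set G)) : Q.map (MulAut.conj a).toMonoidHom ≤ K := by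
  rintro x ⟨y, hy, rfl⟩
  exact (mem_normalizer_iff.mp ha y).mp (hQK hy)

theorem card_map_conj (g : G) (H : Subgroup G) :
    Nat.card (H.map (MulAut.conj g).toMonoidHom) = Nat.card H :=
  card_map_of_injective (MulAut.conj g).injective

/-- `g` normalizes `Q` iff conjugating by `g` fixes `Q`. -/
theorem map_conj_eq_of_mem_normalizer {Q : Subgroup G} {g : G} (hg : g ∈ normalizer (Q : Set G)) :
    Q.map (MulAut.conj g).toMonoidHom = Q := by
  ext x
  rw [mem_map_conj]
  have := mem_normalizer_iff.mp (Subgroup.inv_mem _ hg) x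
  rw [inv_inv] at this
  exact this.symm

theorem mem_normalizer_of_map_conj_eq {Q : Subgroup G} {g : G}
    (h : Q.map (MulAut.conj g).toMonoidHom = Q) : g ∈ normalizer (Q : Set G) := by
  rw [mem_normalizer_iff]
  intro x
  constructor
  · intro hx
    rw [← h]
    exact ⟨x, hx, by simp⟩
  · intro hx
    rw [← h, mem_map_conj] at hx
    have e : g⁻¹ * (g * x * g⁻¹) * g = x := by group
    rwa [e] at hx

/-- relative indices agree when `M = U K`. -/
theorem relIndex_eq_of_forall_mul [Finite G] (K U M : Subgroup G) (hUM : U ≤ M)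
    (h : ∀ m ∈ M, ∃ u ∈ U, ∃ k ∈ K, m = u * k) : K.relIndex U = K.relIndex M := by
  rw [relIndex, relIndex, index_eq_card, index_eq_card]
  let ι := quotientSubgroupOfEmbeddingOfLE K hUM
  have hsurj : Function.Surjective ι := by
    intro q
    induction q using QuotientGroup.induction_on with
    | H m =>
      obtain ⟨u, hu, k, hk, hm⟩ := h m.1 m.2
      refine ⟨QuotientGroup.mk ⟨u, hu⟩, ?_⟩
      rw [quotientSubgroupOfEmbeddingOfLE_apply_mk, QuotientGroup.eq, mem_subgroupOf]
      have : ((inclusion hUM ⟨u, hu⟩)⁻¹ * m : M).1 = k := by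
        show u⁻¹ * m.1 = k
        rw [hm]; group
      rw [this]; exact hk
  exact Nat.card_congr (Equiv.ofBijective ι ⟨ι.injective, hsurj⟩)

/-- `|KA : K| = |A|` when `A` normalizes `K` and meets it trivially. -/
theorem relIndex_sup_eq_card [Finite G] (K A : Subgroup G) (hAK : A ≤ normalizer (K : Set G))
    (hdisj : K ⊓ A = ⊥) : K.relIndex (K ⊔ A) = Nat.card A := by
  have h1 : K.relIndex A = K.relIndex (K ⊔ A) := by
    apply relIndex_eq_of_forall_mul K A (K ⊔ A) le_sup_right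
    intro m hm
    have hm' : m ∈ ((K ⊔ A : Subgroup G) : Set G) := hm
    rw [sup_comm, coe_mul_of_left_le_normalizer_right A K hAK] at hm'
    obtain ⟨a, ha, k, hk, rfl⟩ := Set.mem_mul.mp hm'
    exact ⟨a, ha, k, hk, rfl⟩
  rw [← h1, ← inf_relIndex_right, hdisj, relIndex_bot_left]

/-- an element of `K` normalizing `A` centralizes `A` (coprime action). -/
theorem mem_centralizer_of_normalizes [Finite G] (K A : Subgroup G) (hAK : A ≤ normalizer (K : Set G))
    (hcop : (Nat.card A).Coprime (Nat.card K)) (c : G) (hcK : c ∈ K)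
    (hcA : ∀ a ∈ A, c * a * c⁻¹ ∈ A) : c ∈ centralizer (A : Set G) := by
  rw [mem_centralizer_iff]
  intro a ha
  have hdisj : Disjoint A K := disjoint_of_coprime_natCard hcop
  have h1 : c * a * c⁻¹ * a⁻¹ ∈ A := A.mul_mem (hcA a ha) (A.inv_mem ha)
  have h2 : c * a * c⁻¹ * a⁻¹ ∈ K := by
    have h3 : a * c⁻¹ * a⁻¹ ∈ K := (mem_normalizer_iff.mp (hAK ha) c⁻¹).mp (K.inv_mem hcK)
    have h4 : c * a * c⁻¹ * a⁻¹ = c * (a * c⁻¹ * a⁻¹) := by group
    rw [h4]; exact K.mul_mem hcK h3
  have h5 : c * a * c⁻¹ * a⁻¹ = 1 := disjoint_def.mp hdisj h1 h2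
  calc a * c = (c * a * c⁻¹ * a⁻¹)⁻¹ * (c * a) := by group
    _ = c * a := by rw [h5]; group

/-- **Coprime action: an invariant Sylow subgroup exists** (internal form). -/
theorem exists_invariant_sylow [Finite G] (A K : Subgroup G) (hAK : A ≤ normalizer (K : Set G))
    (hcop : (Nat.card A).Coprime (Nat.card K)) (hsolv : Group.IsSolvable A ∨ Group.IsSolvable K)
    (p : ℕ) [Fact p.Prime] :
    ∃ Q : Subgroup G, Q ≤ K ∧ Nat.card Q = sylCard p K ∧ A ≤ normalizer (Q : Set G) := by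
  -- some Sylow subgroup
  obtain ⟨P₀⟩ : Nonempty (Sylow p K) := inferInstance
  set Q₀ : Subgroup G := (P₀ : Subgroup K).map K.subtype with hQ₀
  have hQ₀K : Q₀ ≤ K := by
    rintro x ⟨y, _, rfl⟩
    exact y.2
  have hQ₀c : Nat.card Q₀ = sylCard p K := card_sylow_map p K P₀
  set M := K ⊔ A with hM
  have hMK : M ≤ normalizer (K : Set G) := sup_le le_normalizer hAK
  set U := normalizer (Q₀ : Set G) ⊓ M with hU
  have hUM : U ≤ M := inf_le_right
  have hdisj : K ⊓ A = ⊥ := by
    have := disjoint_of_coprime_natCard hcop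
    rw [inf_comm]; exact this.eq_bot
  -- Frattini
  have hfrat : ∀ a ∈ A, ∃ k ∈ K, k * a ∈ normalizer (Q₀ : Set G) := by
    intro a ha
    have h1 : Q₀.map (MulAut.conj a).toMonoidHom ≤ K := map_conj_le_of_le_normalizer hQ₀K (hAK ha)
    have h2 : Nat.card (Q₀.map (MulAut.conj a).toMonoidHom) = sylCard p K := by
      rw [card_map_conj]; exact hQ₀c
    obtain ⟨k, hk, hkk⟩ := exists_conj_of_card p K Q₀ _ hQ₀K h1 hQ₀c h2
    refine ⟨k⁻¹, K.inv_mem hk, ?_⟩
    apply mem_normalizer_of_map_conj_eq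
    rw [← Cfsg.Agent.Helper24.map_conj_map_conj, hkk, Cfsg.Agent.Helper24.map_conj_map_conj]
    simp only [inv_mul_cancel, map_one]
    exact Subgroup.map_id Q₀
  have hprod : ∀ m ∈ M, ∃ u ∈ U, ∃ k ∈ K, m = u * k := by
    intro m hm
    have hm' : m ∈ ((K ⊔ A : Subgroup G) : Set G) := hm
    rw [coe_mul_of_right_le_normalizer_left K A hAK] at hm'
    obtain ⟨k₁, hk₁, a, ha, rfl⟩ := Set.mem_mul.mp hm'
    obtain ⟨k, hk, hka⟩ := hfrat a ha
    have hkaM : k * a ∈ M := M.mul_mem (le_sup_left (a := K) hk) (le_sup_right (b := A) ha)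
    refine ⟨k * a, ⟨hka, hkaM⟩, (k * a)⁻¹ * (k₁ * k⁻¹) * (k * a), ?_, by group⟩
    have h3 := mem_normalizer_iff.mp (Subgroup.inv_mem _ (hMK hkaM)) (k₁ * k⁻¹)
    rw [inv_inv] at h3
    exact h3.mp (K.mul_mem hk₁ (K.inv_mem hk))
  have hrel : K.relIndex U = Nat.card A := by
    rw [relIndex_eq_of_forall_mul K U M hUM hprod]
    exact relIndex_sup_eq_card K A hAK hdisj
  -- Schur-Zassenhaus in U
  have hUK : U ≤ normalizer (K : Set G) := hUM.trans hMK
  have hnorm : (K.subgroupOf U).Normal := normal_subgroupOf_of_le_normalizer hUK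
  have hcopU : (Nat.card (K.subgroupOf U)).Coprime (K.subgroupOf U).index := by
    have h1 : (K.subgroupOf U).index = Nat.card A := hrel
    rw [h1]
    have h2 : Nat.card (K.subgroupOf U) ∣ Nat.card K := by
      rw [← inf_subgroupOf_right, Nat.card_congr (subgroupOfEquivOfLe (inf_le_right : K ⊓ U ≤ U)).toEquiv]
      exact card_dvd_of_le inf_le_left
    exact (Nat.Coprime.coprime_dvd_right h2 hcop).symm
  obtain ⟨B₀, hB₀⟩ := exists_right_complement'_of_coprime hcopU
  set B := B₀.map U.subtype with hB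
  have hBc : Nat.card B = Nat.card A := by
    rw [hB, card_map_of_injective U.subtype_injective, ← hB₀.symm.index_eq_card]
    exact hrel
  have hBU : B ≤ U := by
    rintro x ⟨y, _, rfl⟩
    exact y.2
  obtain ⟨n, hn, hBn⟩ := sz_conj_internal K A B hAK
    (hsolv.symm) hcop.symm hBc (hBU.trans hUM)
  refine ⟨Q₀.map (MulAut.conj n⁻¹).toMonoidHom, ?_, ?_, ?_⟩
  · exact map_conj_le_of_le_normalizer hQ₀K (le_normalizer (K.inv_mem hn))
  · rw [card_map_conj]; exact hQ₀c
  · intro a ha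
    apply mem_normalizer_of_map_conj_eq
    rw [Cfsg.Agent.Helper24.map_conj_map_conj]
    have h1 : n * a * n⁻¹ ∈ normalizer (Q₀ : Set G) := by
      have : n * a * n⁻¹ ∈ B := by
        rw [hBn]; exact ⟨a, ha, by simp⟩
      exact (hBU this).1
    have h2 := map_conj_eq_of_mem_normalizer h1
    have e : a * n⁻¹ = n⁻¹ * (n * a * n⁻¹) := by group
    rw [e, ← Cfsg.Agent.Helper24.map_conj_map_conj, h2]

/-- **Coprime action: invariant Sylow subgroups are conjugate under `C_K(A)`** (internal form). -/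
theorem exists_centralizer_conj_of_invariant [Finite G] (A K : Subgroup G)
    (hAK : A ≤ normalizer (K : Set G))
    (hcop : (Nat.card A).Coprime (Nat.card K)) (hsolv : Group.IsSolvable A ∨ Group.IsSolvable K)
    (p : ℕ) [Fact p.Prime] (Q₁ Q₂ : Subgroup G) (h₁ : Q₁ ≤ K) (h₂ : Q₂ ≤ K)
    (c₁ : Nat.card Q₁ = sylCard p K) (c₂ : Nat.card Q₂ = sylCard p K)
    (hA₁ : A ≤ normalizer (Q₁ : Set G)) (hA₂ : A ≤ normalizer (Q₂ : Set G)) :
    ∃ c ∈ K ⊓ centralizer (A : Set G), Q₂ = Q₁.map (MulAut.conj c).toMonoidHom := by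
  obtain ⟨k, hk, hkk⟩ := exists_conj_of_card p K Q₁ Q₂ h₁ h₂ c₁ c₂
  set L := K ⊓ normalizer (Q₁ : Set G) with hL
  have hAL : A ≤ normalizer (L : Set G) := by
    intro a ha
    rw [mem_normalizer_iff]
    intro g
    have hN : a ∈ normalizer ((normalizer (Q₁ : Set G) : Subgroup G) : Set G) :=
      le_normalizer (hA₁ ha)
    rw [hL, mem_inf, mem_inf, ← mem_normalizer_iff.mp (hAK ha) g, ← mem_normalizer_iff.mp hN g]
  set B := A.map (MulAut.conj k⁻¹).toMonoidHom with hB
  have hBc : Nat.card B = Nat.card A := card_map_conj _ _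
  have hBle : B ≤ L ⊔ A := by
    rintro x ⟨a, ha, rfl⟩
    have e : (MulAut.conj k⁻¹).toMonoidHom a = (k⁻¹ * a * k * a⁻¹) * a := by simp
    rw [e]
    refine mul_mem_sup (mem_inf.mpr ⟨?_, ?_⟩) ha
    · have h3 : a * k * a⁻¹ ∈ K := (mem_normalizer_iff.mp (hAK ha) k).mp hk
      have e2 : k⁻¹ * a * k * a⁻¹ = k⁻¹ * (a * k * a⁻¹) := by group
      rw [e2]; exact K.mul_mem (K.inv_mem hk) h3
    · -- k⁻¹ a k normalizes Q₁
      have h4 : k⁻¹ * a * k ∈ normalizer (Q₁ : Set G) := by
        apply mem_normalizer_of_map_conj_eq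
        have h5 := map_conj_eq_of_mem_normalizer (hA₂ ha)
        rw [hkk, Cfsg.Agent.Helper24.map_conj_map_conj] at h5
        have h6 := congrArg (fun X => X.map (MulAut.conj k⁻¹).toMonoidHom) h5
        simp only [Cfsg.Agent.Helper24.map_conj_map_conj] at h6
        have e3 : k⁻¹ * (a * k) = k⁻¹ * a * k := by group
        have e4 : k⁻¹ * k = 1 := by group
        rw [e3, e4] at h6
        rw [h6]
        simp only [map_one]
        exact Subgroup.map_id Q₁
      exact Subgroup.mul_mem _ h4 (Subgroup.inv_mem _ (hA₁ ha))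
  have hLK : L ≤ K := inf_le_left
  have hcopL : (Nat.card L).Coprime (Nat.card A) :=
    (Nat.Coprime.coprime_dvd_right (card_dvd_of_le hLK) hcop).symm
  obtain ⟨n, hn, hBn⟩ := sz_conj_internal L A B hAL (solv_or_of_le hLK hsolv) hcopL hBc hBle
  have hnK : n ∈ K := hLK hn
  have hnQ : n ∈ normalizer (Q₁ : Set G) := (mem_inf.mp hn).2
  refine ⟨k * n, mem_inf.mpr ⟨K.mul_mem hk hnK, ?_⟩, ?_⟩
  · apply mem_centralizer_of_normalizes K A hAK hcop (k * n) (K.mul_mem hk hnK)
    intro a ha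
    -- n a n⁻¹ ∈ B = k⁻¹ A k
    have h7 : n * a * n⁻¹ ∈ B := by
      rw [hBn]; exact ⟨a, ha, by simp⟩
    rw [hB, mem_map_conj, inv_inv] at h7
    have e : k * n * a * (k * n)⁻¹ = k * (n * a * n⁻¹) * k⁻¹ := by group
    rw [e]; exact h7
  · rw [← Cfsg.Agent.Helper24.map_conj_map_conj, map_conj_eq_of_mem_normalizer hnQ]
    exact hkk

theorem card_mul_relIndex_eq [Finite G] {U K : Subgroup G} (hUK : U ≤ K) :
    Nat.card U * U.relIndex K = Nat.card K := by
  rw [relIndex, ← card_mul_index (U.subgroupOf K),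
    Nat.card_congr (subgroupOfEquivOfLe hUK).toEquiv]

/-- a normal `p`-subgroup lies in every Sylow `p`-subgroup (internal form). -/
theorem le_of_card_sylCard [Finite G] (p : ℕ) [Fact p.Prime] (U L S : Subgroup G) (hUL : U ≤ L)
    (hLU : L ≤ normalizer (U : Set G)) (hU : IsPGroup p U) (hSL : S ≤ L)
    (hS : Nat.card S = sylCard p L) : U ≤ S := by
  have hU' : IsPGroup p (U.subgroupOf L) := hU.of_equiv (subgroupOfEquivOfLe hUL).symm
  obtain ⟨P', hP'⟩ := hU'.exists_le_sylow
  set Q' : Subgroup G := (P' : Subgroup L).map L.subtype with hQ'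
  have hQ'L : Q' ≤ L := by
    rintro x ⟨y, _, rfl⟩
    exact y.2
  have hUQ' : U ≤ Q' := by
    intro u hu
    exact ⟨⟨u, hUL hu⟩, hP' (mem_subgroupOf.mpr hu), rfl⟩
  obtain ⟨l, hl, hSl⟩ := exists_conj_of_card p L Q' S hQ'L hSL (card_sylow_map p L P') hS
  rw [hSl, ← map_conj_eq_of_mem_normalizer (hLU hl)]
  exact Subgroup.map_mono hUQ'

/-- **Coprime action: an invariant `p`-subgroup lies in an invariant Sylow `p`-subgroup**
(internal form). -/
theorem exists_invariant_sylow_ge [Finite G] (A K : Subgroup G) (hAK : A ≤ normalizer (K : Set G))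
    (hcop : (Nat.card A).Coprime (Nat.card K)) (hsolv : Group.IsSolvable A ∨ Group.IsSolvable K)
    (p : ℕ) [hp : Fact p.Prime] (U : Subgroup G) (hUK : U ≤ K) (hU : IsPGroup p U)
    (hUA : A ≤ normalizer (U : Set G)) :
    ∃ Q : Subgroup G, Q ≤ K ∧ Nat.card Q = sylCard p K ∧ U ≤ Q ∧ A ≤ normalizer (Q : Set G) := by
  induction' hd : Nat.card K - Nat.card U using Nat.strong_induction_on with d ih generalizing U
  by_cases hc : Nat.card U = sylCard p K
  · exact ⟨U, hUK, hc, le_rfl, hUA⟩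
  · obtain ⟨m, hm⟩ := IsPGroup.iff_card.mp hU
    have hKpos : 0 < Nat.card K := Nat.card_pos
    -- p divides the relative index
    have hdvd : p ∣ U.relIndex K := by
      by_contra hnd
      apply hc
      have h1 := card_mul_relIndex_eq hUK
      rw [sylCard, ← h1, hm]
      have hr0 : U.relIndex K ≠ 0 := by
        intro h0
        rw [h0, mul_zero] at h1
        omega
      rw [Nat.factorization_mul (pow_ne_zero _ hp.out.ne_zero) hr0]
      simp [Nat.factorization_eq_zero_of_not_dvd hnd, hp.out.factorization_self]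
    set L := K ⊓ normalizer (U : Set G) with hL
    have hLK : L ≤ K := inf_le_left
    have hUL : U ≤ L := le_inf hUK le_normalizer
    have hLU : L ≤ normalizer (U : Set G) := inf_le_right
    have hdvd' : p ∣ U.relIndex L := Cfsg.Agent.Helper53.dvd_relIndex_normalizer hUK hU hdvd
    have hAL : A ≤ normalizer (L : Set G) := by
      intro a ha
      rw [mem_normalizer_iff]
      intro g
      have hN : a ∈ normalizer ((normalizer (U : Set G) : Subgroup G) : Set G) :=
        le_normalizer (hUA ha)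
      rw [hL, mem_inf, mem_inf, ← mem_normalizer_iff.mp (hAK ha) g, ← mem_normalizer_iff.mp hN g]
    have hcopL : (Nat.card A).Coprime (Nat.card L) :=
      Nat.Coprime.coprime_dvd_right (card_dvd_of_le hLK) hcop
    have hsolvL : Group.IsSolvable A ∨ Group.IsSolvable L := by
      rcases hsolv with h | h
      · exact Or.inl h
      · exact Or.inr (Cfsg.Agent.Helper24.isSolvable_of_le L K hLK h)
    obtain ⟨S, hSL, hSc, hSA⟩ := exists_invariant_sylow A L hAL hcopL hsolvL p
    have hUS : U ≤ S := le_of_card_sylCard p U L S hUL hLU hU hSL hSc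
    have hSp : IsPGroup p S := IsPGroup.of_card hSc
    -- card S > card U
    have hlt : Nat.card U < Nat.card S := by
      have h1 := card_mul_relIndex_eq hUL
      obtain ⟨r, hr⟩ := hdvd'
      have h2 : p ^ (m + 1) ∣ Nat.card L := by
        rw [← h1, hm, hr, pow_succ, ← mul_assoc]
        exact Dvd.intro _ rfl
      have hLpos : Nat.card L ≠ 0 := Nat.card_pos.ne'
      have h3 : m + 1 ≤ (Nat.card L).factorization p :=
        (hp.out.pow_dvd_iff_le_factorization hLpos).mp h2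
      rw [hSc, sylCard, hm]
      exact Nat.pow_lt_pow_right hp.out.one_lt (by omega)
    have hSK : S ≤ K := hSL.trans hLK
    have hle : Nat.card S ≤ Nat.card K := card_le_of_le hSK
    obtain ⟨Q, hQK, hQc, hSQ, hQA⟩ := ih (Nat.card K - Nat.card S) (by omega) S hSK hSp hSA rfl
    exact ⟨Q, hQK, hQc, hUS.trans hSQ, hQA⟩

end Cfsg.Agent.Helper52
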