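import Mathlib
import Cfsg.Agent.Lib.Helper48.CoprimeGen
import Cfsg.Agent.Lib.Helper52.CoprimeSylow

set_option autoImplicit false

namespace Cfsg.Agent.Helper52

open Subgroup

variable {G : Type*} [Group G]

/-- in a group element of prime order, a nontrivial power generates the same cyclic group -/
theorem mem_zpowers_of_mem_zpowers_of_pow_prime [Finite G] {p : ℕ} [hp : Fact p.Prime] {g y : G}
    (hg : g ^ p = 1) (hy : y ∈ zpowers g) (hy1 : y ≠ 1) : g ∈ zpowers y := by
  have hg1 : g ≠ 1 := by
    rintro rfl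
    simp at hy
    exact hy1 hy
  have hyp : y ^ p = 1 := by
    obtain ⟨k, rfl⟩ := hy
    rw [← zpow_natCast, ← zpow_mul, mul_comm, zpow_mul, zpow_natCast, hg, one_zpow]
  have h1 : zpowers y ≤ zpowers g := by
    rw [zpowers_le]; exact hy
  have h2 : zpowers y = zpowers g := by
    apply Subgroup.eq_of_le_of_card_ge h1
    rw [Nat.card_zpowers, Nat.card_zpowers, orderOf_eq_prime hg hg1, orderOf_eq_prime hyp hy1]
  rw [h2]
  exact mem_zpowers g

/-- **Hyperplane form of generation by centralizers.** If the elementary abelian `p`-subgroup `A`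
normalizes the `p'`-subgroup `M` and `M ≰ K`, then some `B ≤ A` of index at most `p` has
`C_M(B) ≰ K`. -/
theorem exists_hyperplane_centralizer_not_le [Finite G] {p : ℕ} [hp : Fact p.Prime]
    (A M K : Subgroup G)
    (hAc : ∀ x ∈ A, ∀ y ∈ A, x * y = y * x) (hAp : ∀ x ∈ A, x ^ p = 1)
    (hAM : A ≤ normalizer (M : Set G)) (hM : (Nat.card M).Coprime p) (hMK : ¬ M ≤ K) :
    ∃ B : Subgroup G, B ≤ A ∧ B.relIndex A ≤ p ∧ ¬ (M ⊓ centralizer (B : Set G) ≤ K) := by
  classical
  let S : Set (Subgroup G) := {B | B ≤ A ∧ ¬ (M ⊓ centralizer (B : Set G) ≤ K)}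
  have hSfin : S.Finite := Set.toFinite S
  have hSne : S.Nonempty := by
    refine ⟨⊥, bot_le, ?_⟩
    intro h
    apply hMK
    refine le_trans ?_ h
    intro m hm
    refine Subgroup.mem_inf.mpr ⟨hm, ?_⟩
    rw [mem_centralizer_iff]
    intro x hx
    have : x = 1 := hx
    subst this
    simp
  obtain ⟨B, hBS, hBmax⟩ := hSfin.exists_maximal hSne
  refine ⟨B, hBS.1, ?_, hBS.2⟩
  by_contra hidx
  -- some `a ∈ A ∖ B`
  have hBA : B ≠ A := by
    intro h
    apply hidx
    rw [h, relIndex_self]
    exact hp.out.one_lt.le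
  obtain ⟨a, haA, haB⟩ : ∃ a ∈ A, a ∉ B := by
    by_contra hcon
    push Not at hcon
    exact hBA (le_antisymm hBS.1 hcon)
  have ha1 : a ≠ 1 := fun h => haB (h ▸ B.one_mem)
  -- some `b' ∈ A` outside `⟨a⟩ B`
  obtain ⟨b, hbA, hb⟩ : ∃ b ∈ A, ¬ ∃ u ∈ zpowers a, ∃ k ∈ B, b = u * k := by
    by_contra hcon
    push Not at hcon
    apply hidx
    have hza : zpowers a ≤ A := by rw [zpowers_le]; exact haA
    have h1 := relIndex_eq_of_forall_mul B (zpowers a) A hza (fun m hm => by
      obtain ⟨u, hu, k, hk, h⟩ := hcon m hm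
      exact ⟨u, hu, k, hk, h⟩)
    rw [← h1]
    have h2 : B.relIndex (zpowers a) ∣ Nat.card (zpowers a) := by
      rw [relIndex]
      exact Subgroup.index_dvd_card _
    rw [Nat.card_zpowers, orderOf_eq_prime (hAp a haA) ha1] at h2
    exact Nat.le_of_dvd hp.out.pos h2
  have hb1 : b ≠ 1 := by
    rintro rfl
    exact hb ⟨1, one_mem _, 1, one_mem _, by simp⟩
  have hab : a ∉ zpowers b := by
    intro h
    have : b ∈ zpowers a := mem_zpowers_of_mem_zpowers_of_pow_prime (hAp b hbA) h ha1
    exact hb ⟨b, this, 1, one_mem _, by simp⟩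
  -- the rank two group `A'`
  set A' : Subgroup G := zpowers a ⊔ zpowers b with hA'
  have hA'A : A' ≤ A := by
    rw [hA']
    apply sup_le <;> rw [zpowers_le] <;> assumption
  have haA' : a ∈ A' := (le_sup_left : zpowers a ≤ A') (mem_zpowers a)
  have hbA' : b ∈ A' := (le_sup_right : zpowers b ≤ A') (mem_zpowers b)
  -- nonidentity elements of `A'` are outside `B`
  have hA'B : ∀ c ∈ A', c ≠ 1 → c ∉ B := by
    intro c hc hc1 hcB
    have hnorm : zpowers a ≤ normalizer ((zpowers b : Subgroup G) : Set G) := by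
      rw [zpowers_le]
      have : a ∈ centralizer ((zpowers b : Subgroup G) : Set G) := by
        rw [mem_centralizer_iff]
        intro y hy
        obtain ⟨k, rfl⟩ := hy
        have : Commute b a := hAc b hbA a haA
        exact (this.zpow_left k).eq
      exact Subgroup.centralizer_le_normalizer _ this
    have hc' : c ∈ ((zpowers a ⊔ zpowers b : Subgroup G) : Set G) := hc
    rw [coe_mul_of_left_le_normalizer_right _ _ hnorm] at hc'
    obtain ⟨x, hx, y, hy, hxy⟩ := hc'
    have hxy' : x * y = c := hxy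
    subst hxy'
    have hxA : x ∈ A := (by rw [zpowers_le]; exact haA : zpowers a ≤ A) hx
    have hyA : y ∈ A := (by rw [zpowers_le]; exact hbA : zpowers b ≤ A) hy
    by_cases hy1 : y = 1
    · subst hy1
      rw [mul_one] at hcB hc1
      have : a ∈ zpowers x := mem_zpowers_of_mem_zpowers_of_pow_prime (hAp a haA) hx hc1
      exact haB ((by rw [zpowers_le]; exact hcB : zpowers x ≤ B) this)
    · have hby : b ∈ zpowers y := mem_zpowers_of_mem_zpowers_of_pow_prime (hAp b hbA) hy hy1
      obtain ⟨n, hn⟩ := hby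
      apply hb
      refine ⟨(x⁻¹) ^ n, zpow_mem (inv_mem hx) n, (x * y) ^ n, zpow_mem hcB n, ?_⟩
      have hcomm : Commute x⁻¹ (x * y) := by
        have h1 : Commute x (x * y) := hAc x hxA (x * y) (A.mul_mem hxA hyA)
        exact h1.inv_left
      rw [← hcomm.mul_zpow, inv_mul_cancel_left]
      exact hn.symm
  -- `M' = C_M(B)` is `A`-invariant
  set M' : Subgroup G := M ⊓ centralizer (B : Set G) with hM'
  have hAcB : A ≤ centralizer (B : Set G) := by
    intro x hx
    rw [mem_centralizer_iff]
    intro y hy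
    exact hAc y (hBS.1 hy) x hx
  have hAM' : A' ≤ normalizer (M' : Set G) := by
    intro x hx
    exact Helper48.mem_normalizer_inf' (hAM (hA'A hx)) (le_normalizer (hAcB (hA'A hx)))
  have hM'cop : (Nat.card M').Coprime p :=
    Nat.Coprime.coprime_dvd_left (Subgroup.card_dvd_of_le inf_le_left) hM
  apply hBS.2
  have hgen := Helper48.le_genC A' M'
    (fun x hx y hy => hAc x (hA'A hx) y (hA'A hy)) (fun x hx => hAp x (hA'A hx))
    haA' hbA' hb1 hab hAM' hM'cop
  refine le_trans hgen ?_
  unfold Helper48.genC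
  apply iSup_le
  rintro ⟨c, hcA', hc1⟩
  · by_contra hnot
    have hmem : B ⊔ zpowers c ∈ S := by
      refine ⟨sup_le hBS.1 (by rw [zpowers_le]; exact hA'A hcA'), ?_⟩
      intro h
      apply hnot
      refine le_trans ?_ h
      intro m hm
      obtain ⟨hm1, hm2⟩ := Subgroup.mem_inf.mp hm
      obtain ⟨hm3, hm4⟩ := Subgroup.mem_inf.mp hm1
      refine Subgroup.mem_inf.mpr ⟨hm3, ?_⟩
      have : B ⊔ zpowers c ≤ centralizer ({m} : Set G) := by
        apply sup_le
        · intro y hy
          rw [mem_centralizer_singleton_iff]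
          rw [mem_centralizer_iff] at hm4
          exact (hm4 y hy)
        · rw [zpowers_le, mem_centralizer_singleton_iff]
          rw [mem_centralizer_singleton_iff] at hm2
          exact hm2.symm
      rw [mem_centralizer_iff]
      intro y hy
      have := this hy
      rw [mem_centralizer_singleton_iff] at this
      exact this
    have hle : B ≤ B ⊔ zpowers c := le_sup_left
    have := hBmax hmem hle
    exact hA'B c hcA' hc1 (this ((le_sup_right : zpowers c ≤ _) (mem_zpowers c)))

end Cfsg.Agent.Helper52
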