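import Mathlib

/-!
# S3816 lemma server "FC" (helper52): shared definitions

Ambient finite group `G`, `a : G` (the automorphism is conjugation `x ↦ a x a⁻¹`), `P = zpowers a`.
`Lh a h = [h, P] = ⟨h⁻¹ (aⁱ h a⁻ⁱ)⟩`, `Fix a = C_G(a)`, `comm a H = [H, P]`, `star a H = ⟨C_{[h,P]}(P) : h ∈ H⟩`.
`Thm a H` : `C_{[H,P]}(P) ≤ star a H` (the theorem).  `MC` = a minimal counterexample, `MCX` = `MC` + its first consequences.
-/

set_option autoImplicit false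

namespace Cfsg.Agent.Helper52.FC

universe u

variable {G : Type u} [Group G]

/-- `[h, P]`, `P = ⟨a⟩` acting by conjugation. -/
def Lh (a h : G) : Subgroup G :=
  Subgroup.closure {c : G | ∃ i : ℕ, c = h⁻¹ * (a ^ i * h * (a ^ i)⁻¹)}

/-- `C_G(a)` -/
def Fix (a : G) : Subgroup G := Subgroup.centralizer {a}

/-- `H* = ⟨C_{[h,P]}(P) : h ∈ H⟩` -/
def star (a : G) (H : Subgroup G) : Subgroup G := ⨆ h : H, Lh a (h : G) ⊓ Fix a

/-- `[H, P]` -/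
def comm (a : G) (H : Subgroup G) : Subgroup G :=
  Subgroup.closure {c : G | ∃ h ∈ H, ∃ i : ℕ, c = h⁻¹ * (a ^ i * h * (a ^ i)⁻¹)}

/-- `X` is `a`-invariant. -/
def Inv (a : G) (X : Subgroup G) : Prop := ∀ x ∈ X, a * x * a⁻¹ ∈ X

/-- `N` is normalised by `H`. -/
def NormBy (H N : Subgroup G) : Prop := ∀ h ∈ H, ∀ n ∈ N, h * n * h⁻¹ ∈ N

/-- `N` is abelian. -/
def Ab (N : Subgroup G) : Prop := ∀ x ∈ N, ∀ y ∈ N, x * y = y * x

/-- hypotheses of the theorem on `(a, H)` -/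
structure Hyp (p : ℕ) (a : G) (H : Subgroup G) : Prop where
  pow : a ^ p = 1
  inv : Inv a H
  sol : Group.IsSolvable H
  cop : (Nat.card H).Coprime p

/-- the theorem for `(a, H)` -/
def Thm (a : G) (H : Subgroup G) : Prop := comm a H ⊓ Fix a ≤ star a H

/-- a minimal counterexample -/
structure MC (p : ℕ) (G : Type u) [Group G] [Finite G] (a : G) (H : Subgroup G) : Prop where
  hp : p.Prime
  hp2 : p ≠ 2
  hyp : Hyp p a H
  ih : ∀ (G' : Type u) [Group G'] [Finite G'] (a' : G') (H' : Subgroup G'),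
    Hyp p a' H' → Nat.card H' < Nat.card H → Thm a' H'
  bad : ¬ Thm a H

/-- a minimal counterexample together with its first consequences -/
structure MCX (p : ℕ) (G : Type u) [Group G] [Finite G] (a : G) (H : Subgroup G) : Prop where
  mc : MC p G a H
  comm_eq : comm a H = H
  comm_eq_commutator : ∀ X : Subgroup G, comm a X = ⁅X, Subgroup.zpowers a⁆
  star_le : star a H ≤ H ⊓ Fix a
  star_conj : ∀ c ∈ H ⊓ Fix a, ∀ s ∈ star a H, c * s * c⁻¹ ∈ star a H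
  Lh_le : ∀ X : Subgroup G, Inv a X → ∀ h ∈ X, Lh a h ≤ X
  Lh_inv : ∀ h : G, Inv a (Lh a h)
  Lh_comm : ∀ h ∈ H, comm a (Lh a h) = Lh a h
  Lh_fix : ∀ h ∈ H, Lh a h ⊓ Fix a ≤ star a H
  proper : ∀ X : Subgroup G, X ≤ H → X ≠ H → Inv a X → comm a X ⊓ Fix a ≤ star a H
  quot : ∀ N : Subgroup G, N ≤ H → NormBy H N → Inv a N → N ≠ ⊥ →
    ∀ c ∈ H ⊓ Fix a, ∃ s ∈ star a H, ∃ n ∈ N ⊓ Fix a, c = s * n
  not_le : ∀ N : Subgroup G, N ≤ H → NormBy H N → Inv a N → N ≠ ⊥ → ¬ (N ⊓ Fix a ≤ star a H)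
  no_gen : ∀ h ∈ H, Lh a h ≠ H

/-- `V` is a minimal `a`-invariant normal subgroup of `H`. -/
structure MinNormal (a : G) (H V : Subgroup G) : Prop where
  le : V ≤ H
  norm : NormBy H V
  inv : Inv a V
  ne : V ≠ ⊥
  min : ∀ W : Subgroup G, W ≤ V → NormBy H W → Inv a W → W ≠ ⊥ → W = V

/-- (HypN): a proper `a`-invariant `L = [L,P]` supplementing `N` in `H` is a complement. -/
def HypN (a : G) (H N : Subgroup G) : Prop :=
  ∀ L : Subgroup G, L ≤ H → Inv a L → comm a L = L → L ≠ H → N ⊔ L = H → N ⊓ L = ⊥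

/-- `D(h) = [N, ⟨P, P^h⟩] = [N,P][N,h⁻¹Ph]` (for abelian `N` normalised by `a` and `h`). -/
def Dh (a : G) (N : Subgroup G) (h : G) : Subgroup G :=
  ⁅N, Subgroup.zpowers a⁆ ⊔ ⁅N, Subgroup.zpowers (h⁻¹ * a * h)⁆

/-- conclusion (II) of the dichotomy: `H = N ⋊ L`, `L = [l₀,P]` an `s`-group. -/
def SplitS (a : G) (H N : Subgroup G) : Prop :=
  ∃ (L : Subgroup G) (l₀ : G) (s : ℕ), l₀ ∈ L ∧ L = Lh a l₀ ∧ L ≤ H ∧ N ⊔ L = H ∧ N ⊓ L = ⊥ ∧
    s.Prime ∧ IsPGroup s L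

/-- `Z = C_{Z(H)}(a)` -/
def ZZ (a : G) (H : Subgroup G) : Subgroup G := H ⊓ Fix a ⊓ Subgroup.centralizer (H : Set G)

/-- `N/Z` is a chief factor of `H⟨a⟩` (with `Z = ZZ a H`), `N ≠ H`, and `[N,P] ≰ Z`. -/
structure Chief (a : G) (H N : Subgroup G) : Prop where
  le : N ≤ H
  norm : NormBy H N
  inv : Inv a N
  zle : ZZ a H ≤ N
  ne : N ≠ ZZ a H
  neH : N ≠ H
  min : ∀ W : Subgroup G, ZZ a H ≤ W → W ≤ N → NormBy H W → Inv a W → W = ZZ a H ∨ W = N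
  act : ¬ (⁅N, Subgroup.zpowers a⁆ ≤ ZZ a H)

end Cfsg.Agent.Helper52.FC
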