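import Mathlib
import Cfsg.Agent.Lib.Helper52.CoprimeSylow
import Cfsg.Agent.Lib.Helper1.Hall
import Cfsg.Agent.Lib.Helper1.Solv
import Cfsg.Agent.Lib.Helper62.PCompl
import Cfsg.Agent.Lib.Helper48.CoprimeGen
import Cfsg.Prelude.Def_OddOrderLocal

set_option autoImplicit false

namespace Cfsg.Agent.Helper52

open Subgroup
open scoped Pointwise

universe u

variable {G : Type u} [Group G]

/-- **Coprime action: an invariant subgroup of order `m` exists**, provided some subgroup of `K` of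
order `m` exists and all such are `K`-conjugate (internal form). -/
theorem exists_invariant_of_conj [Finite G] (A K : Subgroup G) (hAK : A ≤ normalizer (K : Set G))
    (hcop : (Nat.card A).Coprime (Nat.card K)) (hsolv : Group.IsSolvable A ∨ Group.IsSolvable K)
    (m : ℕ) (Q₀ : Subgroup G) (hQ₀K : Q₀ ≤ K) (hQ₀c : Nat.card Q₀ = m)
    (hconj : ∀ Q₁ Q₂ : Subgroup G, Q₁ ≤ K → Q₂ ≤ K → Nat.card Q₁ = m → Nat.card Q₂ = m →
      ∃ k ∈ K, Q₂ = Q₁.map (MulAut.conj k).toMonoidHom) :
    ∃ Q : Subgroup G, Q ≤ K ∧ Nat.card Q = m ∧ A ≤ normalizer (Q : Set G) := by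
  set M := K ⊔ A with hM
  have hMK : M ≤ normalizer (K : Set G) := sup_le le_normalizer hAK
  set U := normalizer (Q₀ : Set G) ⊓ M with hU
  have hUM : U ≤ M := inf_le_right
  have hdisj : K ⊓ A = ⊥ := by
    have := disjoint_of_coprime_natCard hcop
    rw [inf_comm]; exact this.eq_bot
  -- Frattini
  have hfrat : ∀ a ∈ A, ∃ k ∈ K, k * a ∈ normalizer (Q₀ : Set G) := by
    intro a ha
    have h1 : Q₀.map (MulAut.conj a).toMonoidHom ≤ K := map_conj_le_of_le_normalizer hQ₀K (hAK ha)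
    have h2 : Nat.card (Q₀.map (MulAut.conj a).toMonoidHom) = m := by
      rw [card_map_conj]; exact hQ₀c
    obtain ⟨k, hk, hkk⟩ := hconj Q₀ _ hQ₀K h1 hQ₀c h2
    refine ⟨k⁻¹, K.inv_mem hk, ?_⟩
    apply mem_normalizer_of_map_conj_eq
    rw [← Cfsg.Agent.Helper24.map_conj_map_conj, hkk, Cfsg.Agent.Helper24.map_conj_map_conj]
    simp only [inv_mul_cancel, map_one]
    exact Subgroup.map_id Q₀
  have hprod : ∀ m ∈ M, ∃ u ∈ U, ∃ k ∈ K, m = u * k := by
    intro m hm
    have hm' : m ∈ ((K ⊔ A : Subgroup G) : Set G) := hm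
    rw [coe_mul_of_right_le_normalizer_left K A hAK] at hm'
    obtain ⟨k₁, hk₁, a, ha, rfl⟩ := Set.mem_mul.mp hm'
    obtain ⟨k, hk, hka⟩ := hfrat a ha
    have hkaM : k * a ∈ M := M.mul_mem (le_sup_left (a := K) hk) (le_sup_right (b := A) ha)
    refine ⟨k * a, ⟨hka, hkaM⟩, (k * a)⁻¹ * (k₁ * k⁻¹) * (k * a), ?_, by group⟩
    have h3 := mem_normalizer_iff.mp (Subgroup.inv_mem _ (hMK hkaM)) (k₁ * k⁻¹)
    rw [inv_inv] at h3
    exact h3.mp (K.mul_mem hk₁ (K.inv_mem hk))
  have hrel : K.relIndex U = Nat.card A := by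
    rw [relIndex_eq_of_forall_mul K U M hUM hprod]
    exact relIndex_sup_eq_card K A hAK hdisj
  -- Schur-Zassenhaus in U
  have hUK : U ≤ normalizer (K : Set G) := hUM.trans hMK
  have hnorm : (K.subgroupOf U).Normal := normal_subgroupOf_of_le_normalizer hUK
  have hcopU : (Nat.card (K.subgroupOf U)).Coprime (K.subgroupOf U).index := by
    have h1 : (K.subgroupOf U).index = Nat.card A := hrel
    rw [h1]
    have h2 : Nat.card (K.subgroupOf U) ∣ Nat.card K := by
      rw [← inf_subgroupOf_right, Nat.card_congr (subgroupOfEquivOfLe (inf_le_right : K ⊓ U ≤ U)).toEquiv]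
      exact card_dvd_of_le inf_le_left
    exact (Nat.Coprime.coprime_dvd_right h2 hcop).symm
  obtain ⟨B₀, hB₀⟩ := exists_right_complement'_of_coprime hcopU
  set B := B₀.map U.subtype with hB
  have hBc : Nat.card B = Nat.card A := by
    rw [hB, card_map_of_injective U.subtype_injective, ← hB₀.symm.index_eq_card]
    exact hrel
  have hBU : B ≤ U := by
    rintro x ⟨y, _, rfl⟩
    exact y.2
  obtain ⟨n, hn, hBn⟩ := sz_conj_internal K A B hAK
    (hsolv.symm) hcop.symm hBc (hBU.trans hUM)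
  refine ⟨Q₀.map (MulAut.conj n⁻¹).toMonoidHom, ?_, ?_, ?_⟩
  · exact map_conj_le_of_le_normalizer hQ₀K (le_normalizer (K.inv_mem hn))
  · rw [card_map_conj]; exact hQ₀c
  · intro a ha
    apply mem_normalizer_of_map_conj_eq
    rw [Cfsg.Agent.Helper24.map_conj_map_conj]
    have h1 : n * a * n⁻¹ ∈ normalizer (Q₀ : Set G) := by
      have : n * a * n⁻¹ ∈ B := by
        rw [hBn]; exact ⟨a, ha, by simp⟩
      exact (hBU this).1
    have h2 := map_conj_eq_of_mem_normalizer h1
    have e : a * n⁻¹ = n⁻¹ * (n * a * n⁻¹) := by group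
    rw [e, ← Cfsg.Agent.Helper24.map_conj_map_conj, h2]

/-- **Coprime action: invariant `K`-conjugate subgroups are conjugate under `C_K(A)`**
(internal form). -/
theorem exists_centralizer_conj_of_conj [Finite G] (A K : Subgroup G)
    (hAK : A ≤ normalizer (K : Set G))
    (hcop : (Nat.card A).Coprime (Nat.card K)) (hsolv : Group.IsSolvable A ∨ Group.IsSolvable K)
    (Q₁ Q₂ : Subgroup G) (k : G) (hk : k ∈ K) (hkk : Q₂ = Q₁.map (MulAut.conj k).toMonoidHom)
    (hA₁ : A ≤ normalizer (Q₁ : Set G)) (hA₂ : A ≤ normalizer (Q₂ : Set G)) :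
    ∃ c ∈ K ⊓ centralizer (A : Set G), Q₂ = Q₁.map (MulAut.conj c).toMonoidHom := by
  set L := K ⊓ normalizer (Q₁ : Set G) with hL
  have hAL : A ≤ normalizer (L : Set G) := by
    intro a ha
    rw [mem_normalizer_iff]
    intro g
    have hN : a ∈ normalizer ((normalizer (Q₁ : Set G) : Subgroup G) : Set G) :=
      le_normalizer (hA₁ ha)
    rw [hL, mem_inf, mem_inf, ← mem_normalizer_iff.mp (hAK ha) g, ← mem_normalizer_iff.mp hN g]
  set B := A.map (MulAut.conj k⁻¹).toMonoidHom with hB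
  have hBc : Nat.card B = Nat.card A := card_map_conj _ _
  have hBle : B ≤ L ⊔ A := by
    rintro x ⟨a, ha, rfl⟩
    have e : (MulAut.conj k⁻¹).toMonoidHom a = (k⁻¹ * a * k * a⁻¹) * a := by simp
    rw [e]
    refine mul_mem_sup (mem_inf.mpr ⟨?_, ?_⟩) ha
    · have h3 : a * k * a⁻¹ ∈ K := (mem_normalizer_iff.mp (hAK ha) k).mp hk
      have e2 : k⁻¹ * a * k * a⁻¹ = k⁻¹ * (a * k * a⁻¹) := by group
      rw [e2]; exact K.mul_mem (K.inv_mem hk) h3
    · -- k⁻¹ a k normalizes Q₁
      have h4 : k⁻¹ * a * k ∈ normalizer (Q₁ : Set G) := by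
        apply mem_normalizer_of_map_conj_eq
        have h5 := map_conj_eq_of_mem_normalizer (hA₂ ha)
        rw [hkk, Cfsg.Agent.Helper24.map_conj_map_conj] at h5
        have h6 := congrArg (fun X => X.map (MulAut.conj k⁻¹).toMonoidHom) h5
        simp only [Cfsg.Agent.Helper24.map_conj_map_conj] at h6
        have e3 : k⁻¹ * (a * k) = k⁻¹ * a * k := by group
        have e4 : k⁻¹ * k = 1 := by group
        rw [e3, e4] at h6
        rw [h6]
        simp only [map_one]
        exact Subgroup.map_id Q₁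
      exact Subgroup.mul_mem _ h4 (Subgroup.inv_mem _ (hA₁ ha))
  have hLK : L ≤ K := inf_le_left
  have hcopL : (Nat.card L).Coprime (Nat.card A) :=
    (Nat.Coprime.coprime_dvd_right (card_dvd_of_le hLK) hcop).symm
  obtain ⟨n, hn, hBn⟩ := sz_conj_internal L A B hAL (solv_or_of_le hLK hsolv) hcopL hBc hBle
  have hnK : n ∈ K := hLK hn
  have hnQ : n ∈ normalizer (Q₁ : Set G) := (mem_inf.mp hn).2
  refine ⟨k * n, mem_inf.mpr ⟨K.mul_mem hk hnK, ?_⟩, ?_⟩
  · apply mem_centralizer_of_normalizes K A hAK hcop (k * n) (K.mul_mem hk hnK)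
    intro a ha
    -- n a n⁻¹ ∈ B = k⁻¹ A k
    have h7 : n * a * n⁻¹ ∈ B := by
      rw [hBn]; exact ⟨a, ha, by simp⟩
    rw [hB, mem_map_conj, inv_inv] at h7
    have e : k * n * a * (k * n)⁻¹ = k * (n * a * n⁻¹) * k⁻¹ := by group
    rw [e]; exact h7
  · rw [← Cfsg.Agent.Helper24.map_conj_map_conj, map_conj_eq_of_mem_normalizer hnQ]
    exact hkk


section PiPart

open Classical in
/-- the `π`-part of a natural number -/
noncomputable def piPart (π : Set ℕ) (N : ℕ) : ℕ := (N.factorization.filter (· ∈ π)).prod (· ^ ·)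

open Classical in
/-- the `π'`-part of a natural number -/
noncomputable def piPrimePart (π : Set ℕ) (N : ℕ) : ℕ :=
  (N.factorization.filter (fun q => ¬ q ∈ π)).prod (· ^ ·)

theorem piPart_mul_piPrimePart (π : Set ℕ) {N : ℕ} (hN : N ≠ 0) :
    piPart π N * piPrimePart π N = N := by
  classical
  unfold piPart piPrimePart
  rw [Finsupp.prod_filter_mul_prod_filter_not]
  exact Nat.prod_factorization_pow_eq_self hN

theorem mem_of_prime_dvd_piPart (π : Set ℕ) {N q : ℕ} (hq : q.Prime) (h : q ∣ piPart π N) :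
    q ∈ π := by
  classical
  unfold piPart Finsupp.prod at h
  obtain ⟨a, ha, hqa⟩ := (Prime.dvd_finsetProd_iff hq.prime _).mp h
  have hqa' : q ∣ a := hq.dvd_of_dvd_pow hqa
  rw [Finsupp.support_filter, Finset.mem_filter, Nat.support_factorization] at ha
  have hap : a.Prime := Nat.prime_of_mem_primeFactors ha.1
  rw [(Nat.prime_dvd_prime_iff_eq hq hap).mp hqa']
  exact ha.2

theorem not_mem_of_prime_dvd_piPrimePart (π : Set ℕ) {N q : ℕ} (hq : q.Prime)
    (h : q ∣ piPrimePart π N) : q ∉ π := by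
  classical
  unfold piPrimePart Finsupp.prod at h
  obtain ⟨a, ha, hqa⟩ := (Prime.dvd_finsetProd_iff hq.prime _).mp h
  have hqa' : q ∣ a := hq.dvd_of_dvd_pow hqa
  rw [Finsupp.support_filter, Finset.mem_filter, Nat.support_factorization] at ha
  have hap : a.Prime := Nat.prime_of_mem_primeFactors ha.1
  rw [(Nat.prime_dvd_prime_iff_eq hq hap).mp hqa']
  exact ha.2

theorem piPart_coprime (π : Set ℕ) (N : ℕ) : (piPart π N).Coprime (piPrimePart π N) := by
  apply Nat.coprime_of_dvd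
  intro k hk h1 h2
  exact not_mem_of_prime_dvd_piPrimePart π hk h2 (mem_of_prime_dvd_piPart π hk h1)

theorem eq_piPart_of_mul (π : Set ℕ) {N a b : ℕ} (hN : N ≠ 0) (hab : a * b = N)
    (ha : ∀ q : ℕ, q.Prime → q ∣ a → q ∈ π) (hb : ∀ q : ℕ, q.Prime → q ∈ π → ¬ q ∣ b) :
    a = piPart π N ∧ b = piPrimePart π N := by
  have hmn := piPart_mul_piPrimePart π hN
  have ha0 : a ≠ 0 := by rintro rfl; simp at hab; exact hN hab.symm
  have hb0 : b ≠ 0 := by rintro rfl; simp at hab; exact hN hab.symm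
  have h1 : a ∣ piPart π N := by
    have hc : a.Coprime (piPrimePart π N) := by
      apply Nat.coprime_of_dvd
      intro k hk h1 h2
      exact not_mem_of_prime_dvd_piPrimePart π hk h2 (ha k hk h1)
    apply hc.dvd_of_dvd_mul_right
    rw [hmn, ← hab]
    exact dvd_mul_right a b
  have h2 : b ∣ piPrimePart π N := by
    have hc : b.Coprime (piPart π N) := by
      apply Nat.coprime_of_dvd
      intro k hk h1 h2
      exact hb k hk (mem_of_prime_dvd_piPart π hk h2) h1
    apply hc.dvd_of_dvd_mul_left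
    rw [hmn, ← hab]
    exact dvd_mul_left b a
  have hm0 : piPart π N ≠ 0 := by
    intro h; rw [h, zero_mul] at hmn; exact hN hmn.symm
  have hn0 : piPrimePart π N ≠ 0 := by
    intro h; rw [h, mul_zero] at hmn; exact hN hmn.symm
  have h3 : a ≤ piPart π N := Nat.le_of_dvd (Nat.pos_of_ne_zero hm0) h1
  have h4 : b ≤ piPrimePart π N := Nat.le_of_dvd (Nat.pos_of_ne_zero hn0) h2
  have h5 : a = piPart π N := by
    by_contra hne
    have hlt : a < piPart π N := lt_of_le_of_ne h3 hne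
    have : a * b < piPart π N * piPrimePart π N :=
      calc a * b < piPart π N * b := Nat.mul_lt_mul_of_pos_right hlt (Nat.pos_of_ne_zero hb0)
        _ ≤ piPart π N * piPrimePart π N := Nat.mul_le_mul_left _ h4
    rw [hab, hmn] at this
    exact lt_irrefl _ this
  refine ⟨h5, ?_⟩
  rw [h5] at hab
  exact Nat.eq_of_mul_eq_mul_left (Nat.pos_of_ne_zero hm0) (hab.trans hmn.symm)

/-- `IsPiHallOf` in terms of the order. -/
theorem isPiHallOf_iff_card [Finite G] (π : Set ℕ) (H M : Subgroup G) :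
    Cfsg.IsPiHallOf π H M ↔ H ≤ M ∧ Nat.card H = piPart π (Nat.card M) := by
  have hM0 : Nat.card M ≠ 0 := Nat.card_pos.ne'
  constructor
  · rintro ⟨hHM, h1, h2⟩
    refine ⟨hHM, ?_⟩
    exact (eq_piPart_of_mul π hM0 (card_mul_relIndex_eq hHM) h1 h2).1
  · rintro ⟨hHM, hc⟩
    refine ⟨hHM, ?_, ?_⟩
    · intro q hq hdvd
      rw [hc] at hdvd
      exact mem_of_prime_dvd_piPart π hq hdvd
    · intro q hq hqπ hdvd
      have h1 := card_mul_relIndex_eq hHM
      rw [hc] at h1
      have hm0 : piPart π (Nat.card M) ≠ 0 := by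
        intro h; rw [h, zero_mul] at h1; exact hM0 h1.symm
      have h2 : H.relIndex M = piPrimePart π (Nat.card M) :=
        Nat.eq_of_mul_eq_mul_left (Nat.pos_of_ne_zero hm0)
          (h1.trans (piPart_mul_piPrimePart π hM0).symm)
      rw [h2] at hdvd
      exact not_mem_of_prime_dvd_piPrimePart π hq hdvd hqπ

end PiPart

section HallInternal

/-- Hall existence, internal form. -/
theorem hall_exists_internal [Finite G] (K : Subgroup G) (hK : Group.IsSolvable K) (m n : ℕ)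
    (hmn : Nat.card K = m * n) (hcop : m.Coprime n) : ∃ Q : Subgroup G, Q ≤ K ∧ Nat.card Q = m := by
  obtain ⟨H, hH, -⟩ := Cfsg.Agent.Helper1.hall_exists_dominant (G := K) m n hmn hcop
  refine ⟨H.map K.subtype, ?_, ?_⟩
  · rintro x ⟨y, _, rfl⟩
    exact y.2
  · rw [card_map_of_injective K.subtype_injective, hH]

/-- Hall conjugacy, internal form. -/
theorem hall_conj_internal [Finite G] (K : Subgroup G) (hK : Group.IsSolvable K) (m n : ℕ)
    (hmn : Nat.card K = m * n) (hcop : m.Coprime n) (Q₁ Q₂ : Subgroup G) (h₁ : Q₁ ≤ K) (h₂ : Q₂ ≤ K)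
    (c₁ : Nat.card Q₁ = m) (c₂ : Nat.card Q₂ = m) :
    ∃ k ∈ K, Q₂ = Q₁.map (MulAut.conj k).toMonoidHom := by
  have c₁' : Nat.card (Q₁.subgroupOf K) = m := by
    rw [← c₁]; exact Nat.card_congr (subgroupOfEquivOfLe h₁).toEquiv
  have c₂' : Nat.card (Q₂.subgroupOf K) = m := by
    rw [← c₂]; exact Nat.card_congr (subgroupOfEquivOfLe h₂).toEquiv
  obtain ⟨g, hg⟩ := Cfsg.Agent.Helper1.hall_conj (G := K) m n hmn hcop _ _ c₁' c₂'
  refine ⟨g, g.2, ?_⟩
  rw [conj_smul_eq_map] at hg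
  have h := congrArg (Subgroup.map K.subtype) hg
  rw [Cfsg.Agent.Helper24.map_conj_map, map_subgroupOf_eq_of_le h₁, map_subgroupOf_eq_of_le h₂] at h
  exact h.symm

end HallInternal

section HallCoprime

/-- (a) for Hall subgroups, order form. -/
theorem exists_invariant_hall [Finite G] (A K : Subgroup G) (hAK : A ≤ normalizer (K : Set G))
    (hcop : (Nat.card A).Coprime (Nat.card K)) (hK : Group.IsSolvable K) (m n : ℕ)
    (hmn : Nat.card K = m * n) (hcopmn : m.Coprime n) :
    ∃ Q : Subgroup G, Q ≤ K ∧ Nat.card Q = m ∧ A ≤ normalizer (Q : Set G) := by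
  obtain ⟨Q₀, h, c⟩ := hall_exists_internal K hK m n hmn hcopmn
  exact exists_invariant_of_conj A K hAK hcop (Or.inr hK) m Q₀ h c
    (fun Q₁ Q₂ h₁ h₂ c₁ c₂ => hall_conj_internal K hK m n hmn hcopmn Q₁ Q₂ h₁ h₂ c₁ c₂)

/-- (b) for Hall subgroups, order form. -/
theorem exists_centralizer_conj_hall [Finite G] (A K : Subgroup G) (hAK : A ≤ normalizer (K : Set G))
    (hcop : (Nat.card A).Coprime (Nat.card K)) (hK : Group.IsSolvable K) (m n : ℕ)
    (hmn : Nat.card K = m * n) (hcopmn : m.Coprime n) (Q₁ Q₂ : Subgroup G) (h₁ : Q₁ ≤ K)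
    (h₂ : Q₂ ≤ K) (c₁ : Nat.card Q₁ = m) (c₂ : Nat.card Q₂ = m)
    (hA₁ : A ≤ normalizer (Q₁ : Set G)) (hA₂ : A ≤ normalizer (Q₂ : Set G)) :
    ∃ c ∈ K ⊓ centralizer (A : Set G), Q₂ = Q₁.map (MulAut.conj c).toMonoidHom := by
  obtain ⟨k, hk, hkk⟩ := hall_conj_internal K hK m n hmn hcopmn Q₁ Q₂ h₁ h₂ c₁ c₂
  exact exists_centralizer_conj_of_conj A K hAK hcop (Or.inr hK) Q₁ Q₂ k hk hkk hA₁ hA₂

/-- internal derived series of a subgroup -/
def dser (K : Subgroup G) : ℕ → Subgroup G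
  | 0 => K
  | n + 1 => ⁅dser K n, dser K n⁆

theorem dser_normal (K : Subgroup G) [K.Normal] : ∀ n, (dser K n).Normal
  | 0 => by unfold dser; infer_instance
  | n + 1 => by
    have := dser_normal K n
    unfold dser
    exact Subgroup.commutator_normal _ _

theorem dser_le (K : Subgroup G) [K.Normal] : ∀ n, dser K n ≤ K
  | 0 => le_rfl
  | n + 1 => by
    have := dser_normal K n
    have h : dser K (n + 1) = ⁅dser K n, dser K n⁆ := rfl
    rw [h]
    exact (Subgroup.commutator_le_left _ _).trans (dser_le K n)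

theorem dser_eq_map (K : Subgroup G) : ∀ n, dser K n = (derivedSeries K n).map K.subtype
  | 0 => by
    show K = _
    rw [derivedSeries_zero, ← MonoidHom.range_eq_map, Subgroup.range_subtype]
  | n + 1 => by
    have h : dser K (n + 1) = ⁅dser K n, dser K n⁆ := rfl
    rw [h, dser_eq_map K n, derivedSeries_succ, Subgroup.map_commutator]

/-- a nontrivial solvable normal subgroup contains a nontrivial normal `r`-subgroup of the
whole group. -/
theorem exists_normal_pgroup_le [Finite G] (K : Subgroup G) [K.Normal] (hK : Group.IsSolvable K)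
    (hne : K ≠ ⊥) :
    ∃ r : ℕ, r.Prime ∧ ∃ R : Subgroup G, R.Normal ∧ R ≤ K ∧ R ≠ ⊥ ∧ IsPGroup r R := by
  classical
  have hs : ∃ n : ℕ, dser K n = ⊥ := by
    obtain ⟨n, hn⟩ := hK.solvable
    exact ⟨n, by rw [dser_eq_map, hn, Subgroup.map_bot]⟩
  have h0 : Nat.find hs ≠ 0 := by
    intro h
    have := Nat.find_spec hs
    rw [h] at this
    exact hne this
  obtain ⟨j, hj⟩ := Nat.exists_eq_succ_of_ne_zero h0
  set D := dser K j with hD
  have hDn : D.Normal := dser_normal K j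
  have hDK : D ≤ K := dser_le K j
  have hDne : D ≠ ⊥ := by
    intro h
    have := Nat.find_min' hs h
    omega
  have hab : ⁅D, D⁆ = ⊥ := by
    have := Nat.find_spec hs
    rw [hj] at this
    exact this
  obtain ⟨r, hr, R, hRn, hRne, hRD, -, hRp⟩ :=
    Cfsg.Agent.Helper1.exists_normal_elementary_of_abelian D hDne hab
  exact ⟨r, hr, R, hRn, hRD.trans hDK, hRne, Cfsg.Agent.Helper1.isPGroup_of_forall_pow_eq_one R hRp⟩

/-- conjugating an `A`-invariant subgroup by an element of `C(A)` keeps it `A`-invariant -/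
theorem le_normalizer_map_conj_of_mem_centralizer {A H : Subgroup G} {c : G}
    (hAH : A ≤ normalizer (H : Set G)) (hc : c ∈ centralizer (A : Set G)) :
    A ≤ normalizer ((H.map (MulAut.conj c).toMonoidHom : Subgroup G) : Set G) := by
  intro a ha
  apply mem_normalizer_of_map_conj_eq
  rw [Cfsg.Agent.Helper24.map_conj_map_conj]
  have hac : a * c = c * a := (mem_centralizer_iff.mp hc a ha)
  rw [hac, ← Cfsg.Agent.Helper24.map_conj_map_conj, map_conj_eq_of_mem_normalizer (hAH ha)]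

/-- the statement of (c), for groups `K` of order `N` -/
def HallGE (N : ℕ) : Prop :=
  ∀ (X : Type u) [Group X] [Finite X] (A K U : Subgroup X), Nat.card K = N →
    A ≤ normalizer (K : Set X) → (Nat.card A).Coprime (Nat.card K) → Group.IsSolvable K →
    ∀ m n : ℕ, Nat.card K = m * n → m.Coprime n → U ≤ K → A ≤ normalizer (U : Set X) →
    (Nat.card U).Coprime n →
    ∃ Q : Subgroup X, Q ≤ K ∧ Nat.card Q = m ∧ U ≤ Q ∧ A ≤ normalizer (Q : Set X)

/-- the special case of (c): `K` has a normal Hall subgroup `R` of order `n`. -/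
theorem hallGE_special (X : Type u) [Group X] [Finite X] (A K U R : Subgroup X) [R.Normal]
    (hAK : A ≤ normalizer (K : Set X)) (hcop : (Nat.card A).Coprime (Nat.card K))
    (hK : Group.IsSolvable K) (m n : ℕ) (hmn : Nat.card K = m * n) (hcopmn : m.Coprime n)
    (hUK : U ≤ K) (hAU : A ≤ normalizer (U : Set X)) (hUn : (Nat.card U).Coprime n)
    (hRK : R ≤ K) (hRc : Nat.card R = n) :
    ∃ Q : Subgroup X, Q ≤ K ∧ Nat.card Q = m ∧ U ≤ Q ∧ A ≤ normalizer (Q : Set X) := by
  obtain ⟨H₁, hH₁K, hH₁c, hAH₁⟩ := exists_invariant_hall A K hAK hcop hK m n hmn hcopmn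
  set UR := R ⊔ U with hUR
  set V := UR ⊓ H₁ with hV
  have hAR : A ≤ normalizer (R : Set X) := by rw [normalizer_eq_top]; exact le_top
  have hAUR : A ≤ normalizer (UR : Set X) := by
    intro a ha
    apply mem_normalizer_of_map_conj_eq
    rw [hUR, Subgroup.map_sup, map_conj_eq_of_mem_normalizer (hAR ha),
      map_conj_eq_of_mem_normalizer (hAU ha)]
  have hAV : A ≤ normalizer (V : Set X) := by
    intro a ha
    exact Cfsg.Agent.Helper48.mem_normalizer_inf' (hAUR ha) (hAH₁ ha)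
  have hURK : UR ≤ K := sup_le hRK hUK
  have hRU : R ⊓ U = ⊥ := by
    have : (Nat.card R).Coprime (Nat.card U) := by rw [hRc]; exact hUn.symm
    exact (disjoint_of_coprime_natCard this).eq_bot
  have hRH₁ : R ⊓ H₁ = ⊥ := by
    have : (Nat.card R).Coprime (Nat.card H₁) := by rw [hRc, hH₁c]; exact hcopmn.symm
    exact (disjoint_of_coprime_natCard this).eq_bot
  have hRV : R ⊓ V = ⊥ := by
    rw [eq_bot_iff, ← hRH₁]
    exact inf_le_inf_left _ inf_le_right
  have hcUR : Nat.card UR = n * Nat.card U := by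
    rw [hUR, Cfsg.Agent.Helper62.card_sup_of_inf_eq_bot R U hRU, hRc]
  -- `K = R H₁`
  have hKeq : R ⊔ H₁ = K := by
    apply Subgroup.eq_of_le_of_card_ge (sup_le hRK hH₁K)
    rw [Cfsg.Agent.Helper62.card_sup_of_inf_eq_bot R H₁ hRH₁, hRc, hH₁c, hmn, mul_comm]
  have hUReq : R ⊔ V = UR := by
    apply le_antisymm (sup_le le_sup_left inf_le_left)
    intro x hx
    have hxK : x ∈ R ⊔ H₁ := by rw [hKeq]; exact hURK hx
    obtain ⟨ρ, hρ, h, hh, rfl⟩ := mem_sup_of_normal_left.mp hxK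
    refine mul_mem_sup hρ (mem_inf.mpr ⟨?_, hh⟩)
    have : h = ρ⁻¹ * (ρ * h) := by group
    rw [this]
    exact UR.mul_mem (UR.inv_mem (le_sup_left (a := R) hρ)) hx
  have hcV : Nat.card V = Nat.card U := by
    have h1 : Nat.card UR = n * Nat.card V := by
      rw [← hUReq, Cfsg.Agent.Helper62.card_sup_of_inf_eq_bot R V hRV, hRc]
    have hn0 : 0 < n := by
      rcases Nat.eq_zero_or_pos n with h | h
      · rw [h, mul_zero] at hmn
        exact absurd hmn Nat.card_pos.ne'
      · exact h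
    rw [hcUR] at h1
    exact (Nat.eq_of_mul_eq_mul_left hn0 h1).symm
  have hURsolv : Group.IsSolvable UR := Cfsg.Agent.Helper24.isSolvable_of_le UR K hURK hK
  have hcopUR : (Nat.card A).Coprime (Nat.card UR) :=
    Nat.Coprime.coprime_dvd_right (card_dvd_of_le hURK) hcop
  obtain ⟨c, hc, hVc⟩ := exists_centralizer_conj_hall A UR hAUR hcopUR hURsolv (Nat.card U) n
    (by rw [hcUR, mul_comm]) hUn V U inf_le_left le_sup_right hcV rfl hAV hAU
  obtain ⟨hcUR', hcA⟩ := mem_inf.mp hc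
  refine ⟨H₁.map (MulAut.conj c).toMonoidHom, ?_, ?_, ?_, ?_⟩
  · exact map_conj_le_of_le_normalizer hH₁K (le_normalizer (hURK hcUR'))
  · rw [card_map_conj, hH₁c]
  · rw [hVc]
    exact Subgroup.map_mono inf_le_right
  · exact le_normalizer_map_conj_of_mem_centralizer hAH₁ hcA

/-- the inductive step of (c) when `K` is normal in the ambient group. -/
theorem hallGE_step_normal (N : ℕ) (ih : ∀ N' < N, HallGE.{u} N') (X : Type u) [Group X] [Finite X]
    (A K U : Subgroup X) [hKn : K.Normal] (hN : Nat.card K = N)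
    (hcop : (Nat.card A).Coprime (Nat.card K)) (hK : Group.IsSolvable K) (m n : ℕ)
    (hmn : Nat.card K = m * n) (hcopmn : m.Coprime n) (hUK : U ≤ K)
    (hAU : A ≤ normalizer (U : Set X)) (hUn : (Nat.card U).Coprime n) :
    ∃ Q : Subgroup X, Q ≤ K ∧ Nat.card Q = m ∧ U ≤ Q ∧ A ≤ normalizer (Q : Set X) := by
  have hAK : A ≤ normalizer (K : Set X) := by rw [normalizer_eq_top]; exact le_top
  by_cases hn1 : n = 1
  · subst hn1
    exact ⟨K, le_rfl, by rw [hmn, mul_one], hUK, hAK⟩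
  have hKne : K ≠ ⊥ := by
    intro h
    rw [h, Subgroup.card_bot] at hmn
    exact hn1 (Nat.eq_one_of_mul_eq_one_left hmn.symm)
  obtain ⟨r, hr, R, hRn, hRK, hRne, hRp⟩ := exists_normal_pgroup_le K hK hKne
  have : Fact r.Prime := ⟨hr⟩
  obtain ⟨k, hk⟩ := IsPGroup.iff_card.mp hRp
  have hk0 : k ≠ 0 := by
    rintro rfl
    rw [pow_zero] at hk
    exact hRne (Subgroup.card_eq_one.mp hk)
  set π := QuotientGroup.mk' R with hπ
  have hπs : Function.Surjective π := QuotientGroup.mk'_surjective R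
  set Kb := K.map π with hKb
  set Ab := A.map π with hAb
  set Ub := U.map π with hUb
  have hcomapK : Kb.comap π = K := by
    rw [hKb, Subgroup.comap_map_eq, QuotientGroup.ker_mk', sup_eq_left.mpr hRK]
  have hcardKb : Nat.card R * Nat.card Kb = Nat.card K := by
    rw [← Cfsg.Agent.Helper1.card_comap_mk', hcomapK]
  have hrk2 : 2 ≤ r ^ k := by
    calc 2 ≤ r := hr.two_le
      _ = r ^ 1 := (pow_one r).symm
      _ ≤ r ^ k := Nat.pow_le_pow_right hr.pos (Nat.one_le_iff_ne_zero.mpr hk0)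
  have hKbpos : 0 < Nat.card Kb := Nat.card_pos
  have hKb_lt : Nat.card Kb < N := by
    rw [← hN, ← hcardKb, hk]
    nlinarith
  have hcopb : (Nat.card Ab).Coprime (Nat.card Kb) := by
    refine Nat.Coprime.coprime_dvd_left (Subgroup.card_map_dvd _ _) ?_
    exact Nat.Coprime.coprime_dvd_right (Dvd.intro_left _ hcardKb) hcop
  have hKbsolv : Group.IsSolvable Kb := by
    have := hK
    exact Group.isSolvable_of_surjective (MonoidHom.subgroupMap_surjective π K)
  have hKbn : Kb.Normal := Subgroup.Normal.map hKn π hπs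
  have hAbKb : Ab ≤ normalizer (Kb : Set (X ⧸ R)) := by rw [normalizer_eq_top]; exact le_top
  have hAbUb : Ab ≤ normalizer (Ub : Set (X ⧸ R)) :=
    (Subgroup.map_mono hAU).trans (Subgroup.le_normalizer_map π)
  have hUbdvd : Nat.card Ub ∣ Nat.card U := Subgroup.card_map_dvd _ _
  have hUbKb : Ub ≤ Kb := Subgroup.map_mono hUK
  have hr_dvd : r ∣ m * n := by
    rw [← hmn, ← hcardKb, hk]
    exact (dvd_pow_self r hk0).trans (dvd_mul_right _ _)
  have hrkdvd : r ^ k ∣ m * n := by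
    rw [← hmn, ← hcardKb, hk]; exact dvd_mul_right _ _
  -- pulling back a subgroup of the quotient
  have pull : ∀ Qb : Subgroup (X ⧸ R), Qb ≤ Kb → Ub ≤ Qb → Ab ≤ normalizer (Qb : Set (X ⧸ R)) →
      Qb.comap π ≤ K ∧ U ≤ Qb.comap π ∧ A ≤ normalizer ((Qb.comap π : Subgroup X) : Set X) ∧
      Nat.card (Qb.comap π) = r ^ k * Nat.card Qb := by
    intro Qb h1 h2 h3
    refine ⟨?_, ?_, ?_, ?_⟩
    · rw [← hcomapK]; exact Subgroup.comap_mono h1
    · exact Subgroup.map_le_iff_le_comap.mp h2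
    · intro a ha
      exact Subgroup.le_normalizer_comap π (h3 (Subgroup.mem_map_of_mem π ha))
    · rw [Cfsg.Agent.Helper1.card_comap_mk', hk]
  rcases (Nat.Prime.dvd_mul hr).mp hr_dvd with hrm | hrn
  · -- `r ∣ m`
    have hrn' : ¬ r ∣ n := fun h => hr.one_lt.ne' (Nat.eq_one_of_dvd_coprimes hcopmn hrm h)
    have hc1 : (r ^ k).Coprime n :=
      Nat.Coprime.pow_left k ((Nat.Prime.coprime_iff_not_dvd hr).mpr hrn')
    obtain ⟨m', rfl⟩ : r ^ k ∣ m := hc1.dvd_of_dvd_mul_right hrkdvd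
    have hq : Nat.card Kb = m' * n := by
      apply Nat.eq_of_mul_eq_mul_left (by omega : 0 < r ^ k)
      rw [← hk, hcardKb, hmn, hk]; ring
    have hcop' : m'.Coprime n := Nat.Coprime.coprime_dvd_left (dvd_mul_left _ _) hcopmn
    obtain ⟨Qb, hQbK, hQbc, hUQb, hAQb⟩ := ih _ hKb_lt (X ⧸ R) Ab Kb Ub rfl hAbKb hcopb hKbsolv
      m' n hq hcop' hUbKb hAbUb (Nat.Coprime.coprime_dvd_left hUbdvd hUn)
    obtain ⟨p1, p2, p3, p4⟩ := pull Qb hQbK hUQb hAQb
    exact ⟨Qb.comap π, p1, by rw [p4, hQbc], p2, p3⟩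
  · -- `r ∣ n`
    have hrm' : ¬ r ∣ m := fun h => hr.one_lt.ne' (Nat.eq_one_of_dvd_coprimes hcopmn h hrn)
    have hc1 : (r ^ k).Coprime m :=
      Nat.Coprime.pow_left k ((Nat.Prime.coprime_iff_not_dvd hr).mpr hrm')
    obtain ⟨n', rfl⟩ : r ^ k ∣ n := hc1.dvd_of_dvd_mul_left hrkdvd
    have hq : Nat.card Kb = m * n' := by
      apply Nat.eq_of_mul_eq_mul_left (by omega : 0 < r ^ k)
      rw [← hk, hcardKb, hmn, hk]; ring
    have hcop' : m.Coprime n' := Nat.Coprime.coprime_dvd_right (dvd_mul_left _ _) hcopmn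
    by_cases hn' : n' = 1
    · subst hn'
      rw [mul_one] at hmn hcopmn hUn
      exact hallGE_special X A K U R hAK hcop hK m (r ^ k) hmn hcopmn hUK hAU hUn hRK hk
    · obtain ⟨Qb, hQbK, hQbc, hUQb, hAQb⟩ := ih _ hKb_lt (X ⧸ R) Ab Kb Ub rfl hAbKb hcopb hKbsolv
        m n' hq hcop' hUbKb hAbUb
        (Nat.Coprime.coprime_dvd_left hUbdvd (Nat.Coprime.coprime_dvd_right (dvd_mul_left _ _) hUn))
      obtain ⟨p1, p2, p3, p4⟩ := pull Qb hQbK hUQb hAQb
      set L := Qb.comap π with hL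
      have hLc : Nat.card L = m * r ^ k := by rw [p4, hQbc, mul_comm]
      have hmpos : 0 < m := by
        rcases Nat.eq_zero_or_pos m with h | h
        · rw [h, zero_mul] at hmn
          exact absurd hmn Nat.card_pos.ne'
        · exact h
      have hn'pos : 0 < n' := by
        rcases Nat.eq_zero_or_pos n' with h | h
        · rw [h, mul_zero, mul_zero] at hmn
          exact absurd hmn Nat.card_pos.ne'
        · exact h
      have hL_lt : Nat.card L < N := by
        rw [← hN, hmn, hLc]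
        apply Nat.mul_lt_mul_of_pos_left _ hmpos
        have : 2 ≤ n' := by omega
        nlinarith
      obtain ⟨Q, hQL, hQc, hUQ, hAQ⟩ := ih _ hL_lt X A L U rfl p3
        (Nat.Coprime.coprime_dvd_right (card_dvd_of_le p1) hcop)
        (Cfsg.Agent.Helper24.isSolvable_of_le L K p1 hK) m (r ^ k) hLc hc1.symm p2 hAU
        (Nat.Coprime.coprime_dvd_right (dvd_mul_right _ _) hUn)
      exact ⟨Q, hQL.trans p1, hQc, hUQ, hAQ⟩

/-- (c), general internal form, by induction on `|K|`. -/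
theorem hallGE_all : ∀ N : ℕ, HallGE.{u} N := by
  intro N
  induction N using Nat.strong_induction_on with
  | _ N ih =>
  intro X _ _ A K U hN hAK hcop hK m n hmn hcopmn hUK hAU hUn
  set Γ := normalizer (K : Set X) with hΓ
  have hKΓ : K ≤ Γ := le_normalizer
  have hUΓ : U ≤ Γ := hUK.trans hKΓ
  have hK'n : (K.subgroupOf Γ).Normal := Subgroup.normal_in_normalizer
  have cK : Nat.card (K.subgroupOf Γ) = Nat.card K :=
    Nat.card_congr (subgroupOfEquivOfLe hKΓ).toEquiv
  have cA : Nat.card (A.subgroupOf Γ) = Nat.card A :=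
    Nat.card_congr (subgroupOfEquivOfLe hAK).toEquiv
  have cU : Nat.card (U.subgroupOf Γ) = Nat.card U :=
    Nat.card_congr (subgroupOfEquivOfLe hUΓ).toEquiv
  have hK's : Group.IsSolvable (K.subgroupOf Γ) :=
    Group.isSolvable_of_isSolvable_injective (f := (subgroupOfEquivOfLe hKΓ).toMonoidHom)
      (subgroupOfEquivOfLe hKΓ).injective
  have hU'K' : U.subgroupOf Γ ≤ K.subgroupOf Γ := by
    intro x hx
    exact mem_subgroupOf.mpr (hUK (mem_subgroupOf.mp hx))
  have hA'U' : A.subgroupOf Γ ≤ normalizer ((U.subgroupOf Γ : Subgroup Γ) : Set Γ) := by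
    intro a ha
    have h1 := hAU (mem_subgroupOf.mp ha)
    rw [mem_normalizer_iff] at h1 ⊢
    intro h
    rw [mem_subgroupOf, mem_subgroupOf]
    exact h1 (h : X)
  obtain ⟨Q', hQ'K, hQ'c, hUQ', hAQ'⟩ := hallGE_step_normal N ih Γ (A.subgroupOf Γ)
    (K.subgroupOf Γ) (U.subgroupOf Γ) (by rw [cK, hN]) (by rw [cA, cK]; exact hcop) hK's m n
    (by rw [cK]; exact hmn) hcopmn hU'K' hA'U' (by rw [cU]; exact hUn)
  refine ⟨Q'.map Γ.subtype, ?_, ?_, ?_, ?_⟩
  · have := Subgroup.map_mono (f := Γ.subtype) hQ'K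
    rwa [map_subgroupOf_eq_of_le hKΓ] at this
  · rw [card_map_of_injective Γ.subtype_injective, hQ'c]
  · have := Subgroup.map_mono (f := Γ.subtype) hUQ'
    rwa [map_subgroupOf_eq_of_le hUΓ] at this
  · intro a ha
    apply Subgroup.le_normalizer_map Γ.subtype
    exact ⟨⟨a, hAK ha⟩, hAQ' (mem_subgroupOf.mpr ha), rfl⟩

/-- **(c)**: coprime action on a solvable group: an invariant subgroup of order prime to `n` lies in
an invariant Hall subgroup of order `m` (`|K| = m n`, `(m,n) = 1`). -/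
theorem exists_invariant_hall_ge {X : Type u} [Group X] [Finite X] (A K U : Subgroup X)
    (hAK : A ≤ normalizer (K : Set X)) (hcop : (Nat.card A).Coprime (Nat.card K))
    (hK : Group.IsSolvable K) (m n : ℕ) (hmn : Nat.card K = m * n) (hcopmn : m.Coprime n)
    (hUK : U ≤ K) (hAU : A ≤ normalizer (U : Set X)) (hUn : (Nat.card U).Coprime n) :
    ∃ Q : Subgroup X, Q ≤ K ∧ Nat.card Q = m ∧ U ≤ Q ∧ A ≤ normalizer (Q : Set X) :=
  hallGE_all _ X A K U rfl hAK hcop hK m n hmn hcopmn hUK hAU hUn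

end HallCoprime

end Cfsg.Agent.Helper52
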