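import Mathlib
import Cfsg.Agent.S0031
import Cfsg.Agent.S0032

set_option autoImplicit false

namespace Cfsg.Agent.Helper52

open Subgroup

universe u

/-- `(φ ^ k) x` is the `k`-th iterate of `φ` at `x`. -/
theorem mulAut_pow_apply {G : Type*} [Group G] (φ : MulAut G) (k : ℕ) (x : G) :
    (φ ^ k) x = (⇑φ)^[k] x := by
  induction k generalizing x with
  | zero => simp
  | succ k ih =>
    rw [pow_succ, MulAut.mul_apply, ih, Function.iterate_succ_apply]

/-- **Abstract Frobenius norm computation.** A finite group `Q` acts on the finite abelian group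
`V` of coprime order without nontrivial fixed points; `σ i` are maps of `V` with
`v * ∏ i, σ i v = 1`, twisted-equivariant through bijections `e i` of `Q`. Then `V` is trivial. -/
theorem eq_one_of_frobenius_norm {V Q ι : Type*} [CommGroup V] [Finite V] [Group Q] [Fintype Q]
    (act : Q →* MulAut V) (J : Finset ι) (σ : ι → V → V) (e : ι → Q ≃ Q)
    (hfix : ∀ y : V, (∀ u : Q, act u y = y) → y = 1)
    (hrel : ∀ i ∈ J, ∀ (w : Q) (v : V), act w (σ i (act w⁻¹ v)) = act (e i w) (σ i v))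
    (hnorm : ∀ v : V, v * ∏ i ∈ J, σ i v = 1)
    (hcop : (Fintype.card Q).Coprime (Nat.card V)) (v : V) : v = 1 := by
  classical
  have hS : ∀ y : V, ∏ u : Q, act u y = 1 := by
    intro y
    apply hfix
    intro u'
    rw [map_prod]
    refine Fintype.prod_equiv (Equiv.mulLeft u') _ _ ?_
    intro u
    rw [Equiv.coe_mulLeft, map_mul, MulAut.mul_apply]
  have h1 : ∀ w : Q, v * ∏ i ∈ J, act (e i w) (σ i v) = 1 := by
    intro w
    have h2 := hnorm (act w⁻¹ v)
    have h3 := congrArg (act w) h2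
    rw [map_mul, map_one, map_prod] at h3
    have h4 : act w (act w⁻¹ v) = v := by
      rw [← MulAut.mul_apply, ← map_mul, mul_inv_cancel, map_one, MulAut.one_apply]
    rw [h4] at h3
    rw [← h3]
    congr 1
    exact Finset.prod_congr rfl (fun i hi => (hrel i hi w v).symm)
  have h5 : ∏ w : Q, (v * ∏ i ∈ J, act (e i w) (σ i v)) = 1 :=
    Finset.prod_eq_one (fun w _ => h1 w)
  rw [Finset.prod_mul_distrib, Finset.prod_const, Finset.card_univ, Finset.prod_comm] at h5
  have h6 : ∏ i ∈ J, ∏ w : Q, act (e i w) (σ i v) = 1 := by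
    apply Finset.prod_eq_one
    intro i _
    rw [← hS (σ i v)]
    exact Fintype.prod_equiv (e i) _ _ (fun w => rfl)
  rw [h6, mul_one] at h5
  have h7 : v ^ Nat.card V = 1 := pow_card_eq_one'
  have h8 : v ^ (Fintype.card Q).gcd (Nat.card V) = 1 := pow_gcd_eq_one.mpr ⟨h5, h7⟩
  rw [hcop, pow_one] at h8
  exact h8

section Internal

variable {G : Type*} [Group G]

/-- Nontrivial iterates (below the prime order) of a fixed-point-free automorphism are
fixed-point-free. -/
theorem fpf_iterate (φ : G ≃* G) (hφ : MonoidHom.FixedPointFree (φ : G →* G)) (p : ℕ)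
    (hp : p.Prime) (hφp : (⇑φ)^[p] = id) (j : ℕ) (hj0 : 0 < j) (hjp : j < p) (x : G)
    (hx : (⇑φ)^[j] x = x) : x = 1 := by
  have hcop : Nat.Coprime j p := (Nat.coprime_of_lt_prime hj0.ne' hjp hp).symm
  obtain ⟨m, -, hm⟩ := Nat.exists_mul_mod_eq_one_of_coprime hcop hp.one_lt
  have h1 : (⇑φ)^[j * m] x = x := by
    rw [Function.iterate_mul]
    exact Function.iterate_fixed hx m
  have h2 : j * m = p * (j * m / p) + 1 := by
    have := Nat.div_add_mod (j * m) p
    omega
  rw [h2, Function.iterate_succ_apply', Function.iterate_mul, hφp, Function.iterate_id] at h1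
  exact hφ x h1

theorem iterate_mem {φ : G ≃* G} {H : Subgroup G} (hH : ∀ x ∈ H, φ x ∈ H) (k : ℕ) :
    ∀ x ∈ H, (⇑φ)^[k] x ∈ H := by
  induction k with
  | zero => intro x hx; simpa using hx
  | succ k ih =>
    intro x hx
    rw [Function.iterate_succ_apply']
    exact hH _ (ih x hx)

/-- **Frobenius norm argument, internal form.** `φ` fixed-point-free of prime order `p`; `V`
abelian and `Q` are `φ`-invariant subgroups, `Q` normalizes `V`, `C_V(Q) = 1` and
`(|Q|, |V|) = 1`. Then `V = 1`. -/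
theorem eq_bot_of_frobenius [Finite G] (φ : G ≃* G)
    (hφ : MonoidHom.FixedPointFree (φ : G →* G)) (p : ℕ) (hp : p.Prime) (hφp : (⇑φ)^[p] = id)
    (V Q : Subgroup G) (hVc : ∀ a ∈ V, ∀ b ∈ V, a * b = b * a) (hφV : ∀ v ∈ V, φ v ∈ V)
    (hφQ : ∀ w ∈ Q, φ w ∈ Q) (hQV : Q ≤ normalizer (V : Set G))
    (hC : ∀ v ∈ V, (∀ u ∈ Q, u * v * u⁻¹ = v) → v = 1)
    (hcop : (Nat.card Q).Coprime (Nat.card V)) : V = ⊥ := by
  classical
  letI : CommGroup V :=
    { (inferInstance : Group V) with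
      mul_comm := fun a b => Subtype.ext (hVc a a.2 b b.2) }
  letI : Fintype Q := Fintype.ofFinite Q
  let act : Q →* MulAut V := V.normalizerMonoidHom.comp (Subgroup.inclusion hQV)
  have hact : ∀ (w : Q) (v : V), ((act w v : V) : G) = w * v * (w : G)⁻¹ := fun w v => rfl
  let σ : ℕ → V → V := fun i v => ⟨(⇑φ)^[i + 1] v, iterate_mem hφV (i + 1) v v.2⟩
  have hinj : ∀ j : ℕ, 0 < j → j < p →
      Function.Injective (fun w : Q => (⟨w * ((⇑φ)^[j] w)⁻¹,
        mul_mem w.2 (inv_mem (iterate_mem hφQ j w w.2))⟩ : Q)) := by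
    intro j hj0 hjp w w' hww
    have h1 : (w : G) * ((⇑φ)^[j] w)⁻¹ = w' * ((⇑φ)^[j] w')⁻¹ := congrArg Subtype.val hww
    have h2 : (⇑φ)^[j] ((w' : G)⁻¹ * w) = (w' : G)⁻¹ * w := by
      have h3 : (⇑φ)^[j] ((w' : G)⁻¹ * w) = ((⇑φ)^[j] (w' : G))⁻¹ * (⇑φ)^[j] (w : G) := by
        rw [iterate_map_mul, iterate_map_inv]
      rw [h3]
      calc ((⇑φ)^[j] (w' : G))⁻¹ * (⇑φ)^[j] (w : G)
          = (w' : G)⁻¹ * ((w' : G) * ((⇑φ)^[j] (w' : G))⁻¹) * (⇑φ)^[j] (w : G) := by group
        _ = (w' : G)⁻¹ * ((w : G) * ((⇑φ)^[j] (w : G))⁻¹) * (⇑φ)^[j] (w : G) := by rw [h1]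
        _ = (w' : G)⁻¹ * w := by group
    have h4 := fpf_iterate φ hφ p hp hφp j hj0 hjp _ h2
    apply Subtype.ext
    have h5 : (w : G) = w' * ((w' : G)⁻¹ * w) := by group
    rw [h5, h4, mul_one]
  let e : ℕ → Q ≃ Q := fun i =>
    if h : i + 1 < p then
      Equiv.ofBijective _ ((Finite.injective_iff_bijective).mp (hinj (i + 1) (Nat.succ_pos i) h))
    else Equiv.refl Q
  have he : ∀ i : ℕ, i + 1 < p → ∀ w : Q, ((e i w : Q) : G) = w * ((⇑φ)^[i + 1] w)⁻¹ := by
    intro i hi w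
    simp only [e, dif_pos hi]
    rfl
  have hall : ∀ v : V, v = 1 := by
    apply eq_one_of_frobenius_norm act (Finset.range (p - 1)) σ e
    · intro y hy
      have h1 := hC y y.2 (fun u hu => by
        have h2 := hy ⟨u, hu⟩
        have h3 := congrArg Subtype.val h2
        rw [hact] at h3
        exact h3)
      exact Subtype.ext h1
    · intro i hi w v
      have hi' : i + 1 < p := by
        have := Finset.mem_range.mp hi
        omega
      apply Subtype.ext
      rw [hact, hact]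
      show (w : G) * (⇑φ)^[i + 1] ((act w⁻¹ v : V) : G) * (w : G)⁻¹ =
        ((e i w : Q) : G) * (⇑φ)^[i + 1] (v : G) * ((e i w : Q) : G)⁻¹
      rw [hact, he i hi', iterate_map_mul, iterate_map_mul]
      have h6 : (⇑φ)^[i + 1] (((w⁻¹ : Q) : G)) = ((⇑φ)^[i + 1] (w : G))⁻¹ := by
        rw [InvMemClass.coe_inv, iterate_map_inv]
      have h7 : (⇑φ)^[i + 1] ((((w⁻¹ : Q) : G))⁻¹) = (⇑φ)^[i + 1] (w : G) := by
        rw [InvMemClass.coe_inv, inv_inv]
      rw [h6, h7]
      group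
    · intro v
      have key : ∀ n : ℕ, ((v * ∏ i ∈ Finset.range n, σ i v : V) : G) =
          ((List.range (n + 1)).map (fun k => (⇑φ)^[k] (v : G))).prod := by
        intro n
        induction n with
        | zero => simp
        | succ n ih =>
          rw [Finset.prod_range_succ, ← mul_assoc, Subgroup.coe_mul, ih,
            List.prod_range_succ (fun k => (⇑φ)^[k] (v : G)) (n + 1)]
      apply Subtype.ext
      rw [key (p - 1)]
      have h8 : p - 1 + 1 = p := Nat.sub_add_cancel hp.one_lt.le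
      rw [h8]
      exact MonoidHom.FixedPointFree.prod_pow_eq_one (φ := (φ : G →* G)) hφ hφp (v : G)
    · rw [← Nat.card_eq_fintype_card]
      exact hcop
  rw [eq_bot_iff]
  intro v hv
  have := hall ⟨v, hv⟩
  rw [mem_bot]
  exact congrArg Subtype.val this

end Internal

section Restrict

variable {G : Type*} [Group G] [Finite G]

theorem map_eq_of_invariant (φ : G ≃* G) (H : Subgroup G) (hH : ∀ x ∈ H, φ x ∈ H) :
    H.map (φ : G →* G) = H := by
  apply Subgroup.eq_of_le_of_card_ge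
  · rintro _ ⟨x, hx, rfl⟩
    exact hH x hx
  · rw [Subgroup.card_map_of_injective (f := (φ : G →* G)) φ.injective]

theorem invariant_of_map_eq (φ : G ≃* G) (H : Subgroup G) (hH : H.map (φ : G →* G) = H) :
    ∀ x ∈ H, φ x ∈ H := by
  intro x hx
  rw [← hH]
  exact ⟨x, hx, rfl⟩

/-- Restriction of an automorphism to an invariant subgroup of a finite group. -/
noncomputable def restrictEquiv (φ : G ≃* G) (H : Subgroup G) (hH : ∀ x ∈ H, φ x ∈ H) :
    H ≃* H :=
  MulEquiv.ofBijective (((φ : G →* G).comp H.subtype).codRestrict H (fun x => hH x x.2))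
    (by
      rw [← Finite.injective_iff_bijective]
      intro x y hxy
      apply Subtype.ext
      apply φ.injective
      exact congrArg Subtype.val hxy)

theorem restrictEquiv_apply (φ : G ≃* G) (H : Subgroup G) (hH : ∀ x ∈ H, φ x ∈ H) (x : H) :
    ((restrictEquiv φ H hH x : H) : G) = φ x := rfl

theorem restrictEquiv_iterate (φ : G ≃* G) (H : Subgroup G) (hH : ∀ x ∈ H, φ x ∈ H) (k : ℕ)
    (x : H) : (((⇑(restrictEquiv φ H hH))^[k] x : H) : G) = (⇑φ)^[k] (x : G) := by
  induction k with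
  | zero => rfl
  | succ k ih =>
    rw [Function.iterate_succ_apply', Function.iterate_succ_apply', restrictEquiv_apply, ih]

theorem restrictEquiv_fpf (φ : G ≃* G) (hφ : MonoidHom.FixedPointFree (φ : G →* G))
    (H : Subgroup G) (hH : ∀ x ∈ H, φ x ∈ H) :
    MonoidHom.FixedPointFree ((restrictEquiv φ H hH : H ≃* H) : H →* H) := by
  intro x hx
  apply Subtype.ext
  apply hφ
  exact congrArg Subtype.val hx

theorem restrictEquiv_iterate_eq_id (φ : G ≃* G) (H : Subgroup G) (hH : ∀ x ∈ H, φ x ∈ H)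
    (p : ℕ) (hφp : (⇑φ)^[p] = id) : (⇑(restrictEquiv φ H hH))^[p] = id := by
  funext x
  apply Subtype.ext
  rw [restrictEquiv_iterate, hφp]
  rfl

/-- The automorphism induced on the quotient by an invariant normal subgroup. -/
noncomputable def quotEquiv (φ : G ≃* G) (N : Subgroup G) [N.Normal] (hN : ∀ x ∈ N, φ x ∈ N) :
    G ⧸ N ≃* G ⧸ N :=
  QuotientGroup.congr N N φ (map_eq_of_invariant φ N hN)

theorem quotEquiv_mk (φ : G ≃* G) (N : Subgroup G) [N.Normal] (hN : ∀ x ∈ N, φ x ∈ N) (x : G) :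
    quotEquiv φ N hN (x : G ⧸ N) = ((φ x : G) : G ⧸ N) :=
  QuotientGroup.congr_mk N N φ (map_eq_of_invariant φ N hN) x

theorem quotEquiv_iterate (φ : G ≃* G) (N : Subgroup G) [N.Normal] (hN : ∀ x ∈ N, φ x ∈ N)
    (k : ℕ) (x : G) :
    (⇑(quotEquiv φ N hN))^[k] (x : G ⧸ N) = (((⇑φ)^[k] x : G) : G ⧸ N) := by
  induction k with
  | zero => rfl
  | succ k ih =>
    rw [Function.iterate_succ_apply', Function.iterate_succ_apply', ih, quotEquiv_mk]

theorem quotEquiv_fpf (φ : G ≃* G) (hφ : MonoidHom.FixedPointFree (φ : G →* G))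
    (N : Subgroup G) [N.Normal] (hN : ∀ x ∈ N, φ x ∈ N) :
    MonoidHom.FixedPointFree ((quotEquiv φ N hN : G ⧸ N ≃* G ⧸ N) : G ⧸ N →* G ⧸ N) := by
  intro y hy
  obtain ⟨x, rfl⟩ := QuotientGroup.mk_surjective y
  have h1 : ((φ x : G) : G ⧸ N) = (x : G ⧸ N) := by
    rw [← quotEquiv_mk φ N hN]
    exact hy
  rw [QuotientGroup.eq] at h1
  have h2 := Cfsg.Agent.S0032.result φ hφ N hN x h1
  exact (QuotientGroup.eq_one_iff x).mpr h2

theorem quotEquiv_iterate_eq_id (φ : G ≃* G) (N : Subgroup G) [N.Normal]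
    (hN : ∀ x ∈ N, φ x ∈ N) (p : ℕ) (hφp : (⇑φ)^[p] = id) :
    (⇑(quotEquiv φ N hN))^[p] = id := by
  funext y
  obtain ⟨x, rfl⟩ := QuotientGroup.mk_surjective y
  rw [quotEquiv_iterate, hφp]
  rfl

/-- A fixed-point-free automorphism leaves a Sylow `q`-subgroup invariant. -/
theorem exists_fpf_invariant_sylow (φ : G ≃* G) (hφ : MonoidHom.FixedPointFree (φ : G →* G))
    (q : ℕ) [Fact q.Prime] : ∃ Q : Sylow q G, ∀ x ∈ Q, φ x ∈ Q := by
  obtain ⟨Q, hQ⟩ := Cfsg.Agent.S0031.result φ hφ q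
  exact ⟨Q, invariant_of_map_eq φ Q hQ⟩

end Restrict

end Cfsg.Agent.Helper52
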