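import Mathlib
import Cfsg.Agent.Lib.Helper52.FixedPointFree
import Cfsg.Agent.Lib.Helper11.ZJ9
import Cfsg.Agent.Lib.Helper2.Frobenius
import Cfsg.Agent.Lib.Helper90.MinNonNilp

/-!
# Thompson's theorem on fixed-point-free automorphisms of prime order

The theorem is proved relative to the Glauberman-Thompson normal `p`-complement theorem
(`GlaubermanHyp`), which is statement S0659.
-/

set_option autoImplicit false
set_option linter.style.haveILetI false
set_option linter.unusedSectionVars false

namespace Cfsg.Agent.Helper52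

open Subgroup

universe u

/-- The Glauberman--Thompson normal `p`-complement theorem, as a hypothesis in universe `u`. -/
def GlaubermanHyp : Prop :=
  ∀ (H : Type u) [Group H] [Finite H] (q : ℕ) [Fact q.Prime], q ≠ 2 → ∀ P : Sylow q H,
    Cfsg.HasNormalPComplement q
      ↥(Subgroup.normalizer (Cfsg.centerThompsonAOf (P : Subgroup H) : Set H)) →
    Cfsg.HasNormalPComplement q H

/-- Finite nilpotent groups have normal `q`-complements. -/
theorem hasNormalPComplement_of_isNilpotent {N : Type u} [Group N] [Finite N]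
    [Group.IsNilpotent N] (q : ℕ) [Fact q.Prime] : Cfsg.HasNormalPComplement q N := by
  apply Cfsg.Agent.Helper2.frobenius q
  intro X hX g _ hgo
  exact Cfsg.Agent.Helper90.mem_centralizer_of_coprime_of_isNilpotent q X hX g hgo

/-- If a finite group is not a `r`-group then another prime divides its order. -/
theorem exists_prime_ne_dvd_card {G : Type*} [Group G] [Finite G] (r : ℕ) [Fact r.Prime]
    (h : ¬ IsPGroup r G) : ∃ q : ℕ, q.Prime ∧ q ≠ r ∧ q ∣ Nat.card G := by
  by_contra hcon
  push Not at hcon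
  apply h
  rw [IsPGroup.iff_card]
  have h1 : Nat.card G ≠ 0 := Nat.card_pos.ne'
  exact ⟨_, Nat.eq_prime_pow_of_unique_prime_dvd h1 (fun {d} hd hdvd => by
    by_contra hne
    exact hcon d hd hne hdvd)⟩

theorem card_lt_of_ne_top {G : Type*} [Group G] [Finite G] (H : Subgroup G) (h : H ≠ ⊤) :
    Nat.card H < Nat.card G := by
  have h1 : Nat.card H ≤ Nat.card G := Subgroup.card_le_card_group H
  rcases h1.lt_or_eq with h2 | h2
  · exact h2
  · exact absurd (Subgroup.card_eq_iff_eq_top H |>.mp h2) h

theorem card_quotient_lt_of_ne_bot {G : Type*} [Group G] [Finite G] (N : Subgroup G) [N.Normal]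
    (h : N ≠ ⊥) : Nat.card (G ⧸ N) < Nat.card G := by
  have h1 : Nat.card N * N.index = Nat.card G := N.card_mul_index
  have h2 : 1 < Nat.card N := by
    rw [Subgroup.one_lt_card_iff_ne_bot]
    exact h
  have h3 : 0 < N.index := Nat.pos_of_ne_zero Subgroup.index_ne_zero_of_finite
  have h4 : Nat.card (G ⧸ N) = N.index := rfl
  rw [h4]
  nlinarith

section Steps

variable {G : Type u} [Group G] [Finite G]

/-- In the minimal situation the group is solvable. -/
theorem solvable_step (hGl : GlaubermanHyp.{u}) (φ : G ≃* G)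
    (hφ : MonoidHom.FixedPointFree (φ : G →* G))
    (hsub : ∀ H : Subgroup G, (∀ x ∈ H, φ x ∈ H) → H ≠ ⊤ → Group.IsNilpotent H)
    (hquo : ∀ (N : Subgroup G) [N.Normal], (∀ x ∈ N, φ x ∈ N) → N ≠ ⊥ →
      Group.IsNilpotent (G ⧸ N)) : Group.IsSolvable G := by
  haveI : Fact (Nat.Prime 2) := ⟨Nat.prime_two⟩
  by_cases h2 : IsPGroup 2 G
  · haveI := h2.isNilpotent
    infer_instance
  obtain ⟨q, hq, hq2, hqdvd⟩ := exists_prime_ne_dvd_card 2 h2
  haveI : Fact q.Prime := ⟨hq⟩
  obtain ⟨Q, hQ⟩ := exists_fpf_invariant_sylow φ hφ q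
  have hQne : (Q : Subgroup G) ≠ ⊥ := Q.ne_bot_of_dvd_card hqdvd
  have hGood := Cfsg.Agent.Helper11.ZJ.goodAx_comm (G := G)
  set W : Subgroup G := Cfsg.centerThompsonAOf (Q : Subgroup G) with hWdef
  have hWeq : W = Cfsg.Agent.Helper11.ZJ.W (fun A : Subgroup G => IsMulCommutative A)
      (Q : Subgroup G) := Cfsg.Agent.Helper11.ZJ.centerThompsonAOf_eq_W _
  have hWne : W ≠ ⊥ := by
    rw [hWeq]
    exact Cfsg.Agent.Helper11.ZJ.ZJ_ne_bot Q.isPGroup' hQne
  have hWQ : W ≤ (Q : Subgroup G) := by
    rw [hWeq]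
    exact Cfsg.Agent.Helper11.ZJ.W_le hGood _
  have hWmap : W.map (φ : G →* G) = W := by
    rw [hWeq]
    have h1 := Cfsg.Agent.Helper11.ZJ.W_map hGood φ (Q : Subgroup G)
    have h3 : (Q : Subgroup G).map φ.toMonoidHom = (Q : Subgroup G) :=
      map_eq_of_invariant φ Q hQ
    rw [h3] at h1
    exact h1
  have hWinv : ∀ x ∈ W, φ x ∈ W := invariant_of_map_eq φ W hWmap
  have hWp : IsPGroup q W := Q.isPGroup'.to_le hWQ
  set M : Subgroup G := Subgroup.normalizer (W : Set G) with hMdef
  have hMmap : M.map (φ : G →* G) = M := by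
    have h1 := Subgroup.map_equiv_normalizer_eq W φ
    have h3 : W.map φ.toMonoidHom = W := hWmap
    rw [h3] at h1
    exact h1
  have hMinv : ∀ x ∈ M, φ x ∈ M := invariant_of_map_eq φ M hMmap
  by_cases hM : M = ⊤
  · haveI hWn : W.Normal := Subgroup.normalizer_eq_top_iff.mp hM
    haveI := hquo W hWinv hWne
    haveI : Group.IsNilpotent W := hWp.isNilpotent
    apply Group.isSolvable_of_ker_le_range W.subtype (QuotientGroup.mk' W)
    rw [QuotientGroup.ker_mk', Subgroup.range_subtype]
  · haveI := hsub M hMinv hM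
    have h1 : Cfsg.HasNormalPComplement q ↥M := hasNormalPComplement_of_isNilpotent q
    obtain ⟨P, K, hKn, hKc⟩ := hGl G q hq2 Q h1
    haveI := hKn
    have hKmem := Cfsg.Agent.Helper2.mem_normalPComplement_iff P K hKc
    have hKinv : ∀ x ∈ K, φ x ∈ K := by
      intro x hx
      rw [hKmem] at hx ⊢
      rw [MulEquiv.orderOf_eq]
      exact hx
    have hKne : K ≠ ⊤ := by
      intro hK
      obtain ⟨x, hx⟩ := exists_prime_orderOf_dvd_card' q hqdvd
      have h3 : x ∈ K := by rw [hK]; exact Subgroup.mem_top x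
      rw [hKmem, hx, Nat.coprime_self] at h3
      exact hq.one_lt.ne' h3
    haveI := hsub K hKinv hKne
    have h4 : IsPGroup q (G ⧸ K) := by
      obtain ⟨a, ha⟩ := IsPGroup.iff_card.mp P.isPGroup'
      rw [IsPGroup.iff_card]
      refine ⟨a, ?_⟩
      rw [← ha, ← hKc.symm.index_eq_card]
      rfl
    haveI : Group.IsNilpotent (G ⧸ K) := h4.isNilpotent
    apply Group.isSolvable_of_ker_le_range K.subtype (QuotientGroup.mk' K)
    rw [QuotientGroup.ker_mk', Subgroup.range_subtype]

/-- In the minimal situation, solvability gives nilpotency. -/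
theorem nilpotent_step (φ : G ≃* G) (hφ : MonoidHom.FixedPointFree (φ : G →* G)) (p : ℕ)
    (hp : p.Prime) (hφp : (⇑φ)^[p] = id)
    (hsub : ∀ H : Subgroup G, (∀ x ∈ H, φ x ∈ H) → H ≠ ⊤ → Group.IsNilpotent H)
    (hquo : ∀ (N : Subgroup G) [N.Normal], (∀ x ∈ N, φ x ∈ N) → N ≠ ⊥ →
      Group.IsNilpotent (G ⧸ N)) (hsol : Group.IsSolvable G) : Group.IsNilpotent G := by
  classical
  by_cases hnt : Nontrivial G
  swap
  · rw [not_nontrivial_iff_subsingleton] at hnt
    infer_instance
  -- a minimal nontrivial invariant normal subgroup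
  let S : Set (Subgroup G) := {N | N.Normal ∧ (∀ x ∈ N, φ x ∈ N) ∧ N ≠ ⊥}
  have hSne : S.Nonempty := ⟨⊤, inferInstance, fun x _ => Subgroup.mem_top _, top_ne_bot⟩
  obtain ⟨N, hNS, hNmin⟩ := (measure (fun N : Subgroup G => Nat.card N)).wf.has_min S hSne
  obtain ⟨hNn, hNinv, hNne⟩ := hNS
  haveI := hNn
  have hmin : ∀ N' : Subgroup G, N'.Normal → (∀ x ∈ N', φ x ∈ N') → N' ≤ N → N' ≠ ⊥ →
      N' = N := by
    intro N' h1 h2 h3 h4
    have h5 : ¬ Nat.card N' < Nat.card N := hNmin N' ⟨h1, h2, h4⟩
    exact Subgroup.eq_of_le_of_card_ge h3 (not_lt.mp h5)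
  -- `N` is abelian
  have hNab : ⁅N, N⁆ = ⊥ := by
    by_contra hne
    have h1 : (⁅N, N⁆ : Subgroup G).Normal := Subgroup.commutator_normal N N
    have h2 : ∀ x ∈ ⁅N, N⁆, φ x ∈ ⁅N, N⁆ := by
      apply invariant_of_map_eq
      rw [Subgroup.map_commutator, map_eq_of_invariant φ N hNinv]
    have h3 : ⁅N, N⁆ ≤ N := Subgroup.commutator_le_left N N
    have h4 := hmin _ h1 h2 h3 hne
    haveI : Nontrivial N := (Subgroup.nontrivial_iff_ne_bot N).mpr hNne
    have h5 : commutator N < ⊤ := Group.IsSolvable.commutator_lt_top_of_nontrivial N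
    have h6 : (commutator N).map N.subtype = ⁅N, N⁆ := Subgroup.map_subtype_commutator N
    apply h5.ne
    apply Subgroup.map_injective N.subtype_injective
    rw [h6, h4, ← MonoidHom.range_eq_map, Subgroup.range_subtype]
  have hNcomm : ∀ a ∈ N, ∀ b ∈ N, a * b = b * a := by
    rw [Subgroup.commutator_eq_bot_iff_le_centralizer] at hNab
    intro a ha b hb
    exact ((Subgroup.mem_centralizer_iff.mp (hNab ha)) b hb).symm
  have hcardN : Nat.card N ≠ 1 := by
    intro h
    exact hNne (Subgroup.card_eq_one.mp h)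
  obtain ⟨r, hr, hrdvd⟩ := Nat.exists_prime_and_dvd hcardN
  haveI : Fact r.Prime := ⟨hr⟩
  let Nr : Subgroup G :=
    { carrier := {x | x ∈ N ∧ x ^ r = 1}
      mul_mem' := by
        rintro a b ⟨ha, ha'⟩ ⟨hb, hb'⟩
        refine ⟨mul_mem ha hb, ?_⟩
        have hc : Commute a b := hNcomm a ha b hb
        rw [hc.mul_pow, ha', hb', one_mul]
      one_mem' := ⟨one_mem N, one_pow r⟩
      inv_mem' := by
        rintro a ⟨ha, ha'⟩
        exact ⟨inv_mem ha, by rw [inv_pow, ha', inv_one]⟩ }
  have hNr_mem : ∀ x, x ∈ Nr ↔ x ∈ N ∧ x ^ r = 1 := fun x => Iff.rfl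
  have hNrN : Nr = N := by
    apply hmin
    · constructor
      intro x hx g
      rw [hNr_mem] at hx ⊢
      refine ⟨hNn.conj_mem x hx.1 g, ?_⟩
      rw [conj_pow, hx.2, mul_one, mul_inv_cancel]
    · intro x hx
      rw [hNr_mem] at hx ⊢
      refine ⟨hNinv x hx.1, ?_⟩
      rw [← map_pow, hx.2, map_one]
    · intro x hx
      exact hx.1
    · obtain ⟨x, hx⟩ := exists_prime_orderOf_dvd_card' r hrdvd
      intro hbot
      have h1 : (x : G) ∈ Nr := by
        refine ⟨x.2, ?_⟩
        rw [← Subgroup.coe_pow, ← hx, pow_orderOf_eq_one]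
        rfl
      rw [hbot, Subgroup.mem_bot] at h1
      have h2 : x = 1 := Subtype.ext h1
      rw [h2, orderOf_one] at hx
      exact hr.one_lt.ne hx
  have hNexp : ∀ x ∈ N, x ^ r = 1 := by
    intro x hx
    rw [← hNrN] at hx
    exact hx.2
  have hNp : IsPGroup r N := by
    intro x
    refine ⟨1, ?_⟩
    apply Subtype.ext
    rw [pow_one, Subgroup.coe_pow, hNexp x x.2]
    rfl
  haveI hquoN : Group.IsNilpotent (G ⧸ N) := hquo N hNinv hNne
  by_cases hGr : IsPGroup r G
  · exact hGr.isNilpotent
  obtain ⟨q, hq, hqr, hqdvd⟩ := exists_prime_ne_dvd_card r hGr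
  haveI : Fact q.Prime := ⟨hq⟩
  obtain ⟨Q, hQ⟩ := exists_fpf_invariant_sylow φ hφ q
  have hQne : (Q : Subgroup G) ≠ ⊥ := Q.ne_bot_of_dvd_card hqdvd
  have hQmap := map_eq_of_invariant φ Q hQ
  have hcop : (Nat.card (Q : Subgroup G)).Coprime (Nat.card N) := by
    obtain ⟨a, ha⟩ := IsPGroup.iff_card.mp Q.isPGroup'
    obtain ⟨b, hb⟩ := IsPGroup.iff_card.mp hNp
    rw [ha, hb]
    exact Nat.Coprime.pow _ _ ((Nat.coprime_primes hq hr).mpr hqr)
  set H : Subgroup G := N ⊔ Q with hHdef
  have hHinv : ∀ x ∈ H, φ x ∈ H := by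
    apply invariant_of_map_eq
    rw [hHdef, Subgroup.map_sup, map_eq_of_invariant φ N hNinv, hQmap]
  by_cases hH : H = ⊤
  · -- the Frobenius case
    set C : Subgroup G := N ⊓ centralizer (Q : Set G) with hCdef
    have hCcomm : ∀ c ∈ C, ∀ g : G, g * c = c * g := by
      intro c hc g
      obtain ⟨hc1, hc2⟩ := Subgroup.mem_inf.mp hc
      have h1 : N ⊔ Q ≤ centralizer ({c} : Set G) := by
        apply sup_le
        · intro n hn
          rw [Subgroup.mem_centralizer_iff]
          intro h hh
          rw [Set.mem_singleton_iff] at hh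
          subst hh
          exact hNcomm h hc1 n hn
        · intro u hu
          rw [Subgroup.mem_centralizer_iff]
          intro h hh
          rw [Set.mem_singleton_iff] at hh
          subst hh
          exact ((Subgroup.mem_centralizer_iff.mp hc2) u hu).symm
      have h2 : g ∈ centralizer ({c} : Set G) := h1 (by rw [← hHdef, hH]; exact Subgroup.mem_top g)
      exact ((Subgroup.mem_centralizer_iff.mp h2) c rfl).symm
    by_cases hC : C = ⊥
    · exfalso
      apply hNne
      apply eq_bot_of_frobenius φ hφ p hp hφp N Q hNcomm hNinv hQ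
      · rw [Subgroup.normalizer_eq_top_iff.mpr hNn]
        exact le_top
      · intro v hv hfix
        have h1 : v ∈ C := by
          refine Subgroup.mem_inf.mpr ⟨hv, ?_⟩
          rw [Subgroup.mem_centralizer_iff]
          intro u hu
          have h2 := hfix u hu
          calc u * v = u * v * u⁻¹ * u := by group
            _ = v * u := by rw [h2]
        rw [hC, Subgroup.mem_bot] at h1
        exact h1
      · exact hcop
    · have hCn : C.Normal := by
        constructor
        intro c hc g
        have h1 : g * c * g⁻¹ = c := by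
          rw [hCcomm c hc g]
          group
        rw [h1]
        exact hc
      have hCinv : ∀ x ∈ C, φ x ∈ C := by
        intro c hc
        obtain ⟨hc1, hc2⟩ := Subgroup.mem_inf.mp hc
        refine Subgroup.mem_inf.mpr ⟨hNinv c hc1, ?_⟩
        rw [Subgroup.mem_centralizer_iff]
        intro u hu
        have hu2 : u ∈ (Q : Subgroup G).map (φ : G →* G) := by
          rw [hQmap]
          exact hu
        obtain ⟨u', hu', rfl⟩ := hu2
        have h1 := (Subgroup.mem_centralizer_iff.mp hc2) u' hu'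
        show φ u' * φ c = φ c * φ u'
        rw [← map_mul, ← map_mul, h1]
      haveI := hCn
      haveI := hquo C hCinv hC
      apply Subgroup.isNilpotent_of_ker_le_center (QuotientGroup.mk' C)
      · rw [QuotientGroup.ker_mk']
        intro c hc
        rw [Subgroup.mem_center_iff]
        intro g
        exact hCcomm c hc g
  · -- `H = NQ` is a proper invariant subgroup, hence nilpotent
    haveI hHnil := hsub H hHinv hH
    have hHn : H.Normal := by
      have hsurj : Function.Surjective (QuotientGroup.mk' N) := QuotientGroup.mk'_surjective N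
      let Qbar : Sylow q (G ⧸ N) := Q.mapSurjective hsurj
      have h1 : (Qbar : Subgroup (G ⧸ N)).Normal := inferInstance
      have h2 : ((Q : Subgroup G).map (QuotientGroup.mk' N)).comap (QuotientGroup.mk' N) = H := by
        rw [Subgroup.comap_map_eq, QuotientGroup.ker_mk', hHdef, sup_comm]
      rw [← h2]
      exact h1.comap _
    haveI := hHn
    have hQH : (Q : Subgroup G) ≤ H := le_sup_right
    have hQn : (Q : Subgroup G).Normal := by
      let QH : Sylow q H := Q.subtype hQH
      haveI h1 : (QH : Subgroup H).Normal := inferInstance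
      haveI h2 : (QH : Subgroup H).Characteristic := QH.characteristic_of_normal h1
      have h3 : ((QH : Subgroup H).map H.subtype).Normal := inferInstance
      have h4 : (QH : Subgroup H).map H.subtype = Q := by
        show ((Q : Subgroup G).subgroupOf H).map H.subtype = Q
        rw [Subgroup.subgroupOf_map_subtype, inf_eq_left.mpr hQH]
      rw [← h4]
      exact h3
    haveI := hQn
    haveI hquoQ := hquo Q hQ hQne
    let f : G →* (G ⧸ N) × (G ⧸ (Q : Subgroup G)) :=
      (QuotientGroup.mk' N).prod (QuotientGroup.mk' (Q : Subgroup G))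
    have hf : Function.Injective f := by
      rw [← MonoidHom.ker_eq_bot_iff, MonoidHom.ker_prod, QuotientGroup.ker_mk',
        QuotientGroup.ker_mk', inf_comm]
      exact disjoint_iff.mp (Subgroup.disjoint_of_coprime_natCard hcop)
    have e : G ≃* f.range := MonoidHom.ofInjective hf
    exact (Group.isNilpotent_congr e).mpr inferInstance

end Steps

/-- **Thompson's theorem** (relative to the Glauberman--Thompson normal `p`-complement theorem),
induction form. -/
theorem thompson_aux (hGl : GlaubermanHyp.{u}) (p : ℕ) (hp : p.Prime) :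
    ∀ (n : ℕ) (G : Type u) [Group G] [Finite G] (φ : G ≃* G), Nat.card G = n →
      MonoidHom.FixedPointFree (φ : G →* G) → (⇑φ)^[p] = id → Group.IsNilpotent G := by
  intro n
  induction n using Nat.strong_induction_on with
  | _ n ih =>
  intro G _ _ φ hn hφ hφp
  have hsub : ∀ H : Subgroup G, (∀ x ∈ H, φ x ∈ H) → H ≠ ⊤ → Group.IsNilpotent H := by
    intro H hH hne
    have hlt : Nat.card H < n := by
      rw [← hn]
      exact card_lt_of_ne_top H hne
    exact ih _ hlt H (restrictEquiv φ H hH) rfl (restrictEquiv_fpf φ hφ H hH)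
      (restrictEquiv_iterate_eq_id φ H hH p hφp)
  have hquo : ∀ (N : Subgroup G) [N.Normal], (∀ x ∈ N, φ x ∈ N) → N ≠ ⊥ →
      Group.IsNilpotent (G ⧸ N) := by
    intro N _ hN hne
    have hlt : Nat.card (G ⧸ N) < n := by
      rw [← hn]
      exact card_quotient_lt_of_ne_bot N hne
    exact ih _ hlt (G ⧸ N) (quotEquiv φ N hN) rfl (quotEquiv_fpf φ hφ N hN)
      (quotEquiv_iterate_eq_id φ N hN p hφp)
  have hsol := solvable_step hGl φ hφ hsub hquo
  exact nilpotent_step φ hφ p hp hφp hsub hquo hsol

/-- **Thompson's theorem** (relative to the Glauberman--Thompson normal `p`-complement theorem):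
a finite group with a fixed-point-free automorphism of prime order is nilpotent. -/
theorem thompson_of_glauberman (hGl : GlaubermanHyp.{u}) {G : Type u} [Group G] [Finite G]
    (φ : G ≃* G) (hφ : MonoidHom.FixedPointFree (φ : G →* G)) (p : ℕ) (hp : p.Prime)
    (hord : orderOf φ = p) : Group.IsNilpotent G := by
  have hφp : (⇑φ)^[p] = id := by
    funext x
    have h1 : φ ^ p = 1 := by
      rw [← hord]
      exact pow_orderOf_eq_one φ
    have h2 := mulAut_pow_apply φ p x
    rw [h1] at h2
    exact h2.symm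
  exact thompson_aux hGl p hp _ G φ rfl hφ hφp

end Cfsg.Agent.Helper52
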