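import Mathlib

/-!
# S3822 lemma server "FL" (helper52): shared definitions

`cj g H = g H g⁻¹`; `Hyp p P A` = the hypotheses of S3822 on `(P, A)`;
`Ctx A Q V r s` = a minimal counterexample to "a normal `s`-subgroup `Q` of `A` centralises every
`A`-invariant `r`-subgroup (`r ≠ s`)"; `Dsub Q V = C_V(Q)`; `S1 P V D` = preimage in `V` of `C_{V/D}(P)`.
-/

set_option autoImplicit false

namespace Cfsg.Agent.Helper52.FL

variable {G : Type*} [Group G]

/-- the conjugate subgroup `g H g⁻¹` -/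
def cj (g : G) (H : Subgroup G) : Subgroup G := H.map (MulAut.conj g).toMonoidHom

theorem mem_cj {g x : G} {H : Subgroup G} : x ∈ cj g H ↔ g⁻¹ * x * g ∈ H := by
  unfold cj
  constructor
  · rintro ⟨h, hh, rfl⟩
    simpa [MulAut.conj_apply, mul_assoc] using hh
  · intro h
    exact ⟨g⁻¹ * x * g, h, by simp [MulAut.conj_apply, mul_assoc]⟩

/-- The hypotheses of S3822 on `(P, A)`. -/
structure Hyp (p : ℕ) (P A : Subgroup G) : Prop where
  cardP : Nat.card P = p
  solv : Group.IsSolvable ↥A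
  gen : ∃ a ∈ A, A = P ⊔ cj a P
  max : ∀ B : Subgroup G, A ≤ B → Group.IsSolvable ↥B → (∃ b ∈ B, B = P ⊔ cj b P) → B = A

/-- Minimal-counterexample context: `V` an `r`-group normalised by `A`, `Q` an `s`-group normal in `A`,
`r ≠ s`, `Q` does not centralise `V` but centralises every proper `A`-invariant subgroup of `V`. -/
structure Ctx (A Q V : Subgroup G) (r s : ℕ) : Prop where
  hQA : Q ≤ A
  hAQ : A ≤ Subgroup.normalizer (Q : Set G)
  hQ : IsPGroup s Q
  hV : IsPGroup r V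
  hAV : A ≤ Subgroup.normalizer (V : Set G)
  hrs : r ≠ s
  hnc : ¬ V ≤ Subgroup.centralizer (Q : Set G)
  hmin : ∀ W : Subgroup G, W ≤ V → W ≠ V → A ≤ Subgroup.normalizer (W : Set G) →
    W ≤ Subgroup.centralizer (Q : Set G)

/-- `D = C_V(Q)` -/
def Dsub (Q V : Subgroup G) : Subgroup G := V ⊓ Subgroup.centralizer (Q : Set G)

/-- `S₁ =` the preimage in `V` of `C_{V/D}(P)`, as a set -/
def S1 (P V D : Subgroup G) : Set G := {w : G | w ∈ V ∧ ∀ y ∈ P, y * w * y⁻¹ * w⁻¹ ∈ D}

end Cfsg.Agent.Helper52.FL
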