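import Mathlib
import Cfsg.Agent.Lib.Helper52.CoprimeSylow
import Cfsg.Agent.Lib.Helper11.InvComplement

set_option autoImplicit false

namespace Cfsg.Agent.Helper52

open Subgroup
open scoped commutatorElement

section External

variable {A : Type*} {G : Type*} [Group A] [Group G] [MulDistribMulAction A G]

/-- **Coprime action, external form: an invariant Sylow `p`-subgroup exists.**
The action is given by a `MulDistribMulAction`; the proof passes to the semidirect product and
uses the internal form `exists_invariant_sylow`. -/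
theorem exists_invariant_sylow_ext [Finite A] [Finite G]
    (hcop : (Nat.card A).Coprime (Nat.card G))
    (hsol : Group.IsSolvable A ∨ Group.IsSolvable G) (p : ℕ) [Fact p.Prime] :
    ∃ Q : Subgroup G, (∀ a : A, ∀ x ∈ Q, a • x ∈ Q) ∧
      Nat.card Q = p ^ (Nat.card G).factorization p := by
  classical
  let φ : A →* MulAut G := MulDistribMulAction.toMulAut A G
  have : Finite (G ⋊[φ] A) := Finite.of_equiv _ SemidirectProduct.equivProd.symm
  let il : G →* G ⋊[φ] A := SemidirectProduct.inl
  let ir : A →* G ⋊[φ] A := SemidirectProduct.inr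
  have hil : Function.Injective il := SemidirectProduct.inl_injective
  have hir : Function.Injective ir := SemidirectProduct.inr_injective
  have hKn : (il.range).Normal := by
    show (SemidirectProduct.inl : G →* G ⋊[φ] A).range.Normal
    rw [SemidirectProduct.range_inl_eq_ker_rightHom]
    infer_instance
  have hK : Nat.card il.range = Nat.card G := Nat.card_congr (Equiv.ofInjective il hil).symm
  have hA : Nat.card ir.range = Nat.card A := Nat.card_congr (Equiv.ofInjective ir hir).symm
  have hAK : ir.range ≤ normalizer (il.range : Set (G ⋊[φ] A)) := by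
    rw [normalizer_eq_top_iff.mpr hKn]
    exact le_top
  have hcop' : (Nat.card ir.range).Coprime (Nat.card il.range) := by rwa [hK, hA]
  have hsol' : Group.IsSolvable ir.range ∨ Group.IsSolvable il.range := by
    rcases hsol with h | h
    · left
      have := h
      exact Group.isSolvable_of_surjective (f := ir.rangeRestrict) ir.rangeRestrict_surjective
    · right
      have := h
      exact Group.isSolvable_of_surjective (f := il.rangeRestrict) il.rangeRestrict_surjective
  obtain ⟨Q, hQK, hQc, hQA⟩ := exists_invariant_sylow ir.range il.range hAK hcop' hsol' p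
  refine ⟨Q.comap il, ?_, ?_⟩
  · intro a x hx
    rw [mem_comap] at hx ⊢
    have h1 : il (a • x) = ir a * il x * (ir a)⁻¹ := by
      have := SemidirectProduct.inl_aut (φ := φ) a x
      simpa [il, ir, φ] using this
    rw [h1]
    have h2 : ir a ∈ normalizer (Q : Set (G ⋊[φ] A)) := hQA ⟨a, rfl⟩
    exact (mem_normalizer_iff.mp h2 (il x)).mp hx
  · have h1 : Nat.card (Q.comap il) = Nat.card Q := by
      have h2 : (Q.comap il).map il = Q := by
        rw [map_comap_eq, inf_eq_right.mpr hQK]
      rw [← h2, card_map_of_injective hil, h2]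
    rw [h1, hQc, sylCard, hK]

/-- In a finite abelian group of prime exponent every subgroup has a complement. -/
theorem exists_complement_of_pow_eq_one {V : Type*} [CommGroup V] [Finite V] (p : ℕ)
    (hp : p.Prime) (hV : ∀ v : V, v ^ p = 1) (U : Subgroup V) :
    ∃ W : Subgroup V, U ⊓ W = ⊥ ∧ U ⊔ W = ⊤ := by
  have hfin : {W : Subgroup V | U ⊓ W = ⊥}.Finite := Set.toFinite _
  obtain ⟨W, -, hW⟩ := hfin.exists_le_maximal (a := ⊥) (by simp)
  refine ⟨W, hW.prop, ?_⟩
  by_contra hne
  obtain ⟨x, hx⟩ : ∃ x, x ∉ U ⊔ W := by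
    by_contra h
    push Not at h
    exact hne (eq_top_iff.mpr fun x _ => h x)
  have h1 : U ⊓ (W ⊔ zpowers x) = ⊥ := by
    rw [eq_bot_iff]
    intro u hu
    obtain ⟨huU, huW⟩ := mem_inf.mp hu
    obtain ⟨w, hw, y, hy, rfl⟩ := mem_sup.mp huW
    obtain ⟨i, rfl⟩ := mem_zpowers_iff.mp hy
    by_cases hi : (p : ℤ) ∣ i
    · have h2 : x ^ i = 1 := by
        obtain ⟨j, rfl⟩ := hi
        rw [zpow_mul, zpow_natCast, hV, one_zpow]
      rw [h2, mul_one] at huU ⊢
      have h3 : w ∈ U ⊓ W := mem_inf.mpr ⟨huU, hw⟩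
      rwa [hW.prop] at h3
    · exfalso
      have hcop : IsCoprime i (p : ℤ) := by
        have hp' : Prime (p : ℤ) := Nat.prime_iff_prime_int.mp hp
        exact ((hp'.coprime_iff_not_dvd).mpr hi).symm
      obtain ⟨m, n, hmn⟩ := hcop
      have hx' : x = (x ^ i) ^ m := by
        calc x = x ^ (1 : ℤ) := (zpow_one x).symm
          _ = x ^ (m * i + n * p) := by rw [hmn]
          _ = (x ^ i) ^ m * (x ^ (p : ℤ)) ^ n := by
            rw [zpow_add, mul_comm m i, zpow_mul, mul_comm n _, zpow_mul]
          _ = (x ^ i) ^ m := by rw [zpow_natCast, hV, one_zpow, mul_one]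
      have h2 : x ^ i ∈ U ⊔ W := by
        have h3 : x ^ i = w⁻¹ * (w * x ^ i) := by group
        rw [h3]
        exact mul_mem (mem_sup_right (inv_mem hw)) (mem_sup_left huU)
      apply hx
      rw [hx']
      exact zpow_mem h2 m
  have h2 : W ⊔ zpowers x ≤ W := hW.le_of_ge h1 le_sup_left
  apply hx
  exact mem_sup_right (h2 (mem_sup_right (mem_zpowers x)))

/-- **Maschke for elementary abelian sections** (coprime action, external form): if `N ⊴ G` is
`A`-invariant, `G/N` is elementary abelian, and `N ≤ L` with `L` an `A`-invariant subgroup, then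
there is an `A`-invariant `K ≥ N` with `L ⊓ K = N` and `L ⊔ K = ⊤`. -/
theorem exists_invariant_complement_mod [Finite A] [Finite G]
    (hcop : (Nat.card A).Coprime (Nat.card G))
    (N : Subgroup G) [hNn : N.Normal] (hN : ∀ a : A, ∀ x ∈ N, a • x ∈ N)
    (hcomm : commutator G ≤ N) (p : ℕ) (hp : p.Prime) (hpow : ∀ x : G, x ^ p ∈ N)
    (L : Subgroup G) (hNL : N ≤ L) (hL : ∀ a : A, ∀ x ∈ L, a • x ∈ L) :
    ∃ K : Subgroup G, N ≤ K ∧ (∀ a : A, ∀ x ∈ K, a • x ∈ K) ∧ L ⊓ K = N ∧ L ⊔ K = ⊤ := by
  classical
  let _ : Fintype A := Fintype.ofFinite A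
  let instC : CommGroup (G ⧸ N) :=
    { (inferInstance : Group (G ⧸ N)) with
      mul_comm := by
        intro x y
        induction x using QuotientGroup.induction_on with | _ x => ?_
        induction y using QuotientGroup.induction_on with | _ y => ?_
        rw [← QuotientGroup.mk_mul, ← QuotientGroup.mk_mul, QuotientGroup.eq]
        apply hcomm
        have h1 : (x * y)⁻¹ * (y * x) = ⁅y⁻¹, x⁻¹⁆ := by
          rw [commutatorElement_def]; group
        rw [h1]
        exact Subgroup.commutator_mem_commutator (mem_top _) (mem_top _) }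
  -- the induced action on the quotient
  have hmap : ∀ a : A, N.map ((MulDistribMulAction.toMulEquiv G a : G ≃* G) : G →* G) = N := by
    intro a
    apply le_antisymm
    · rintro _ ⟨x, hx, rfl⟩
      exact hN a x hx
    · intro x hx
      refine ⟨a⁻¹ • x, hN a⁻¹ x hx, ?_⟩
      show a • a⁻¹ • x = x
      rw [smul_inv_smul]
  let ψ₀ : A → MulAut (G ⧸ N) := fun a =>
    QuotientGroup.congr N N (MulDistribMulAction.toMulEquiv G a) (hmap a)
  have hψ₀ : ∀ (a : A) (x : G), ψ₀ a (x : G ⧸ N) = ((a • x : G) : G ⧸ N) := by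
    intro a x
    exact QuotientGroup.congr_mk N N _ (hmap a) x
  let ψ : A →* MulAut (G ⧸ N) :=
    { toFun := ψ₀
      map_one' := by
        ext v
        induction v using QuotientGroup.induction_on with | _ x => ?_
        rw [hψ₀, one_smul]; rfl
      map_mul' := by
        intro a b
        ext v
        induction v using QuotientGroup.induction_on with | _ x => ?_
        rw [MulAut.mul_apply, hψ₀, hψ₀, hψ₀, mul_smul] }
  have hψ : ∀ (a : A) (x : G), ψ a (x : G ⧸ N) = ((a • x : G) : G ⧸ N) := hψ₀
  have hcop' : (Fintype.card A).Coprime (Nat.card (G ⧸ N)) := by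
    rw [← Nat.card_eq_fintype_card]
    exact Nat.Coprime.coprime_dvd_right (Subgroup.card_quotient_dvd_card N) hcop
  have hVpow : ∀ v : G ⧸ N, v ^ p = 1 := by
    intro v
    induction v using QuotientGroup.induction_on with | _ x => ?_
    rw [← QuotientGroup.mk_pow, QuotientGroup.eq_one_iff]
    exact hpow x
  set U : Subgroup (G ⧸ N) := L.map (QuotientGroup.mk' N) with hU
  obtain ⟨W, hW1, hW2⟩ := exists_complement_of_pow_eq_one p hp hVpow U
  have hUinv : ∀ a : A, ∀ u ∈ U, ψ a u ∈ U := by
    rintro a _ ⟨x, hx, rfl⟩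
    rw [QuotientGroup.mk'_apply, hψ]
    exact ⟨a • x, hL a x hx, rfl⟩
  obtain ⟨W', hW'inv, hW'1, hW'2⟩ :=
    Cfsg.Agent.Helper11.exists_invariant_complement ψ hcop' U W hUinv hW1 hW2
  refine ⟨W'.comap (QuotientGroup.mk' N), ?_, ?_, ?_, ?_⟩
  · intro x hx
    rw [mem_comap, QuotientGroup.mk'_apply, (QuotientGroup.eq_one_iff x).mpr hx]
    exact one_mem _
  · intro a x hx
    rw [mem_comap, QuotientGroup.mk'_apply] at hx ⊢
    rw [← hψ]
    exact hW'inv a _ hx
  · apply le_antisymm
    · intro x hx
      obtain ⟨hxL, hxK⟩ := mem_inf.mp hx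
      rw [mem_comap, QuotientGroup.mk'_apply] at hxK
      have h1 : (x : G ⧸ N) ∈ U ⊓ W' := mem_inf.mpr ⟨⟨x, hxL, rfl⟩, hxK⟩
      rw [hW'1, mem_bot] at h1
      exact (QuotientGroup.eq_one_iff x).mp h1
    · apply le_inf hNL
      intro x hx
      rw [mem_comap, QuotientGroup.mk'_apply, (QuotientGroup.eq_one_iff x).mpr hx]
      exact one_mem _
  · rw [eq_top_iff]
    intro x _
    have h1 : (x : G ⧸ N) ∈ U ⊔ W' := by rw [hW'2]; exact mem_top _
    obtain ⟨u, hu, w, hw, huw⟩ := mem_sup.mp h1
    obtain ⟨l, hl, rfl⟩ := hu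
    have h2 : ((l⁻¹ * x : G) : G ⧸ N) = w := by
      rw [QuotientGroup.mk_mul, QuotientGroup.mk_inv, ← huw, QuotientGroup.mk'_apply]
      group
    have h3 : x = l * (l⁻¹ * x) := by group
    rw [h3]
    refine mul_mem (mem_sup_left hl) (mem_sup_right ?_)
    rw [mem_comap, QuotientGroup.mk'_apply, h2]
    exact hw

end External

end Cfsg.Agent.Helper52
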