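import Mathlib
import Cfsg.Agent.Lib.Helper52.FixedPointFree

/-!
# Fixed-point-free automorphisms of order dividing four

Tools for the theorem of Gorenstein–Herstein: a finite solvable group with a fixed-point-free
automorphism `σ`, `σ ^ 4 = 1`, has nilpotent derived subgroup.

* `fixed_of_frobenius_norm`: abstract averaging argument (conclusion: every vector is fixed).
* `odd_card_of_fpf_four`: such a group has odd order.
* `FourCtx`: the external set-up (a group `M` with automorphism `s`, acting faithfully on an abelian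
  group `V` with automorphism `t`, compatibly).
* `FourCtx.act_eq_one_of_sq_fpf`: a subgroup on which `s ^ 2` is fixed-point-free and of order
  coprime to `V` acts trivially (Frobenius action lemma).
* `FourCtx.sq_fixes`: `s ^ 2` centralizes every `s`-invariant subgroup of order coprime to `V`.
-/

set_option autoImplicit false

namespace Cfsg.Agent.Helper52

open Subgroup
open scoped commutatorElement

universe u v

/-- **Abstract Frobenius norm computation, second form.** As `eq_one_of_frobenius_norm`, without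
assuming that `Q` has no fixed points: every element of `V` is fixed by `Q`. -/
theorem fixed_of_frobenius_norm {V Q ι : Type*} [CommGroup V] [Finite V] [Group Q] [Fintype Q]
    (act : Q →* MulAut V) (J : Finset ι) (σ : ι → V → V) (e : ι → Q ≃ Q)
    (hrel : ∀ i ∈ J, ∀ (w : Q) (v : V), act w (σ i (act w⁻¹ v)) = act (e i w) (σ i v))
    (hnorm : ∀ v : V, v * ∏ i ∈ J, σ i v = 1)
    (hcop : (Fintype.card Q).Coprime (Nat.card V)) (v : V) (u : Q) : act u v = v := by
  classical
  have hS : ∀ (y : V) (u' : Q), act u' (∏ w : Q, act w y) = ∏ w : Q, act w y := by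
    intro y u'
    rw [map_prod]
    refine Fintype.prod_equiv (Equiv.mulLeft u') _ _ ?_
    intro w
    rw [Equiv.coe_mulLeft, map_mul, MulAut.mul_apply]
  have h1 : ∀ w : Q, v * ∏ i ∈ J, act (e i w) (σ i v) = 1 := by
    intro w
    have h2 := hnorm (act w⁻¹ v)
    have h3 := congrArg (act w) h2
    rw [map_mul, map_one, map_prod] at h3
    have h4 : act w (act w⁻¹ v) = v := by
      rw [← MulAut.mul_apply, ← map_mul, mul_inv_cancel, map_one, MulAut.one_apply]
    rw [h4] at h3
    rw [← h3]
    congr 1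
    exact Finset.prod_congr rfl (fun i hi => (hrel i hi w v).symm)
  have h5 : ∏ w : Q, (v * ∏ i ∈ J, act (e i w) (σ i v)) = 1 :=
    Finset.prod_eq_one (fun w _ => h1 w)
  rw [Finset.prod_mul_distrib, Finset.prod_const, Finset.card_univ, Finset.prod_comm] at h5
  have h6 : ∏ i ∈ J, ∏ w : Q, act (e i w) (σ i v) = ∏ i ∈ J, ∏ w : Q, act w (σ i v) := by
    apply Finset.prod_congr rfl
    intro i _
    exact Fintype.prod_equiv (e i) _ _ (fun w => rfl)
  rw [h6] at h5
  -- `v ^ |Q|` is fixed by `u`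
  have h7 : act u (v ^ Fintype.card Q) = v ^ Fintype.card Q := by
    have h8 : v ^ Fintype.card Q = (∏ i ∈ J, ∏ w : Q, act w (σ i v))⁻¹ :=
      eq_inv_of_mul_eq_one_left h5
    rw [h8, map_inv, map_prod]
    congr 1
    exact Finset.prod_congr rfl (fun i _ => hS (σ i v) u)
  rw [map_pow] at h7
  have h9 : (act u v / v) ^ Fintype.card Q = 1 := by
    rw [div_pow, h7, div_self']
  have h10 : (act u v / v) ^ Nat.card V = 1 := pow_card_eq_one'
  have h11 : (act u v / v) ^ (Fintype.card Q).gcd (Nat.card V) = 1 :=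
    pow_gcd_eq_one.mpr ⟨h9, h10⟩
  rw [hcop, pow_one] at h11
  exact div_eq_one.mp h11

/-- A finite group with a fixed-point-free automorphism `s`, `s ^ 4 = 1`, has odd order. -/
theorem odd_card_of_fpf_four {M : Type*} [Group M] [Finite M] (s : M ≃* M)
    (hs : MonoidHom.FixedPointFree (s : M →* M)) (hs4 : (⇑s)^[4] = id) : Odd (Nat.card M) := by
  classical
  letI : Fintype M := Fintype.ofFinite M
  haveI : Fact (Nat.Prime 2) := ⟨Nat.prime_two⟩
  let f : Function.End M := (⇑s : M → M)
  have hf : f ^ 2 ^ 2 = 1 := by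
    have h1 : ∀ k : ℕ, f ^ k = ((⇑s)^[k] : M → M) := by
      intro k
      induction k with
      | zero => rfl
      | succ k ih =>
        rw [pow_succ, ih, Function.iterate_succ]
        rfl
    rw [show (2 : ℕ) ^ 2 = 4 by norm_num, h1, hs4]
    rfl
  have h2 := Equiv.Perm.card_fixedPoints_modEq (f := f) (p := 2) (n := 2) hf
  have h3 : Fintype.card (Function.fixedPoints f) = 1 := by
    rw [Fintype.card_eq_one_iff]
    refine ⟨⟨1, ?_⟩, ?_⟩
    · show s 1 = 1
      exact map_one s
    · rintro ⟨x, hx⟩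
      apply Subtype.ext
      exact hs x hx
  rw [h3, ← Nat.card_eq_fintype_card] at h2
  rw [Nat.odd_iff]
  exact h2


/-- In a finite group of odd order, an element with `y * y = 1` is trivial. -/
theorem eq_one_of_mul_self_of_odd {M : Type*} [Group M] [Finite M] (hodd : Odd (Nat.card M))
    {y : M} (hy : y * y = 1) : y = 1 := by
  have h1 : orderOf y ∣ 2 := orderOf_dvd_of_pow_eq_one (by rw [pow_two, hy])
  have h2 : orderOf y ∣ Nat.card M := orderOf_dvd_natCard y
  have h3 : Nat.Coprime 2 (Nat.card M) := Nat.coprime_two_left.mpr hodd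
  have h4 : orderOf y ∣ 1 := by
    have := Nat.dvd_gcd h1 h2
    rwa [h3] at this
  exact orderOf_eq_one_iff.mp (Nat.dvd_one.mp h4)

/-- If all generators commute with `d`, so does every element of the closure. -/
theorem commute_of_mem_closure {M : Type*} [Group M] {S : Set M} {d : M}
    (h : ∀ y ∈ S, y * d = d * y) : ∀ x ∈ closure S, x * d = d * x := by
  intro x hx
  have h1 : closure S ≤ centralizer ({d} : Set M) := by
    rw [closure_le]
    intro y hy
    rw [SetLike.mem_coe, mem_centralizer_iff]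
    intro e he
    rw [Set.mem_singleton_iff] at he
    rw [he]
    exact (h y hy).symm
  have h2 := h1 hx
  rw [mem_centralizer_iff] at h2
  exact (h2 d rfl).symm

/-- A subgroup generated by pairwise commuting elements is commutative. -/
theorem commute_closure_of_commute {M : Type*} [Group M] {S : Set M}
    (h : ∀ a ∈ S, ∀ b ∈ S, a * b = b * a) : ∀ x ∈ closure S, ∀ y ∈ closure S, x * y = y * x := by
  intro x hx y hy
  have h1 : ∀ b ∈ S, ∀ x ∈ closure S, x * b = b * x := fun b hb =>
    commute_of_mem_closure (fun a ha => h a ha b hb)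
  exact (commute_of_mem_closure (fun b hb => (h1 b hb x hx).symm) y hy).symm

/-- The image of an invariant generating set generates an invariant subgroup. -/
theorem invariant_closure {M : Type*} [Group M] (s : M ≃* M) {S : Set M}
    (h : ∀ y ∈ S, s y ∈ S) : ∀ x ∈ closure S, s x ∈ closure S := by
  intro x hx
  have h1 : (closure S).map (s : M →* M) ≤ closure S := by
    rw [MonoidHom.map_closure]
    apply Subgroup.closure_mono
    rintro _ ⟨y, hy, rfl⟩
    exact h y hy
  exact h1 ⟨x, hx, rfl⟩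

theorem injective_mul_iterate_inv {M : Type*} [Group M] (s : M ≃* M) (j : ℕ) (B : Subgroup M)
    (hB : ∀ b ∈ B, s b ∈ B) (hfix : ∀ b ∈ B, (⇑s)^[j] b = b → b = 1) :
    Function.Injective (fun w : B => (⟨w * ((⇑s)^[j] w)⁻¹,
      mul_mem w.2 (inv_mem (iterate_mem hB j w w.2))⟩ : B)) := by
  intro w w' hww
  have h1 : (w : M) * ((⇑s)^[j] w)⁻¹ = w' * ((⇑s)^[j] w')⁻¹ := congrArg Subtype.val hww
  have h2 : (⇑s)^[j] ((w' : M)⁻¹ * w) = (w' : M)⁻¹ * w := by
    have h3 : (⇑s)^[j] ((w' : M)⁻¹ * w) = ((⇑s)^[j] (w' : M))⁻¹ * (⇑s)^[j] (w : M) := by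
      rw [iterate_map_mul, iterate_map_inv]
    rw [h3]
    calc ((⇑s)^[j] (w' : M))⁻¹ * (⇑s)^[j] (w : M)
        = (w' : M)⁻¹ * ((w' : M) * ((⇑s)^[j] (w' : M))⁻¹) * (⇑s)^[j] (w : M) := by group
      _ = (w' : M)⁻¹ * ((w : M) * ((⇑s)^[j] (w : M))⁻¹) * (⇑s)^[j] (w : M) := by rw [h1]
      _ = (w' : M)⁻¹ * w := by group
  have h4 := hfix _ (mul_mem (inv_mem w'.2) w.2) h2
  apply Subtype.ext
  have h5 : (w : M) = w' * ((w' : M)⁻¹ * w) := by group
  rw [h5, h4, mul_one]

/-- The external set-up: `M` acts faithfully on the abelian group `V`; `s`, `t` are compatible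
fixed-point-free automorphisms with trivial fourth power. -/
structure FourCtx (M : Type u) (V : Type v) [Group M] [CommGroup V] where
  act : M →* MulAut V
  s : M ≃* M
  t : V ≃* V
  act_inj : Function.Injective act
  compat : ∀ (m : M) (x : V), t (act m x) = act (s m) (t x)
  s_fpf : MonoidHom.FixedPointFree (s : M →* M)
  s_four : (⇑s)^[4] = id
  t_fpf : MonoidHom.FixedPointFree (t : V →* V)
  t_four : (⇑t)^[4] = id

namespace FourCtx

variable {M : Type u} {V : Type v} [Group M] [CommGroup V]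

theorem compat_iterate (c : FourCtx M V) (j : ℕ) (m : M) (x : V) :
    (⇑c.t)^[j] (c.act m x) = c.act ((⇑c.s)^[j] m) ((⇑c.t)^[j] x) := by
  induction j with
  | zero => rfl
  | succ j ih =>
    rw [Function.iterate_succ_apply', ih, c.compat, Function.iterate_succ_apply',
      Function.iterate_succ_apply']

theorem s_four_apply (c : FourCtx M V) (x : M) : c.s (c.s (c.s (c.s x))) = x := by
  have := congrFun c.s_four x
  simpa [Function.iterate_succ_apply] using this

/-- **Frobenius action lemma.** A `s`-invariant subgroup `B` of order coprime to `V`, on which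
`s ^ 2` (hence every nontrivial power of `s`) is fixed-point-free, acts trivially on `V`. -/
theorem act_eq_one_of_sq_fpf [Finite M] [Finite V] (c : FourCtx M V) (B : Subgroup M)
    (hB : ∀ b ∈ B, c.s b ∈ B) (hcop : (Nat.card B).Coprime (Nat.card V))
    (hsq : ∀ b ∈ B, c.s (c.s b) = b → b = 1) : ∀ b ∈ B, c.act b = 1 := by
  classical
  letI : Fintype B := Fintype.ofFinite B
  let act' : B →* MulAut V := c.act.comp B.subtype
  let σ : ℕ → V → V := fun i => (⇑c.t)^[i + 1]
  have hfix : ∀ j : ℕ, 0 < j → j < 4 → ∀ b ∈ B, (⇑c.s)^[j] b = b → b = 1 := by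
    intro j hj0 hj4 b hb hfixb
    interval_cases j
    · exact c.s_fpf b hfixb
    · exact hsq b hb hfixb
    · have h1 : c.s (c.s (c.s b)) = b := hfixb
      have h2 := c.s_four_apply b
      rw [h1] at h2
      exact c.s_fpf b h2
  let e : ℕ → B ≃ B := fun i =>
    if h : i + 1 < 4 then
      Equiv.ofBijective _ ((Finite.injective_iff_bijective).mp
        (injective_mul_iterate_inv c.s (i + 1) B hB (hfix (i + 1) (Nat.succ_pos i) h)))
    else Equiv.refl B
  have he : ∀ i : ℕ, i + 1 < 4 → ∀ w : B, ((e i w : B) : M) = w * ((⇑c.s)^[i + 1] w)⁻¹ := by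
    intro i hi w
    simp only [e, dif_pos hi]
    rfl
  have hall : ∀ (v : V) (u : B), act' u v = v := by
    apply fixed_of_frobenius_norm act' (Finset.range 3) σ e
    · intro i hi w v
      have hi' : i + 1 < 4 := by
        have := Finset.mem_range.mp hi
        omega
      show c.act (w : M) ((⇑c.t)^[i + 1] (c.act ((w⁻¹ : B) : M) v)) =
        c.act ((e i w : B) : M) ((⇑c.t)^[i + 1] v)
      rw [c.compat_iterate, he i hi', ← MulAut.mul_apply, ← map_mul]
      congr 2
      rw [InvMemClass.coe_inv, iterate_map_inv]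
    · intro v
      have key : ∀ n : ℕ, v * ∏ i ∈ Finset.range n, σ i v =
          ((List.range (n + 1)).map (fun k => (⇑c.t)^[k] v)).prod := by
        intro n
        induction n with
        | zero => simp
        | succ n ih =>
          rw [Finset.prod_range_succ, ← mul_assoc, ih,
            List.prod_range_succ (fun k => (⇑c.t)^[k] v) (n + 1)]
      rw [key 3]
      exact MonoidHom.FixedPointFree.prod_pow_eq_one (φ := (c.t : V →* V)) c.t_fpf c.t_four v
    · rw [← Nat.card_eq_fintype_card]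
      exact hcop
  intro b hb
  ext v
  exact hall v ⟨b, hb⟩


/-- **`s ^ 2` centralizes coprime invariant subgroups.** In the set-up `FourCtx`, with `M`
solvable, every `s`-invariant subgroup of `M` of order coprime to `V` is centralized by `s ^ 2`. -/
theorem sq_fixes [Finite M] [Finite V] (c : FourCtx M V) (hsol : Group.IsSolvable M) :
    ∀ (n : ℕ) (Q : Subgroup M), Nat.card Q = n → (∀ x ∈ Q, c.s x ∈ Q) →
      (Nat.card Q).Coprime (Nat.card V) → ∀ x ∈ Q, c.s (c.s x) = x := by
  intro n
  induction n using Nat.strong_induction_on with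
  | _ n ih =>
  intro Q hn hQs hcop
  have hodd : Odd (Nat.card M) := odd_card_of_fpf_four c.s c.s_fpf c.s_four
  have hττ : ∀ x : M, c.s (c.s (c.s (c.s x))) = x := c.s_four_apply
  -- induction hypothesis for proper invariant subgroups
  have hsub : ∀ Q' : Subgroup M, Q' ≤ Q → Q' ≠ Q → (∀ x ∈ Q', c.s x ∈ Q') →
      ∀ x ∈ Q', c.s (c.s x) = x := by
    intro Q' hle hne hs'
    have hlt : Nat.card Q' < n := by
      rw [← hn]
      by_contra hcon
      push Not at hcon
      exact hne (Subgroup.eq_of_le_of_card_ge hle hcon)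
    exact ih _ hlt Q' rfl hs' (Nat.Coprime.coprime_dvd_left (Subgroup.card_dvd_of_le hle) hcop)
  -- the subgroup `R = [Q, τ]`
  let S : Set M := {y | ∃ x ∈ Q, y = x⁻¹ * c.s (c.s x)}
  have hSQ : ∀ y ∈ S, y ∈ Q := by
    rintro y ⟨x, hx, rfl⟩
    exact mul_mem (inv_mem hx) (hQs _ (hQs _ hx))
  have hSs : ∀ y ∈ S, c.s y ∈ S := by
    rintro y ⟨x, hx, rfl⟩
    exact ⟨c.s x, hQs x hx, by rw [map_mul, map_inv]⟩
  have hSinv : ∀ y ∈ S, c.s (c.s y) = y⁻¹ := by
    rintro y ⟨x, hx, rfl⟩
    rw [map_mul, map_mul, map_inv, map_inv, hττ, mul_inv_rev, inv_inv]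
  have hRQ : closure S ≤ Q := (closure_le Q).mpr hSQ
  have hRs : ∀ y ∈ closure S, c.s y ∈ closure S := invariant_closure c.s hSs
  by_cases hR : closure S = Q
  swap
  · -- `τ` centralizes `R`, hence `Q`
    intro x hx
    have h1 := hsub (closure S) hRQ hR hRs
    have hy : x⁻¹ * c.s (c.s x) ∈ S := ⟨x, hx, rfl⟩
    have h2 := h1 _ (subset_closure hy)
    rw [hSinv _ hy] at h2
    have h3 : (x⁻¹ * c.s (c.s x)) * (x⁻¹ * c.s (c.s x)) = 1 := by
      nth_rewrite 1 [← h2]
      exact inv_mul_cancel _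
    have h4 := eq_one_of_mul_self_of_odd hodd h3
    exact (inv_mul_eq_one.mp h4).symm
  -- now `Q = [Q, τ]`
  by_cases hQbot : Q = ⊥
  · intro x hx
    rw [hQbot, mem_bot] at hx
    rw [hx, map_one, map_one]
  -- the derived subgroup of `Q`
  have hQ'le : ⁅Q, Q⁆ ≤ Q := commutator_le.mpr (fun a ha b hb =>
    mul_mem (mul_mem (mul_mem ha hb) (inv_mem ha)) (inv_mem hb))
  have hQ'ne : ⁅Q, Q⁆ ≠ Q := by
    intro hcon
    have h1 : Group.IsSolvable Q := inferInstance
    have h2 : Nontrivial Q := by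
      rw [Subgroup.nontrivial_iff_ne_bot]
      exact hQbot
    have h3 := Group.IsSolvable.commutator_lt_top_of_nontrivial Q
    have h4 : (_root_.commutator Q).map Q.subtype = ⁅Q, Q⁆ := map_subtype_commutator Q
    rw [hcon] at h4
    have h5 : _root_.commutator Q = ⊤ := by
      apply map_injective Q.subtype_injective
      rw [h4, ← MonoidHom.range_eq_map, Subgroup.range_subtype]
    exact h3.ne h5
  have hmapQ : Q.map (c.s : M →* M) = Q := map_eq_of_invariant c.s Q hQs
  have hQ's : ∀ x ∈ ⁅Q, Q⁆, c.s x ∈ ⁅Q, Q⁆ := by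
    intro x hx
    have h1 : c.s x ∈ (⁅Q, Q⁆).map (c.s : M →* M) := ⟨x, hx, rfl⟩
    rwa [map_commutator, hmapQ] at h1
  have hτQ' := hsub ⁅Q, Q⁆ hQ'le hQ'ne hQ's
  -- `Q'` is central in `Q`
  have hcent : ∀ d ∈ ⁅Q, Q⁆, ∀ x ∈ Q, x * d = d * x := by
    intro d hd x hx
    rw [← hR] at hx
    refine commute_of_mem_closure ?_ x hx
    rintro y ⟨x₀, hx₀, rfl⟩
    have h1 : x₀ * d * x₀⁻¹ ∈ ⁅Q, Q⁆ := by
      have h2 : x₀ * d * x₀⁻¹ = ⁅x₀, d⁆ * d := by
        rw [commutatorElement_def]; group
      rw [h2]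
      exact mul_mem (commutator_mem_commutator hx₀ (hQ'le hd)) hd
    have h3 := hτQ' _ h1
    rw [map_mul, map_mul, map_mul, map_mul, map_inv, map_inv, hτQ' d hd] at h3
    -- h3 : τ x₀ * d * (τ x₀)⁻¹ = x₀ * d * x₀⁻¹
    calc x₀⁻¹ * c.s (c.s x₀) * d
        = x₀⁻¹ * (c.s (c.s x₀) * d * (c.s (c.s x₀))⁻¹) * c.s (c.s x₀) := by group
      _ = x₀⁻¹ * (x₀ * d * x₀⁻¹) * c.s (c.s x₀) := by rw [h3]
      _ = d * (x₀⁻¹ * c.s (c.s x₀)) := by group
  by_cases hab : ∀ a ∈ Q, ∀ b ∈ Q, a * b = b * a
  · -- `Q` abelian and inverted by `τ`: trivial action, so `Q = ⊥`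
    exfalso
    have hinv : ∀ x ∈ Q, c.s (c.s x) = x⁻¹ := by
      intro x hx
      rw [← hR] at hx
      induction hx using closure_induction with
      | mem y hy => exact hSinv y hy
      | one => rw [map_one, map_one, inv_one]
      | mul a b ha hb iha ihb =>
        rw [map_mul, map_mul, iha, ihb, mul_inv_rev]
        exact hab _ (inv_mem (hRQ ha)) _ (inv_mem (hRQ hb))
      | inv a ha iha => rw [map_inv, map_inv, iha]
    have h1 : ∀ b ∈ Q, c.s (c.s b) = b → b = 1 := by
      intro b hb hfix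
      rw [hinv b hb] at hfix
      apply eq_one_of_mul_self_of_odd hodd
      nth_rewrite 1 [← hfix]
      exact inv_mul_cancel b
    have h2 := c.act_eq_one_of_sq_fpf Q hQs hcop h1
    apply hQbot
    rw [eq_bot_iff]
    intro b hb
    rw [mem_bot]
    apply c.act_inj
    rw [h2 b hb, map_one]
  -- `Q` nonabelian: the centre `Z` of `Q`
  let Z : Subgroup M := Q ⊓ centralizer (Q : Set M)
  have hZle : Z ≤ Q := inf_le_left
  have hZc : ∀ z ∈ Z, ∀ x ∈ Q, x * z = z * x := by
    intro z hz x hx
    exact (mem_centralizer_iff.mp hz.2) x hx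
  have hZne : Z ≠ Q := by
    intro hcon
    apply hab
    intro a ha b hb
    have : b ∈ Z := by rw [hcon]; exact hb
    exact hZc b this a ha
  have hZs : ∀ z ∈ Z, c.s z ∈ Z := by
    intro z hz
    refine ⟨hQs z hz.1, ?_⟩
    show c.s z ∈ centralizer (Q : Set M)
    rw [mem_centralizer_iff]
    intro x hx
    have hx' : x ∈ Q.map (c.s : M →* M) := by rw [hmapQ]; exact hx
    obtain ⟨x', hx'Q, rfl⟩ := hx'
    show c.s x' * c.s z = c.s z * c.s x'
    rw [← map_mul, ← map_mul, hZc z hz x' hx'Q]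
  have hτZ := hsub Z hZle hZne hZs
  have hQ'Z : ⁅Q, Q⁆ ≤ Z := by
    intro d hd
    refine ⟨hQ'le hd, ?_⟩
    show d ∈ centralizer (Q : Set M)
    rw [mem_centralizer_iff]
    intro x hx
    exact hcent d hd x hx
  -- every element of `Q` is inverted by `τ` modulo `Z`
  have hmod : ∀ x ∈ Q, x * c.s (c.s x) ∈ Z := by
    let I : Subgroup M :=
      { carrier := {x | x ∈ Q ∧ x * c.s (c.s x) ∈ Z}
        one_mem' := ⟨one_mem Q, by rw [map_one, map_one, mul_one]; exact one_mem Z⟩
        mul_mem' := by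
          rintro a b ⟨ha, haz⟩ ⟨hb, hbz⟩
          refine ⟨mul_mem ha hb, ?_⟩
          have h1 : a * b * c.s (c.s (a * b)) =
              ⁅a, b⁆ * ((a * c.s (c.s a)) * (b * c.s (c.s b))) := by
            rw [map_mul, map_mul, commutatorElement_def]
            have h2 : b⁻¹ * (a * c.s (c.s a)) = (a * c.s (c.s a)) * b⁻¹ :=
              hZc _ haz _ (inv_mem hb)
            calc a * b * (c.s (c.s a) * c.s (c.s b))
                = a * b * a⁻¹ * ((a * c.s (c.s a)) * b⁻¹) * (b * c.s (c.s b)) := by group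
              _ = a * b * a⁻¹ * (b⁻¹ * (a * c.s (c.s a))) * (b * c.s (c.s b)) := by rw [h2]
              _ = a * b * a⁻¹ * b⁻¹ * ((a * c.s (c.s a)) * (b * c.s (c.s b))) := by group
          rw [h1]
          exact mul_mem (hQ'Z (commutator_mem_commutator ha hb)) (mul_mem haz hbz)
        inv_mem' := by
          rintro a ⟨ha, haz⟩
          refine ⟨inv_mem ha, ?_⟩
          have h1 : a⁻¹ * c.s (c.s a⁻¹) = a⁻¹ * (a * c.s (c.s a))⁻¹ * a := by
            rw [map_inv, map_inv]; group
          rw [h1]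
          have h2 : a⁻¹ * (a * c.s (c.s a))⁻¹ = (a * c.s (c.s a))⁻¹ * a⁻¹ :=
            hZc _ (inv_mem haz) _ (inv_mem ha)
          rw [h2, mul_assoc, inv_mul_cancel, mul_one]
          exact inv_mem haz }
    have hSI : closure S ≤ I := by
      rw [closure_le]
      intro y hy
      refine ⟨hSQ y hy, ?_⟩
      rw [hSinv y hy, mul_inv_cancel]
      exact one_mem Z
    intro x hx
    rw [← hR] at hx
    exact (hSI hx).2
  -- `x` commutes with `s x`
  have hcomm : ∀ x ∈ Q, x * c.s x = c.s x * x := by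
    intro x hx
    set a := c.s x with ha
    have haQ : a ∈ Q := hQs x hx
    have hcQ' : ⁅x, a⁆ ∈ ⁅Q, Q⁆ := commutator_mem_commutator hx haQ
    have hcZ : ⁅x, a⁆ ∈ Z := hQ'Z hcQ'
    obtain ⟨z, hz, hzx⟩ : ∃ z ∈ Z, c.s a = x⁻¹ * z := ⟨x * c.s a, hmod x hx, by group⟩
    have h1 : c.s ⁅x, a⁆ = ⁅x, a⁆ := by
      rw [commutatorElement_def, map_mul, map_mul, map_mul, map_inv, map_inv, ← ha, hzx]
      have h2 : z * a⁻¹ = a⁻¹ * z := (hZc z hz _ (inv_mem haQ)).symm
      have h3 : x⁻¹ * ⁅x, a⁆ = ⁅x, a⁆ * x⁻¹ := hZc _ hcZ _ (inv_mem hx)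
      calc a * (x⁻¹ * z) * a⁻¹ * (x⁻¹ * z)⁻¹
          = a * x⁻¹ * (z * a⁻¹) * z⁻¹ * x := by group
        _ = a * x⁻¹ * (a⁻¹ * z) * z⁻¹ * x := by rw [h2]
        _ = (x⁻¹ * ⁅x, a⁆) * x := by rw [commutatorElement_def]; group
        _ = ⁅x, a⁆ * x⁻¹ * x := by rw [h3]
        _ = x * a * x⁻¹ * a⁻¹ := by rw [commutatorElement_def]; group
    have h4 := c.s_fpf _ h1
    rw [commutatorElement_def] at h4
    calc x * a = (x * a * x⁻¹ * a⁻¹) * (a * x) := by group
      _ = a * x := by rw [h4, one_mul]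
  -- the abelian invariant subgroup `U = ⟨x, s x, Z⟩`
  intro x hx
  let T : Set M := {x, c.s x} ∪ (Z : Set M)
  have hTQ : ∀ y ∈ T, y ∈ Q := by
    rintro y (hy | hy)
    · rcases hy with rfl | hy
      · exact hx
      · rw [Set.mem_singleton_iff] at hy
        rw [hy]; exact hQs x hx
    · exact hZle hy
  have hTc : ∀ a ∈ T, ∀ b ∈ T, a * b = b * a := by
    intro a ha b hb
    rcases hb with hb | hb
    · rcases ha with ha | ha
      · rcases ha with rfl | ha <;> rcases hb with rfl | hb
        · rfl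
        · rw [Set.mem_singleton_iff] at hb
          rw [hb]; exact hcomm a hx
        · rw [Set.mem_singleton_iff] at ha
          rw [ha]; exact (hcomm b hx).symm
        · rw [Set.mem_singleton_iff] at ha hb
          rw [ha, hb]
      · exact (hZc a ha b (hTQ b (Or.inl hb))).symm
    · exact hZc b hb a (hTQ a ha)
  have hUQ : closure T ≤ Q := (closure_le Q).mpr hTQ
  have hUs : ∀ y ∈ closure T, c.s y ∈ closure T := by
    intro y hy
    have h1 : (closure T).map (c.s : M →* M) ≤ closure T := by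
      rw [MonoidHom.map_closure, closure_le]
      rintro _ ⟨y, hy, rfl⟩
      rcases hy with hy | hy
      · rcases hy with rfl | hy
        · exact subset_closure (Or.inl (Or.inr rfl))
        · rw [Set.mem_singleton_iff] at hy
          rw [hy]
          -- `s (s x) = x⁻¹ * z`
          have h2 : (c.s : M →* M) (c.s x) = x⁻¹ * (x * c.s (c.s x)) := by
            show c.s (c.s x) = _
            group
          rw [h2]
          exact mul_mem (inv_mem (subset_closure (Or.inl (Or.inl rfl))))
            (subset_closure (Or.inr (hmod x hx)))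
      · exact subset_closure (Or.inr (hZs y hy))
    exact h1 ⟨y, hy, rfl⟩
  have hUne : closure T ≠ Q := by
    intro hcon
    apply hab
    intro a ha b hb
    rw [← hcon] at ha hb
    exact commute_closure_of_commute hTc a ha b hb
  exact hsub (closure T) hUQ hUne hUs x (subset_closure (Or.inl (Or.inl rfl)))

end FourCtx

end Cfsg.Agent.Helper52
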