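import Mathlib
import Cfsg.Agent.Lib.Helper52.FpfFour

/-!
# Gorenstein–Herstein: fixed-point-free automorphisms of order dividing four

A finite solvable group with a fixed-point-free automorphism `σ`, `σ ^ 4 = 1`, has nilpotent
derived subgroup (`commutator_isNilpotent_of_fpf_four`).
-/

set_option autoImplicit false

namespace Cfsg.Agent.Helper52

open Subgroup
open scoped commutatorElement

universe u

section MinNormal

variable {G : Type u} [Group G] [Finite G]

/-- A minimal nontrivial `σ`-invariant normal subgroup. -/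
theorem exists_min_invariant_normal (σ : G ≃* G) (h : ¬ Subsingleton G) :
    ∃ V : Subgroup G, V.Normal ∧ (∀ x ∈ V, σ x ∈ V) ∧ V ≠ ⊥ ∧
      ∀ N : Subgroup G, N.Normal → (∀ x ∈ N, σ x ∈ N) → N ≠ ⊥ → N ≤ V → N = V := by
  classical
  let P : ℕ → Prop := fun k => ∃ N : Subgroup G, N.Normal ∧ (∀ x ∈ N, σ x ∈ N) ∧ N ≠ ⊥ ∧
    Nat.card N = k
  have hex : ∃ k, P k := by
    refine ⟨Nat.card (⊤ : Subgroup G), ⊤, inferInstance, fun x _ => mem_top _, ?_, rfl⟩
    intro hcon
    apply h
    rw [← Subgroup.subsingleton_iff, ]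
    exact ⟨fun a b => by
      have ha : a = ⊥ := by
        rw [eq_bot_iff, ← hcon]; exact le_top
      have hb : b = ⊥ := by
        rw [eq_bot_iff, ← hcon]; exact le_top
      rw [ha, hb]⟩
  obtain ⟨V, hVn, hVs, hVne, hVc⟩ := Nat.find_spec hex
  refine ⟨V, hVn, hVs, hVne, ?_⟩
  intro N hNn hNs hNne hle
  apply Subgroup.eq_of_le_of_card_ge hle
  rw [hVc]
  exact Nat.find_min' hex ⟨N, hNn, hNs, hNne, rfl⟩

variable (σ : G ≃* G) (V : Subgroup G)

/-- A minimal invariant normal subgroup of a solvable group is abelian. -/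
theorem commute_of_min_invariant_normal [hsol : Group.IsSolvable G] (hVn : V.Normal)
    (hVs : ∀ x ∈ V, σ x ∈ V) (hVne : V ≠ ⊥)
    (hVmin : ∀ N : Subgroup G, N.Normal → (∀ x ∈ N, σ x ∈ N) → N ≠ ⊥ → N ≤ V → N = V) :
    ∀ a ∈ V, ∀ b ∈ V, a * b = b * a := by
  have hmapV : V.map (σ : G →* G) = V := map_eq_of_invariant σ V hVs
  have h1 : ⁅V, V⁆ = ⊥ := by
    by_contra hne
    have h2 : ⁅V, V⁆ = V := by
      apply hVmin _ inferInstance _ hne V.commutator_le_self
      intro x hx
      have h3 : σ x ∈ (⁅V, V⁆).map (σ : G →* G) := ⟨x, hx, rfl⟩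
      rwa [map_commutator, hmapV] at h3
    have h4 : Nontrivial V := by
      rw [Subgroup.nontrivial_iff_ne_bot]
      exact hVne
    have h5 := Group.IsSolvable.commutator_lt_top_of_nontrivial V
    have h6 : (_root_.commutator V).map V.subtype = ⁅V, V⁆ := map_subtype_commutator V
    rw [h2] at h6
    have h7 : _root_.commutator V = ⊤ := by
      apply map_injective V.subtype_injective
      rw [h6, ← MonoidHom.range_eq_map, Subgroup.range_subtype]
    exact h5.ne h7
  rw [commutator_eq_bot_iff_le_centralizer] at h1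
  intro a ha b hb
  have h2 := h1 ha
  rw [mem_centralizer_iff] at h2
  exact (h2 b hb).symm

/-- A minimal invariant normal subgroup of a solvable group has prime exponent. -/
theorem exists_prime_exponent_of_min_invariant_normal [hsol : Group.IsSolvable G] (hVn : V.Normal)
    (hVs : ∀ x ∈ V, σ x ∈ V) (hVne : V ≠ ⊥)
    (hVmin : ∀ N : Subgroup G, N.Normal → (∀ x ∈ N, σ x ∈ N) → N ≠ ⊥ → N ≤ V → N = V) :
    ∃ p : ℕ, p.Prime ∧ ∀ v ∈ V, v ^ p = 1 := by
  have hab := commute_of_min_invariant_normal σ V hVn hVs hVne hVmin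
  have hcard : Nat.card V ≠ 1 := by
    intro hcon
    exact hVne ((Subgroup.card_eq_one).mp hcon)
  obtain ⟨p, hp, hpd⟩ := Nat.exists_prime_and_dvd hcard
  haveI : Fact p.Prime := ⟨hp⟩
  refine ⟨p, hp, ?_⟩
  let Ω : Subgroup G :=
    { carrier := {v | v ∈ V ∧ v ^ p = 1}
      one_mem' := ⟨one_mem V, one_pow p⟩
      mul_mem' := by
        rintro a b ⟨ha, hap⟩ ⟨hb, hbp⟩
        refine ⟨mul_mem ha hb, ?_⟩
        have hc : Commute a b := hab a ha b hb
        rw [hc.mul_pow, hap, hbp, one_mul]
      inv_mem' := by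
        rintro a ⟨ha, hap⟩
        exact ⟨inv_mem ha, by rw [inv_pow, hap, inv_one]⟩ }
  have hΩn : Ω.Normal := by
    refine ⟨fun v hv g => ?_⟩
    refine ⟨hVn.conj_mem v hv.1 g, ?_⟩
    rw [conj_pow, hv.2, mul_one, mul_inv_cancel]
  have hΩs : ∀ x ∈ Ω, σ x ∈ Ω := by
    intro x hx
    exact ⟨hVs x hx.1, by rw [← map_pow, hx.2, map_one]⟩
  have hΩne : Ω ≠ ⊥ := by
    obtain ⟨x, hx⟩ := exists_prime_orderOf_dvd_card' (G := V) p hpd
    intro hcon
    have h1 : (x : G) ∈ Ω := by
      refine ⟨x.2, ?_⟩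
      have h2 : x ^ p = 1 := by rw [← hx]; exact pow_orderOf_eq_one x
      have h3 := congrArg Subtype.val h2
      simpa using h3
    rw [hcon, mem_bot] at h1
    have h4 : x = 1 := Subtype.ext h1
    rw [h4, orderOf_one] at hx
    exact hp.one_lt.ne hx
  have hΩV : Ω = V := hVmin Ω hΩn hΩs hΩne (fun v hv => hv.1)
  intro v hv
  rw [← hΩV] at hv
  exact hv.2

end MinNormal

namespace FourCtx

variable {M : Type u} {V : Type u} [Group M] [CommGroup V] [Finite M] [Finite V]

/-- In the irreducible situation, a normal invariant `p`-subgroup of `M` is trivial. -/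
theorem eq_bot_of_pgroup (c : FourCtx M V) {p : ℕ} [Fact p.Prime] (hV : IsPGroup p V)
    [Nontrivial V]
    (hmin : ∀ W : Subgroup V, (∀ m : M, ∀ w ∈ W, c.act m w ∈ W) → (∀ w ∈ W, c.t w ∈ W) →
      W ≠ ⊥ → W = ⊤)
    (R : Subgroup M) [hRn : R.Normal] (hRs : ∀ r ∈ R, c.s r ∈ R) (hR : IsPGroup p R) :
    R = ⊥ := by
  classical
  let Fix : Subgroup V :=
    { carrier := {v | ∀ r ∈ R, c.act r v = v}
      one_mem' := fun r _ => map_one _
      mul_mem' := by
        intro a b ha hb r hr
        rw [map_mul, ha r hr, hb r hr]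
      inv_mem' := by
        intro a ha r hr
        rw [map_inv, ha r hr] }
  have hmapR : R.map (c.s : M →* M) = R := map_eq_of_invariant c.s R hRs
  have hFixM : ∀ m : M, ∀ w ∈ Fix, c.act m w ∈ Fix := by
    intro m w hw r hr
    have h1 : m⁻¹ * r * m ∈ R := by
      have := hRn.conj_mem r hr m⁻¹
      rwa [inv_inv] at this
    have h2 : r * m = m * (m⁻¹ * r * m) := by group
    rw [← MulAut.mul_apply, ← map_mul, h2, map_mul, MulAut.mul_apply, hw _ h1]
  have hFixt : ∀ w ∈ Fix, c.t w ∈ Fix := by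
    intro w hw r hr
    have hr' : r ∈ R.map (c.s : M →* M) := by rw [hmapR]; exact hr
    obtain ⟨r', hr'R, rfl⟩ := hr'
    show c.act (c.s r') (c.t w) = c.t w
    rw [← c.compat, hw r' hr'R]
  have hFixne : Fix ≠ ⊥ := by
    let f : R →* MulAut V := c.act.comp R.subtype
    letI : MulAction R V := MulAction.compHom V f
    have hsmul : ∀ (r : R) (v : V), r • v = c.act (r : M) v := fun r v => rfl
    have hpV : p ∣ Nat.card V := by
      rcases hV.card_eq_or_dvd with h | h
      · exact absurd h (Finite.one_lt_card).ne'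
      · exact h
    have h1 : (1 : V) ∈ MulAction.fixedPoints R V := by
      intro r
      rw [hsmul, map_one]
    obtain ⟨b, hb, hb1⟩ := hR.exists_fixed_point_of_prime_dvd_card_of_fixed_point V hpV h1
    intro hcon
    have h2 : b ∈ Fix := by
      intro r hr
      have := hb ⟨r, hr⟩
      rwa [hsmul] at this
    rw [hcon, mem_bot] at h2
    exact hb1 h2.symm
  have hFixtop := hmin Fix hFixM hFixt hFixne
  rw [eq_bot_iff]
  intro r hr
  rw [mem_bot]
  apply c.act_inj
  rw [map_one]
  ext v
  have hv : v ∈ Fix := by rw [hFixtop]; exact mem_top v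
  exact hv r hr

/-- In the irreducible situation, a normal invariant nilpotent subgroup of `M` has order coprime
to `V`. -/
theorem coprime_of_nilpotent (c : FourCtx M V) {p : ℕ} [hp : Fact p.Prime] (hV : IsPGroup p V)
    [Nontrivial V]
    (hmin : ∀ W : Subgroup V, (∀ m : M, ∀ w ∈ W, c.act m w ∈ W) → (∀ w ∈ W, c.t w ∈ W) →
      W ≠ ⊥ → W = ⊤)
    (N : Subgroup M) [hNn : N.Normal] (hNs : ∀ x ∈ N, c.s x ∈ N) [hNnil : Group.IsNilpotent N] :
    (Nat.card N).Coprime (Nat.card V) := by
  classical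
  let P : Sylow p N := default
  haveI hPn : (P : Subgroup N).Normal := inferInstance
  haveI hPc : (P : Subgroup N).Characteristic := Sylow.characteristic_of_normal P hPn
  let R : Subgroup M := (P : Subgroup N).map N.subtype
  haveI hRn : R.Normal := inferInstance
  have hRs : ∀ r ∈ R, c.s r ∈ R := by
    rintro _ ⟨y, hy, rfl⟩
    refine ⟨restrictEquiv c.s N hNs y, ?_, rfl⟩
    have h1 := hPc.fixed (restrictEquiv c.s N hNs)
    have h2 : y ∈ (P : Subgroup N).comap (restrictEquiv c.s N hNs).toMonoidHom := by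
      rw [h1]; exact hy
    exact h2
  have hR : IsPGroup p R := P.isPGroup'.map N.subtype
  have hRbot := c.eq_bot_of_pgroup hV hmin R hRs hR
  have hPbot : (P : Subgroup N) = ⊥ :=
    (Subgroup.map_eq_bot_iff_of_injective _ N.subtype_injective).mp hRbot
  have hnd : ¬ p ∣ Nat.card N := fun hd => P.ne_bot_of_dvd_card hd hPbot
  obtain ⟨k, hk⟩ := IsPGroup.iff_card.mp hV
  rw [hk]
  apply Nat.Coprime.pow_right
  exact (Nat.coprime_comm.mp ((Nat.Prime.coprime_iff_not_dvd hp.out).mpr hnd))

/-- In the irreducible situation, if the derived subgroup of `M` is nilpotent then `M` is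
abelian. -/
theorem commute_all (c : FourCtx M V) {p : ℕ} [hp : Fact p.Prime] (hV : IsPGroup p V)
    [Nontrivial V]
    (hmin : ∀ W : Subgroup V, (∀ m : M, ∀ w ∈ W, c.act m w ∈ W) → (∀ w ∈ W, c.t w ∈ W) →
      W ≠ ⊥ → W = ⊤)
    (hsol : Group.IsSolvable M) (hnil : Group.IsNilpotent (commutator M)) :
    ∀ g h : M, g * h = h * g := by
  classical
  let A : Subgroup M := commutator M
  have hAs : ∀ x ∈ A, c.s x ∈ A := by
    intro x hx
    have h1 := (inferInstance : (commutator M).Characteristic).fixed c.s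
    have h2 : x ∈ (commutator M).comap c.s.toMonoidHom := by rw [h1]; exact hx
    exact h2
  haveI : Group.IsNilpotent A := hnil
  have hcopA := c.coprime_of_nilpotent hV hmin A hAs
  have hτA := c.sq_fixes hsol _ A rfl hAs hcopA
  -- `s` inverts `A`
  have hinvA : ∀ a ∈ A, c.s a = a⁻¹ := by
    intro a ha
    let φ : A →* A := ((restrictEquiv c.s A hAs : A ≃* A) : A →* A)
    have hφ : MonoidHom.FixedPointFree φ := restrictEquiv_fpf c.s c.s_fpf A hAs
    have hφ2 : (⇑φ)^[2] = id := by
      funext x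
      apply Subtype.ext
      show (((⇑(restrictEquiv c.s A hAs))^[2] x : A) : M) = x
      rw [restrictEquiv_iterate]
      exact hτA x x.2
    have h1 := MonoidHom.FixedPointFree.coe_eq_inv_of_sq_eq_one hφ hφ2
    have h2 := congrFun h1 ⟨a, ha⟩
    exact congrArg Subtype.val h2
  -- `A` is central
  have hAcent : ∀ a ∈ A, ∀ h : M, h * a = a * h := by
    intro a ha h
    obtain ⟨g, rfl⟩ := MonoidHom.FixedPointFree.commutatorMap_surjective
      (φ := (c.s : M →* M)) c.s_fpf h
    show g / c.s g * a = a * (g / c.s g)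
    have hb : g⁻¹ * a⁻¹ * g ∈ A := by
      have := (inferInstance : A.Normal).conj_mem a⁻¹ (inv_mem ha) g⁻¹
      rwa [inv_inv] at this
    have h1 := hinvA _ hb
    rw [map_mul, map_mul, map_inv, map_inv, hinvA a ha, inv_inv] at h1
    -- h1 : (s g)⁻¹ * a * s g = (g⁻¹ * a⁻¹ * g)⁻¹
    have h2 : (c.s g)⁻¹ * a * c.s g = g⁻¹ * a * g := by
      rw [h1]; group
    rw [div_eq_mul_inv]
    calc g * (c.s g)⁻¹ * a = g * ((c.s g)⁻¹ * a * c.s g) * (c.s g)⁻¹ := by group
      _ = g * (g⁻¹ * a * g) * (c.s g)⁻¹ := by rw [h2]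
      _ = a * (g * (c.s g)⁻¹) := by group
  -- `M` is nilpotent
  haveI hMnil : Group.IsNilpotent M := by
    apply Subgroup.isNilpotent_of_ker_le_center (Abelianization.of (G := M))
    rw [Abelianization.ker_of]
    intro a ha
    rw [Subgroup.mem_center_iff]
    intro h
    exact hAcent a ha h
  haveI : Group.IsNilpotent (⊤ : Subgroup M) := inferInstance
  have hcopT := c.coprime_of_nilpotent hV hmin (⊤ : Subgroup M) (fun x _ => mem_top _)
  have hτ := c.sq_fixes hsol _ (⊤ : Subgroup M) rfl (fun x _ => mem_top _) hcopT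
  have hinv : Function.Involutive (c.s : M →* M) := fun x => hτ x (mem_top x)
  intro g h
  exact MonoidHom.FixedPointFree.commute_all_of_involutive c.s_fpf hinv g h

end FourCtx

theorem card_quotient_lt_of_ne_bot' {G : Type u} [Group G] [Finite G] (N : Subgroup G) [N.Normal]
    (hN : N ≠ ⊥) : Nat.card (G ⧸ N) < Nat.card G := by
  have h1 : Nat.card G = Nat.card (G ⧸ N) * Nat.card N := Subgroup.card_eq_card_quotient_mul_card_subgroup N
  have h2 : 1 < Nat.card N := N.one_lt_card_iff_ne_bot.mpr hN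
  have h3 : 0 < Nat.card (G ⧸ N) := Nat.card_pos
  rw [h1]
  nlinarith

/-- **Gorenstein–Herstein.** A finite solvable group with a fixed-point-free automorphism `σ`
such that `σ ^ 4 = 1` has nilpotent derived subgroup. -/
theorem commutator_isNilpotent_of_fpf_four : ∀ (n : ℕ) (G : Type u) [Group G] [Finite G],
    Nat.card G = n → Group.IsSolvable G → ∀ σ : G ≃* G,
    MonoidHom.FixedPointFree (σ : G →* G) → (⇑σ)^[4] = id →
    Group.IsNilpotent (commutator G) := by
  intro n
  induction n using Nat.strong_induction_on with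
  | _ n ih =>
  intro G _ _ hn hsol σ hσ h4
  classical
  by_cases htriv : Subsingleton G
  · infer_instance
  haveI := hsol
  obtain ⟨V, hVn, hVs, hVne, hVmin⟩ := exists_min_invariant_normal σ htriv
  haveI := hVn
  have hab := commute_of_min_invariant_normal σ V hVn hVs hVne hVmin
  obtain ⟨p, hp, hexp⟩ := exists_prime_exponent_of_min_invariant_normal σ V hVn hVs hVne hVmin
  haveI : Fact p.Prime := ⟨hp⟩
  letI : CommGroup V :=
    { (inferInstance : Group V) with
      mul_comm := fun a b => Subtype.ext (hab a a.2 b b.2) }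
  have hmapV : V.map (σ : G →* G) = V := map_eq_of_invariant σ V hVs
  -- the centralizer of `V`
  let C : Subgroup G := centralizer (V : Set G)
  haveI hCn : C.Normal := inferInstance
  have hVC : V ≤ C := by
    intro v hv
    show v ∈ centralizer (V : Set G)
    rw [mem_centralizer_iff]
    intro w hw
    exact hab w hw v hv
  have hCne : C ≠ ⊥ := fun hcon => hVne (eq_bot_iff.mpr (hcon ▸ hVC))
  have hCs : ∀ x ∈ C, σ x ∈ C := by
    intro x hx
    show σ x ∈ centralizer (V : Set G)
    rw [mem_centralizer_iff]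
    intro w hw
    have hw' : w ∈ V.map (σ : G →* G) := by rw [hmapV]; exact hw
    obtain ⟨w', hw'V, rfl⟩ := hw'
    show σ w' * σ x = σ x * σ w'
    rw [← map_mul, ← map_mul, (mem_centralizer_iff.mp hx) w' hw'V]
  -- the action of `G ⧸ C` on `V`
  have hker : ∀ x ∈ C, (MulAut.conjNormal x : MulAut V) = 1 := by
    intro x hx
    ext v
    rw [MulAut.conjNormal_apply, MulAut.one_apply]
    have := (mem_centralizer_iff.mp hx) v v.2
    rw [← this, mul_inv_cancel_right]
  have hker' : C ≤ (MulAut.conjNormal : G →* MulAut V).ker :=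
    fun x hx => MonoidHom.mem_ker.mpr (hker x hx)
  let act : G ⧸ C →* MulAut V := QuotientGroup.lift C MulAut.conjNormal hker'
  have hact : ∀ (g : G) (v : V), ((act (g : G ⧸ C) v : V) : G) = g * v * g⁻¹ := by
    intro g v
    show ((QuotientGroup.lift C MulAut.conjNormal hker' (g : G ⧸ C) v : V) : G) = g * v * g⁻¹
    rw [QuotientGroup.lift_mk, MulAut.conjNormal_apply]
  let c : FourCtx (G ⧸ C) V :=
    { act := act
      s := quotEquiv σ C hCs
      t := restrictEquiv σ V hVs
      act_inj := by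
        rw [injective_iff_map_eq_one]
        intro x hx
        obtain ⟨g, rfl⟩ := QuotientGroup.mk_surjective x
        rw [QuotientGroup.eq_one_iff]
        show g ∈ centralizer (V : Set G)
        rw [mem_centralizer_iff]
        intro v hv
        have h1 := hact g ⟨v, hv⟩
        rw [hx, MulAut.one_apply] at h1
        have h2 : v = g * v * g⁻¹ := h1
        calc v * g = g * v * g⁻¹ * g := by rw [← h2]
          _ = g * v := by group
      compat := by
        intro m x
        obtain ⟨g, rfl⟩ := QuotientGroup.mk_surjective m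
        apply Subtype.ext
        rw [restrictEquiv_apply, hact, quotEquiv_mk, hact, restrictEquiv_apply, map_mul, map_mul,
          map_inv]
      s_fpf := quotEquiv_fpf σ hσ C hCs
      s_four := quotEquiv_iterate_eq_id σ C hCs 4 h4
      t_fpf := restrictEquiv_fpf σ hσ V hVs
      t_four := restrictEquiv_iterate_eq_id σ V hVs 4 h4 }
  have hV : IsPGroup p V := by
    intro v
    refine ⟨1, ?_⟩
    apply Subtype.ext
    rw [pow_one, Subgroup.coe_pow, hexp v v.2]
    rfl
  haveI : Nontrivial V := by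
    rw [Subgroup.nontrivial_iff_ne_bot]
    exact hVne
  have hmin : ∀ W : Subgroup V, (∀ m : G ⧸ C, ∀ w ∈ W, c.act m w ∈ W) → (∀ w ∈ W, c.t w ∈ W) →
      W ≠ ⊥ → W = ⊤ := by
    intro W hWM hWt hWne
    have hNn : (W.map V.subtype).Normal := by
      refine ⟨?_⟩
      rintro _ ⟨w, hw, rfl⟩ g
      refine ⟨act (g : G ⧸ C) w, hWM _ w hw, ?_⟩
      exact hact g w
    have hNs : ∀ x ∈ W.map V.subtype, σ x ∈ W.map V.subtype := by
      rintro _ ⟨w, hw, rfl⟩
      exact ⟨restrictEquiv σ V hVs w, hWt w hw, rfl⟩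
    have hNne : W.map V.subtype ≠ ⊥ := by
      intro hcon
      exact hWne ((Subgroup.map_eq_bot_iff_of_injective _ V.subtype_injective).mp hcon)
    have hNV := hVmin _ hNn hNs hNne (map_subtype_le W)
    rw [eq_top_iff]
    intro v _
    have hv : (v : G) ∈ W.map V.subtype := by rw [hNV]; exact v.2
    obtain ⟨w, hw, hwv⟩ := hv
    have : w = v := Subtype.ext hwv
    rwa [← this]
  -- induction hypothesis for `G ⧸ C`
  have hMsol : Group.IsSolvable (G ⧸ C) :=
    Group.isSolvable_of_surjective (f := QuotientGroup.mk' C) (QuotientGroup.mk'_surjective C)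
  have hMlt : Nat.card (G ⧸ C) < n := hn ▸ card_quotient_lt_of_ne_bot' C hCne
  have hMnil : Group.IsNilpotent (commutator (G ⧸ C)) :=
    ih _ hMlt (G ⧸ C) rfl hMsol c.s c.s_fpf c.s_four
  have hMcomm := c.commute_all hV hmin hMsol hMnil
  -- the derived subgroup centralizes `V`
  have hKC : commutator G ≤ C := by
    rw [commutator_eq_closure, closure_le]
    rintro _ ⟨g, h, rfl⟩
    show ⁅g, h⁆ ∈ C
    rw [← QuotientGroup.eq_one_iff, commutatorElement_def, QuotientGroup.mk_mul,
      QuotientGroup.mk_mul, QuotientGroup.mk_mul, QuotientGroup.mk_inv, QuotientGroup.mk_inv,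
      hMcomm (g : G ⧸ C) (h : G ⧸ C)]
    group
  -- induction hypothesis for `G ⧸ V`
  have hQsol : Group.IsSolvable (G ⧸ V) :=
    Group.isSolvable_of_surjective (f := QuotientGroup.mk' V) (QuotientGroup.mk'_surjective V)
  have hQlt : Nat.card (G ⧸ V) < n := hn ▸ card_quotient_lt_of_ne_bot' V hVne
  haveI hQnil : Group.IsNilpotent (commutator (G ⧸ V)) :=
    ih _ hQlt (G ⧸ V) rfl hQsol (quotEquiv σ V hVs) (quotEquiv_fpf σ hσ V hVs)
      (quotEquiv_iterate_eq_id σ V hVs 4 h4)
  -- central extension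
  have hmem : ∀ k : commutator G, (QuotientGroup.mk' V) (k : G) ∈ commutator (G ⧸ V) := by
    intro k
    have h1 : (commutator G).map (QuotientGroup.mk' V) = commutator (G ⧸ V) := by
      rw [_root_.commutator_def, _root_.commutator_def, map_commutator,
        Subgroup.map_top_of_surjective _ (QuotientGroup.mk'_surjective V)]
    rw [← h1]
    exact ⟨k, k.2, rfl⟩
  let f : commutator G →* commutator (G ⧸ V) :=
    ((QuotientGroup.mk' V).comp (commutator G).subtype).codRestrict _ hmem
  apply Subgroup.isNilpotent_of_ker_le_center f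
  intro k hk
  rw [Subgroup.mem_center_iff]
  intro k'
  have h1 : ((k : G) : G ⧸ V) = 1 := by
    have := congrArg Subtype.val (MonoidHom.mem_ker.mp hk)
    exact this
  have h2 : (k : G) ∈ V := (QuotientGroup.eq_one_iff _).mp h1
  have h3 : (k' : G) ∈ centralizer (V : Set G) := hKC k'.2
  apply Subtype.ext
  show (k' : G) * k = k * k'
  exact ((mem_centralizer_iff.mp h3) k h2).symm

end Cfsg.Agent.Helper52
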