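import Mathlib
import Cfsg.Agent.Lib.Helper31.SGFin2
import Cfsg.Agent.Lib.Helper52.SGCritPlus

/-!
# (BLK+) for S3795 (Gross, p = 2): in the block lemma `blk_abs` / `blk_G` of helper31 every root of
unity different from `1` is an eigenvalue of `y` on the block.
-/

set_option autoImplicit false

namespace Cfsg.Agent.Helper52.SG2

open Module Subgroup
open Cfsg.Agent.Helper31.HH
open Cfsg.Agent.Helper31.SG

variable {K : Type*} [Field K]

/-- (BLK+) under the hypotheses of `blk_abs`, every `p ^ (n'+1)`-th root of unity `c ≠ 1` is an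
eigenvalue of `ψ y`. -/
theorem blk_abs_plus [IsAlgClosed K] {M : Type*} [AddCommGroup M] [Module K M] [FiniteDimensional K M]
    {Γ : Type*} [Group Γ] (ψ : Representation K Γ M) (Qs : Subgroup Γ) [Finite Qs] (y : Γ)
    {p q n' : ℕ} [hp : Fact p.Prime] [hq : Fact q.Prime] (hpq : p ≠ q)
    (hQ : IsPGroup q Qs) (hqK : (q : K) ≠ 0) (hpK : (p : K) ≠ 0)
    (hy : orderOf y = p ^ (n' + 1)) (hyQ : ∀ u ∈ Qs, y * u * y⁻¹ ∈ Qs)
    (hirr : ∀ N : Submodule K M, (∀ u ∈ Qs, ∀ v ∈ N, ψ u v ∈ N) → N = ⊥ ∨ N = ⊤)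
    (hcen : ∀ g ∈ Qs, g * y ^ p ^ n' = y ^ p ^ n' * g → ∀ h ∈ Qs, g * h = h * g)
    (hcomm : ∀ a ∈ Qs, ∀ b ∈ Qs,
      (a * b * a⁻¹ * b⁻¹) * y ^ p ^ n' = y ^ p ^ n' * (a * b * a⁻¹ * b⁻¹))
    (hfix : ∀ m : M, ψ y m = m → m = 0) (hd : 1 < finrank K M) :
    ∀ c : K, c ^ p ^ (n' + 1) = 1 → c ≠ 1 → ∃ m : M, m ≠ 0 ∧ ψ y m = c • m := by
  have : Nontrivial M := Module.nontrivial_of_finrank_pos (R := K) (by omega)
  set y₀ := y ^ p ^ n' with hy₀
  -- Schur
  have hschur : ∀ g ∈ Qs, (∀ h ∈ Qs, g * h = h * g) → ∃ l : K, ψ g = l • 1 := by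
    intro g hg hgc
    set σ : Representation K Qs M := ψ.comp Qs.subtype with hσ
    have hirrσ : Irr σ := by
      intro W hW
      apply hirr W
      intro u hu v hv
      exact hW ⟨u, hu⟩ ⟨v, hv, rfl⟩
    apply hirrσ.schur (ψ g)
    intro h
    show ψ g * ψ (h : Γ) = ψ (h : Γ) * ψ g
    rw [← map_mul, ← map_mul, hgc h h.2]
  have hcardK : (Nat.card Qs : K) ≠ 0 := by
    obtain ⟨k, hk⟩ := IsPGroup.iff_card.mp hQ
    rw [hk, Nat.cast_pow]
    exact pow_ne_zero _ hqK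
  have hyP : y ^ p ^ (n' + 1) = 1 := by rw [← hy, pow_orderOf_eq_one]
  have hy₀p : y₀ ^ p ^ 1 = 1 := by rw [hy₀, pow_one, ← pow_mul, ← pow_succ, hyP]
  set R : Subgroup Γ := Qs ⊓ scalarSubgroup ψ with hR
  haveI : Finite ↥R :=
    Finite.of_injective (Subgroup.inclusion (inf_le_left : R ≤ Qs)) (Subgroup.inclusion_injective _)
  have hpR : ¬ p ∣ Nat.card ↥R := by
    have hRq : IsPGroup q R := hQ.to_le inf_le_left
    obtain ⟨k, hk⟩ := IsPGroup.iff_card.mp hRq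
    rw [hk]
    intro hdvd
    have := (Nat.prime_dvd_prime_iff_eq hp.out hq.out).mp (hp.out.dvd_of_dvd_pow hdvd)
    exact hpq this
  have hRpow : ∀ k : ℕ, ∀ z ∈ R, y ^ k * z * (y ^ k)⁻¹ ∈ R := by
    intro k z hz
    exact ⟨pow_conj_mem Qs y hyQ k z hz.1, (scalarSubgroup_normal ψ).conj_mem z hz.2 _⟩
  have hcs : ∀ u ∈ Qs, ∀ w ∈ Qs, ∃ l : K, ψ (u * w * u⁻¹ * w⁻¹) = l • 1 := by
    intro u hu w hw
    have hc : u * w * u⁻¹ * w⁻¹ ∈ Qs :=
      Qs.mul_mem (Qs.mul_mem (Qs.mul_mem hu hw) (Qs.inv_mem hu)) (Qs.inv_mem hw)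
    exact hschur _ hc (hcen _ hc (hcomm u hu w hw))
  set σ' : Representation K Qs M := ψ.comp Qs.subtype with hσ'
  have hirrσ' : Irr σ' := by
    intro W hW
    apply hirr W
    intro u hu v hv
    exact hW ⟨u, hu⟩ ⟨v, hv, rfl⟩
  have hnonab : ∃ a ∈ Qs, ∃ b ∈ Qs, ∃ c : K, c ≠ 1 ∧ ψ (a * b * a⁻¹ * b⁻¹) = c • 1 := by
    by_contra hcon
    push Not at hcon
    have hall : ∀ a ∈ Qs, ∀ b ∈ Qs, ψ a * ψ b = ψ b * ψ a := by
      intro a ha b hb
      obtain ⟨l, hl⟩ := hcs a ha b hb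
      have hl1 : l = 1 := by
        by_contra hne
        exact hcon a ha b hb l hne hl
      rw [hl1, one_smul] at hl
      have h1 : a * b = (a * b * a⁻¹ * b⁻¹) * (b * a) := by group
      rw [← map_mul, h1, map_mul, hl, one_mul, map_mul]
    have hsc : ∀ g : Qs, ∃ μ : K, σ' g = μ • 1 := by
      intro g
      apply hirrσ'.schur (σ' g)
      intro h
      exact hall g g.2 h h.2
    have := finrank_eq_one_of_scalar hirrσ' hsc
    omega
  refine sg_crit_plus ψ Qs y hp.out hcardK hpK hyP hyQ hirr hcs ?_ hfix hd R inf_le_left ?_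
  · -- semiregularity
    intro k hk0 hkP u hu hsc
    set t := y ^ k with ht
    have ht1 : t ≠ 1 := by
      intro h1
      have h2 := orderOf_dvd_of_pow_eq_one h1
      rw [hy] at h2
      have := Nat.le_of_dvd hk0 h2
      omega
    have htz : t ∈ zpowers y := Subgroup.pow_mem _ (mem_zpowers y) k
    have hy₀t : y₀ ∈ zpowers t := pow_mem_zpowers_of_ne_one hy htz ht1
    have hfin : IsOfFinOrder t := by
      apply IsOfFinOrder.pow
      rw [← orderOf_pos_iff, hy]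
      exact pow_pos hp.out.pos _
    rw [← hfin.mem_powers_iff_mem_zpowers, Submonoid.mem_powers_iff] at hy₀t
    obtain ⟨m, hm⟩ := hy₀t
    have hcR : t * u * t⁻¹ * u⁻¹ ∈ R := by
      refine ⟨?_, hsc⟩
      exact Qs.mul_mem (pow_conj_mem Qs y hyQ k u hu) (Qs.inv_mem hu)
    have h1 : u⁻¹ * (t * u * t⁻¹) ∈ R := by
      have h2 : u⁻¹ * (t * u * t⁻¹ * u⁻¹) * u⁻¹⁻¹ ∈ R :=
        ⟨Qs.mul_mem (Qs.mul_mem (Qs.inv_mem hu) hcR.1) (Qs.inv_mem (Qs.inv_mem hu)),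
          (scalarSubgroup_normal ψ).conj_mem _ hcR.2 _⟩
      convert h2 using 1
      group
    have h3 := iter_coset R t u (hRpow k) h1 m
    rw [hm] at h3
    obtain ⟨r, hr, hfixed⟩ := Cfsg.Agent.Helper31.SGP.sg_coset_fixed hp.out R hpR y₀ u hy₀p (hRpow _) h3
    have hurQ : u * r ∈ Qs := Qs.mul_mem hu hr.1
    have hcomm' : u * r * y₀ = y₀ * (u * r) := by
      have := congrArg (fun z => z * y₀) hfixed
      simp only [inv_mul_cancel_right] at this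
      exact this.symm
    obtain ⟨l, hl⟩ := hschur _ hurQ (hcen _ hurQ hcomm')
    have hurS : u * r ∈ scalarSubgroup ψ := ⟨l, hl⟩
    have huS : u ∈ scalarSubgroup ψ := by
      have := (scalarSubgroup ψ).mul_mem hurS ((scalarSubgroup ψ).inv_mem hr.2)
      simpa using this
    exact huS
  · intro u hu
    constructor
    · intro h
      exact h.2
    · intro h
      exact ⟨hu, h⟩

/-- (BLK+) at the level of the ambient group: under the hypotheses of `blk_G`, every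
`p ^ (m+1)`-th root of unity `c ≠ 1` is an eigenvalue of `ρ y` on the block `U`. -/
theorem blk_G_plus [IsAlgClosed K] {V : Type*} [AddCommGroup V] [Module K V] [FiniteDimensional K V]
    {G : Type*} [Group G] [Finite G] (ρ : Representation K G V) (Q : Subgroup G) [hQn : Q.Normal]
    {p q : ℕ} [hp : Fact p.Prime] [hq : Fact q.Prime] (hpq : p ≠ q) (hQ : IsPGroup q Q)
    (hqK : (q : K) ≠ 0) (hpK : (p : K) ≠ 0) (y : G) (m : ℕ) (hy : orderOf y = p ^ (m + 1))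
    (U : Submodule K V) (hUQ : ∀ g ∈ Q, ∀ u ∈ U, ρ g u ∈ U) (hUy : ∀ u ∈ U, ρ y u ∈ U)
    (hUirr : ∀ U' : Submodule K V, U' ≤ U → (∀ g ∈ Q, ∀ u ∈ U', ρ g u ∈ U') → U' = ⊥ ∨ U' = U)
    (hcen : ∀ g ∈ Q, g * y ^ p ^ m = y ^ p ^ m * g → ∀ h ∈ Q, g * h = h * g)
    (hcomm : ∀ a ∈ Q, ∀ b ∈ Q,
      (a * b * a⁻¹ * b⁻¹) * y ^ p ^ m = y ^ p ^ m * (a * b * a⁻¹ * b⁻¹))
    (hfix : ∀ u ∈ U, ρ y u = u → u = 0) (hd : 1 < finrank K U) :
    ∀ c : K, c ^ p ^ (m + 1) = 1 → c ≠ 1 → ∃ u ∈ U, u ≠ 0 ∧ ρ y u = c • u := by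
  have : Nontrivial U := Module.nontrivial_of_finrank_pos (R := K) (by omega)
  set Γ : Subgroup G := stab ρ U with hΓ
  have hQΓ : Q ≤ Γ := fun g hg => (mem_stab ρ U).mpr (hUQ g hg)
  have hyΓ : y ∈ Γ := (mem_stab ρ U).mpr hUy
  set φ : Representation K Γ V := ρ.comp Γ.subtype with hφ
  have hInv : Inv φ U := inv_comp_stab ρ U
  set ψ : Representation K Γ U := subRep φ U hInv with hψ
  set Qs : Subgroup Γ := Q.subgroupOf Γ with hQs
  set y' : Γ := ⟨y, hyΓ⟩ with hy'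
  have hψapp : ∀ (a : Γ) (u : U), ((ψ a u : U) : V) = ρ (a : G) (u : V) := fun a u => rfl
  have hQsp : IsPGroup q Qs := hQ.comap_subtype
  have hy'ord : orderOf y' = p ^ (m + 1) := by
    rw [← hy]
    exact (Subgroup.orderOf_coe y').symm
  have hy'Q : ∀ u ∈ Qs, y' * u * y'⁻¹ ∈ Qs := by
    intro u hu
    rw [hQs, mem_subgroupOf] at hu ⊢
    have := hQn.conj_mem _ hu y
    simpa [hy'] using this
  have hirr' : ∀ N : Submodule K U, (∀ u ∈ Qs, ∀ v ∈ N, ψ u v ∈ N) → N = ⊥ ∨ N = ⊤ := by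
    intro N hN
    have h1 : N.map U.subtype ≤ U := by
      rintro _ ⟨v, _, rfl⟩
      exact v.2
    have h2 : ∀ g ∈ Q, ∀ u ∈ N.map U.subtype, ρ g u ∈ N.map U.subtype := by
      rintro g hg _ ⟨v, hv, rfl⟩
      exact ⟨ψ ⟨g, hQΓ hg⟩ v, hN ⟨g, hQΓ hg⟩ (mem_subgroupOf.mpr hg) v hv, rfl⟩
    rcases hUirr _ h1 h2 with h | h
    · left
      apply Submodule.map_injective_of_injective U.injective_subtype
      rw [h, Submodule.map_bot]
    · right
      apply Submodule.map_injective_of_injective U.injective_subtype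
      rw [h, Submodule.map_subtype_top]
  have hpowcoe : ((y' ^ p ^ m : Γ) : G) = y ^ p ^ m := by
    rw [Subgroup.coe_pow]
  have hcen' : ∀ g ∈ Qs, g * y' ^ p ^ m = y' ^ p ^ m * g → ∀ h ∈ Qs, g * h = h * g := by
    intro g hg hgy h hh
    apply Subtype.ext
    rw [Subgroup.coe_mul, Subgroup.coe_mul]
    apply hcen g (mem_subgroupOf.mp hg) _ h (mem_subgroupOf.mp hh)
    have := congrArg (fun z : Γ => (z : G)) hgy
    simpa only [Subgroup.coe_mul, hpowcoe] using this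
  have hcomm' : ∀ a ∈ Qs, ∀ b ∈ Qs,
      (a * b * a⁻¹ * b⁻¹) * y' ^ p ^ m = y' ^ p ^ m * (a * b * a⁻¹ * b⁻¹) := by
    intro a ha b hb
    apply Subtype.ext
    have := hcomm a (mem_subgroupOf.mp ha) b (mem_subgroupOf.mp hb)
    simpa only [Subgroup.coe_mul, Subgroup.coe_inv, hpowcoe] using this
  have hfix' : ∀ u : U, ψ y' u = u → u = 0 := by
    intro u hu
    apply Subtype.ext
    apply hfix u u.2
    have := congrArg (fun z : U => (z : V)) hu
    simpa [hψapp] using this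
  intro c hcP hc1
  obtain ⟨u, hu0, hu⟩ :=
    blk_abs_plus ψ Qs y' hpq hQsp hqK hpK hy'ord hy'Q hirr' hcen' hcomm' hfix' hd c hcP hc1
  refine ⟨(u : V), u.2, ?_, ?_⟩
  · intro h
    apply hu0
    exact Subtype.ext h
  · have := congrArg (fun z : U => (z : V)) hu
    simpa [hψapp] using this

end Cfsg.Agent.Helper52.SG2
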