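import Mathlib
import Cfsg.Agent.Lib.Helper52.SGBlkPlus

/-!
# (CRIT2) and (BLK2) of helper31's G2 server (S3795, Gross `p = 2`): eigenvalue versions of
`Helper57.SG.sg_crit` and `Helper31.SG.blk_G`, names and statements verbatim from
`tools/g2_sigs_helper31.lean.txt` (proofs: `Helper52.SG2.sg_crit_plus`, `Helper52.SG2.blk_G_plus`).
-/

set_option autoImplicit false

namespace Cfsg.Agent.Helper52.G2

open Module Subgroup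

/-- (CRIT2) eigenvalue version of `Helper57.SG.sg_crit`. -/
theorem g2_crit {K : Type*} [Field K] [IsAlgClosed K] {M : Type*} [AddCommGroup M] [Module K M]
    [FiniteDimensional K M] {Γ : Type*} [Group Γ] (ψ : Γ →* Module.End K M) (Qs : Subgroup Γ)
    [Finite Qs] (y : Γ) {p n' : ℕ} (hp : p.Prime) (hQK : (Nat.card Qs : K) ≠ 0)
    (hpK : (p : K) ≠ 0) (hy : y ^ p ^ n' = 1) (hyQ : ∀ u ∈ Qs, y * u * y⁻¹ ∈ Qs)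
    (hirr : ∀ N : Submodule K M, (∀ u ∈ Qs, ∀ v ∈ N, ψ u v ∈ N) → N = ⊥ ∨ N = ⊤)
    (hcs : ∀ u ∈ Qs, ∀ w ∈ Qs, ∃ l : K, ψ (u * w * u⁻¹ * w⁻¹) = l • 1)
    (hsemi : ∀ k, 0 < k → k < p ^ n' → ∀ u ∈ Qs,
      (∃ l : K, ψ (y ^ k * u * (y ^ k)⁻¹ * u⁻¹) = l • 1) → ∃ l : K, ψ u = l • 1)
    (hfix : ∀ m : M, ψ y m = m → m = 0) (hd : 1 < finrank K M)
    (S : Subgroup Γ) (hSQ : S ≤ Qs) (hS : ∀ u ∈ Qs, u ∈ S ↔ ∃ l : K, ψ u = l • 1) :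
    ∀ ζ : K, ζ ^ p ^ n' = 1 → ζ ≠ 1 → ∃ m : M, m ≠ 0 ∧ ψ y m = ζ • m :=
  Cfsg.Agent.Helper52.SG2.sg_crit_plus ψ Qs y hp hQK hpK hy hyQ hirr hcs hsemi hfix hd S hSQ hS

/-- (BLK2) eigenvalue version of `Helper31.SG.blk_G`. -/
theorem g2_blk_G {K : Type*} [Field K] [IsAlgClosed K] {V : Type*} [AddCommGroup V] [Module K V]
    [FiniteDimensional K V]
    {G : Type*} [Group G] [Finite G] (ρ : Representation K G V) (Q : Subgroup G) [hQn : Q.Normal]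
    {p q : ℕ} [hp : Fact p.Prime] [hq : Fact q.Prime] (hpq : p ≠ q) (hQ : IsPGroup q Q)
    (hqK : (q : K) ≠ 0) (hpK : (p : K) ≠ 0) (y : G) (m : ℕ) (hy : orderOf y = p ^ (m + 1))
    (U : Submodule K V) (hUQ : ∀ g ∈ Q, ∀ u ∈ U, ρ g u ∈ U) (hUy : ∀ u ∈ U, ρ y u ∈ U)
    (hUirr : ∀ U' : Submodule K V, U' ≤ U → (∀ g ∈ Q, ∀ u ∈ U', ρ g u ∈ U') → U' = ⊥ ∨ U' = U)
    (hcen : ∀ g ∈ Q, g * y ^ p ^ m = y ^ p ^ m * g → ∀ h ∈ Q, g * h = h * g)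
    (hcomm : ∀ a ∈ Q, ∀ b ∈ Q,
      (a * b * a⁻¹ * b⁻¹) * y ^ p ^ m = y ^ p ^ m * (a * b * a⁻¹ * b⁻¹))
    (hfix : ∀ u ∈ U, ρ y u = u → u = 0) (hd : 1 < finrank K U) :
    ∀ ζ : K, ζ ^ p ^ (m + 1) = 1 → ζ ≠ 1 → ∃ u ∈ U, u ≠ 0 ∧ ρ y u = ζ • u :=
  Cfsg.Agent.Helper52.SG2.blk_G_plus ρ Q hpq hQ hqK hpK y m hy U hUQ hUy hUirr hcen hcomm hfix hd

end Cfsg.Agent.Helper52.G2
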