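-- helper52: anisotropic quadratic maps between groups of exponent 2 (definitions for S3117, Konvisser).
import Mathlib

set_option autoImplicit false

namespace Cfsg.Agent.Helper52.Konv

variable {W T : Type*} [Group W] [Group T]

/-- The polar form of a map `q` between groups of exponent 2. -/
def pol (q : W → T) (u v : W) : T := q (u * v) * q u * q v

/-- An anisotropic quadratic map between groups of exponent 2 (written multiplicatively). -/
structure AQ (q : W → T) : Prop where
  W_sq : ∀ w : W, w * w = 1
  T_sq : ∀ t : T, t * t = 1
  bilin : ∀ u v w : W, pol q u (v * w) = pol q u v * pol q u w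
  aniso : ∀ w : W, q w = 1 → w = 1

end Cfsg.Agent.Helper52.Konv
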