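import Mathlib
import Cfsg.Agent.S0012
import Cfsg.Agent.Lib.Helper52.Coprime

set_option autoImplicit false

namespace Cfsg.Agent.Helper52

open Subgroup
open scoped commutatorElement

universe u

variable {G : Type u} [Group G]

/-- **Burnside**: a `p'`-subgroup `B` normalizing the `p`-subgroup `T` with `[T,B] ≤ [T,T]`
(so acting trivially on the Frattini quotient) centralizes `T`. -/
theorem le_centralizer_of_commutator_le_commutator [Finite G] {p : ℕ} [hp : Fact p.Prime]
    (T B : Subgroup G) (hT : IsPGroup p T) (hB : ¬ p ∣ Nat.card B)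
    (hBT : B ≤ normalizer (T : Set G)) (hcomm : ⁅T, B⁆ ≤ ⁅T, T⁆) :
    T ≤ centralizer (B : Set G) := by
  have hcop : (Nat.card B).Coprime (Nat.card T) := by
    obtain ⟨n, hn⟩ := IsPGroup.iff_card.mp hT
    rw [hn]
    exact Nat.Coprime.pow_right n ((Nat.Prime.coprime_iff_not_dvd hp.out).mpr hB).symm
  have hsolv : Group.IsSolvable B ∨ Group.IsSolvable T := by
    right
    have : Group.IsNilpotent T := hT.isNilpotent
    infer_instance
  have h1 := eq_commutator_sup_centralizer T B hBT hcop hsolv
  set C := T ⊓ centralizer (B : Set G) with hC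
  have h2 : T ≤ ⁅T, T⁆ ⊔ C := by
    conv_lhs => rw [h1]
    exact sup_le_sup_right hcomm _
  have hTT : ⁅T, T⁆ ≤ T :=
    Cfsg.Agent.Helper24.commutator_le_of_le_normalizer T T le_normalizer
  have hCT : C ≤ T := inf_le_left
  have h3 : (⁅T, T⁆ ⊔ C).subgroupOf T = ⊤ := subgroupOf_eq_top.mpr h2
  rw [subgroupOf_sup hTT hCT] at h3
  have h4 : ⁅T, T⁆.subgroupOf T = commutator T := by
    rw [← map_subtype_commutator, subgroupOf, comap_map_eq_self_of_injective T.subtype_injective]
  rw [h4] at h3
  have h5 : commutator T ≤ frattini T := (Cfsg.Agent.S0012.result p hT).1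
  have h6 : C.subgroupOf T ⊔ frattini T = ⊤ := by
    rw [eq_top_iff, ← h3, sup_comm]
    exact sup_le_sup_left h5 _
  have h7 : C.subgroupOf T = ⊤ := frattini_nongenerating h6
  have h8 : T ≤ C := subgroupOf_eq_top.mp h7
  exact h8.trans inf_le_right

end Cfsg.Agent.Helper52
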