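import Mathlib
import Cfsg.Agent.Lib.Helper54.CHMDefs

/-!
# helper54's CHM server (S4756): piece (GT2) `fpf_of_conjK`

`p'`-elements act fixed-point-freely on `G'` (when `G'` is a `p`-group and (K) holds).
-/

set_option autoImplicit false

namespace Cfsg.Agent.Helper52.CHM

open Cfsg Cfsg.Agent.Helper54.CHM
open scoped ComplexConjugate commutatorElement

variable {G : Type*} [Group G] [Finite G]

/-- (GT2) `p'`-elements act fixed-point-freely on `G'`. -/
theorem fpf_of_conjK (hK : ConjK G) {p : ℕ} (hp : p.Prime) (hN : IsPGroup p (commutator G))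
    (a : G) (ha : a ≠ 1) (hcop : (orderOf a).Coprime p) (d : G) (hd : d ∈ commutator G)
    (hcomm : a * d = d * a) : d = 1 := by
  by_contra hd1
  -- `orderOf d = p ^ j`, `j ≠ 0`
  obtain ⟨k, hk⟩ := hN ⟨d, hd⟩
  have hk' : d ^ p ^ k = 1 := by
    have := congrArg Subtype.val hk
    simpa using this
  obtain ⟨j, -, hj⟩ := (Nat.dvd_prime_pow hp).1 (orderOf_dvd_of_pow_eq_one hk')
  have hj0 : j ≠ 0 := by
    rintro rfl
    rw [pow_zero, orderOf_eq_one_iff] at hj
    exact hd1 hj
  -- a prime-order power `a₀` of `a`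
  have hoa : orderOf a ≠ 1 := by
    rw [Ne, orderOf_eq_one_iff]; exact ha
  have hoa0 : orderOf a ≠ 0 := (orderOf_pos a).ne'
  have hr : (orderOf a).minFac.Prime := Nat.minFac_prime hoa
  have hrd : (orderOf a).minFac ∣ orderOf a := Nat.minFac_dvd _
  have ho0 : orderOf (a ^ (orderOf a / (orderOf a).minFac)) = (orderOf a).minFac :=
    orderOf_pow_orderOf_div hoa0 hrd
  have hrp : (orderOf a).minFac ≠ p := by
    intro h
    have h1 : p ∣ Nat.gcd (orderOf a) p := Nat.dvd_gcd (h ▸ hrd) dvd_rfl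
    rw [hcop] at h1
    exact hp.one_lt.ne' (Nat.dvd_one.1 h1)
  have ha01 : a ^ (orderOf a / (orderOf a).minFac) ≠ 1 := by
    intro h
    rw [h, orderOf_one] at ho0
    exact hr.one_lt.ne' ho0.symm
  have hpp : PPair (a ^ (orderOf a / (orderOf a).minFac)) d :=
    ⟨ha01, hd1, (orderOf a).minFac, p, 1, j, hr, hp, hrp, by rw [pow_one]; exact ho0, hj⟩
  have hconj := hK _ _ hpp d⁻¹ (Subgroup.inv_mem _ hd)
  rw [mul_inv_cancel_right] at hconj
  -- conjugate elements have the same order
  have hord : orderOf (a ^ (orderOf a / (orderOf a).minFac) * d)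
      = orderOf (a ^ (orderOf a / (orderOf a).minFac)) := by
    obtain ⟨g, hg⟩ := isConj_iff.1 hconj
    have h2 : orderOf (g * (a ^ (orderOf a / (orderOf a).minFac) * d) * g⁻¹)
        = orderOf (a ^ (orderOf a / (orderOf a).minFac) * d) :=
      (MulAut.conj g).orderOf_eq (a ^ (orderOf a / (orderOf a).minFac) * d)
    rw [hg] at h2
    exact h2.symm
  have hc : Commute (a ^ (orderOf a / (orderOf a).minFac)) d := Commute.pow_left hcomm _
  have hcop2 : (orderOf (a ^ (orderOf a / (orderOf a).minFac))).Coprime (orderOf d) := by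
    rw [ho0, hj]
    apply Nat.Coprime.pow_right
    exact (Nat.coprime_primes hr hp).2 hrp
  rw [hc.orderOf_mul_eq_mul_orderOf_of_coprime hcop2, ho0, hj] at hord
  have h1 : p ^ j = 1 := by
    have hpos : 0 < (orderOf a).minFac := hr.pos
    exact Nat.eq_of_mul_eq_mul_left hpos (by rw [hord, mul_one])
  have : p ^ j ≠ 1 := by
    have := Nat.one_lt_pow hj0 hp.one_lt
    exact this.ne'
  exact this h1

end Cfsg.Agent.Helper52.CHM
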