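import Mathlib
import Cfsg.Agent.Lib.Helper54.CHMDefs
import Cfsg.Agent.Lib.Helper24.NonCyclic
import Cfsg.Agent.Lib.Helper52.Hyperplane

/-!
# helper54's CHM server (S4756): piece (GT3) `cyclic_of_fpf`

An abelian `p'`-group acting fixed-point-freely on a nontrivial normal `p`-subgroup is cyclic.
-/

set_option autoImplicit false

namespace Cfsg.Agent.Helper52.CHM

open Cfsg Cfsg.Agent.Helper54.CHM
open scoped ComplexConjugate commutatorElement

variable {G : Type*} [Group G] [Finite G]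

/-- (GT3) An abelian `p'`-group acting fixed-point-freely on a nontrivial normal `p`-subgroup is cyclic. -/
theorem cyclic_of_fpf {p : ℕ} (hp : p.Prime) (N A : Subgroup G) [N.Normal] (hN : IsPGroup p N)
    (hN1 : N ≠ ⊥) (hAc : ∀ a ∈ A, ∀ b ∈ A, a * b = b * a) (hcop : (Nat.card A).Coprime p)
    (hfpf : ∀ a ∈ A, a ≠ 1 → ∀ d ∈ N, a * d = d * a → d = 1) : IsCyclic A := by
  by_contra hcyc
  have hAcomm : IsMulCommutative A := ⟨⟨fun a b => Subtype.ext (hAc a a.2 b b.2)⟩⟩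
  obtain ⟨r, B, hr, hBA, hBr, hBcard⟩ :=
    Cfsg.Agent.Helper24.exists_elementary_abelian_le_of_not_isCyclic A hcyc
  have hrF : Fact r.Prime := ⟨hr⟩
  have hpF : Fact p.Prime := ⟨hp⟩
  -- `B` is an `r`-group of order `≥ r ^ 2`, so `r ∣ |B| ∣ |A|`
  have hBp : IsPGroup r B := by
    intro b
    refine ⟨1, ?_⟩
    rw [pow_one]
    exact Subtype.ext (by simpa using hBr b b.2)
  obtain ⟨k, hk⟩ := IsPGroup.iff_card.1 hBp
  have hk0 : k ≠ 0 := by
    rintro rfl
    rw [pow_zero] at hk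
    rw [hk] at hBcard
    have : 2 ≤ r := hr.two_le
    nlinarith
  have hrB : r ∣ Nat.card B := by
    rw [hk]; exact dvd_pow_self r hk0
  have hrA : r ∣ Nat.card A := hrB.trans (Subgroup.card_dvd_of_le hBA)
  have hrp : r ≠ p := by
    rintro rfl
    have h1 : r ∣ Nat.gcd (Nat.card A) r := Nat.dvd_gcd hrA dvd_rfl
    rw [hcop] at h1
    exact hr.one_lt.ne' (Nat.dvd_one.1 h1)
  -- `|N|` is prime to `r`
  have hNcop : (Nat.card N).Coprime r := by
    obtain ⟨n, hn⟩ := IsPGroup.iff_card.1 hN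
    rw [hn]
    apply Nat.Coprime.pow_left
    exact (Nat.coprime_primes hp hr).2 hrp.symm
  have hBN : B ≤ Subgroup.normalizer (N : Set G) := by
    rw [Subgroup.normalizer_eq_top]; exact le_top
  have hNbot : ¬ N ≤ ⊥ := fun h => hN1 (le_bot_iff.1 h)
  obtain ⟨B₀, hB₀B, hidx, hcent⟩ :=
    Cfsg.Agent.Helper52.exists_hyperplane_centralizer_not_le (p := r) B N ⊥
      (fun x hx y hy => hAc x (hBA hx) y (hBA hy)) hBr hBN hNcop hNbot
  -- `|B₀| ≥ r`
  have hmul : Nat.card B₀ * B₀.relIndex B = Nat.card B := by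
    have := Subgroup.relIndex_mul_relIndex (H := (⊥ : Subgroup G)) (K := B₀) (L := B) bot_le hB₀B
    rwa [Subgroup.relIndex_bot_left, Subgroup.relIndex_bot_left] at this
  have hB₀card : 1 < Nat.card B₀ := by
    by_contra hlt
    have hle : Nat.card B₀ ≤ 1 := Nat.le_of_not_lt hlt
    have h2 : Nat.card B ≤ 1 * r := by
      rw [← hmul]
      exact Nat.mul_le_mul hle hidx
    have : 2 ≤ r := hr.two_le
    nlinarith
  -- a nontrivial element of `B₀`
  have hB₀ne : B₀ ≠ ⊥ := by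
    rintro rfl
    rw [Subgroup.card_bot] at hB₀card
    exact lt_irrefl _ hB₀card
  obtain ⟨b, hb⟩ := (Subgroup.ne_bot_iff_exists_ne_one).1 hB₀ne
  have hbB₀ : (b : G) ∈ B₀ := b.2
  have hb1 : (b : G) ≠ 1 := fun h => hb (Subtype.ext h)
  -- a nontrivial element of `C_N(B₀)`
  apply hcent
  intro d hd
  rw [Subgroup.mem_bot]
  obtain ⟨hdN, hdC⟩ := Subgroup.mem_inf.1 hd
  have hcomm : (b : G) * d = d * (b : G) := (Subgroup.mem_centralizer_iff.1 hdC) (b : G) hbB₀
  exact hfpf (b : G) (hBA (hB₀B hbB₀)) hb1 d hdN hcomm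

end Cfsg.Agent.Helper52.CHM
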