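import Mathlib
import Cfsg.Agent.Lib.Helper52.FCDefs
import Cfsg.Agent.Lib.Helper63.FCB
import Cfsg.Agent.Lib.Helper63.FCB3
import Cfsg.Agent.Lib.Helper63.FCM1
import Cfsg.Agent.Lib.Helper3.FCM2
import Cfsg.Agent.Lib.Helper25.FCM3
import Cfsg.Agent.Lib.Helper3.FCM4
import Cfsg.Agent.Lib.Helper3.FCM5
import Cfsg.Agent.Lib.Helper97.FCS1
import Cfsg.Agent.Lib.Helper63.FCS2
import Cfsg.Agent.Lib.Helper44.FCD2
import Cfsg.Agent.Lib.Helper34.FCD1
import Cfsg.Agent.Lib.Helper34.FCD3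
import Cfsg.Agent.Lib.Helper8.FCCB1
import Cfsg.Agent.Lib.Helper8.FCCB2
import Cfsg.Agent.Lib.Helper8.FCCB3
import Cfsg.Agent.Lib.Helper8.FCCB4a
import Cfsg.Agent.Lib.Helper21.FCR1a
import Cfsg.Agent.Lib.Helper46.FCR1b
import Cfsg.Agent.Lib.Helper85.FCR1c
import Cfsg.Agent.Lib.Helper96.FCR1d
import Cfsg.Agent.Lib.Helper8.FCA0
import Cfsg.Agent.Lib.Helper78.FCA1
import Cfsg.Agent.Lib.Helper3.FCA2
import Cfsg.Agent.Lib.Helper46.FCA3
import Cfsg.Agent.Lib.Helper90.FCA4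
import Cfsg.Agent.Lib.Helper90.FCA5
import Cfsg.Agent.Lib.Helper34.FCA6
import Cfsg.Agent.Lib.Helper19.FCA7a
import Cfsg.Agent.Lib.Helper78.FCA7b
import Cfsg.Agent.Lib.Helper29.FCR2ID
import Cfsg.Agent.Lib.Helper78.FCALG
import Cfsg.Agent.Lib.Helper61.FCR2FIN
import Cfsg.Agent.Lib.Helper30.FCA8
import Cfsg.Agent.Lib.Helper47.FCTR

/-! # S3816 (FC server): the pieces used by the assembly, re-exported under one namespace -/

namespace Cfsg.Agent.Helper52.FC.P

alias Lh_le := Cfsg.Agent.Helper63.FC.Lh_le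
alias Lh_inv := Cfsg.Agent.Helper63.FC.Lh_inv
alias comm_eq_commutator := Cfsg.Agent.Helper63.FC.comm_eq_commutator
alias Lh_comm := Cfsg.Agent.Helper63.FC.Lh_comm
alias star_mono := Cfsg.Agent.Helper63.FC.star_mono
alias star_le := Cfsg.Agent.Helper63.FC.star_le
alias star_conj := Cfsg.Agent.Helper63.FC.star_conj
alias mc_comm_eq := Cfsg.Agent.Helper63.FC.mc_comm_eq
alias mc_proper := Cfsg.Agent.Helper3.FC.mc_proper
alias mc_quot := Cfsg.Agent.Helper25.FC.mc_quot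
alias mc_not_le := Cfsg.Agent.Helper3.FC.mc_not_le
alias mc_no_gen := Cfsg.Agent.Helper3.FC.mc_no_gen
alias ab_sum := Cfsg.Agent.Helper97.FC.ab_sum
alias sum_term := Cfsg.Agent.Helper63.FC.sum_term
alias L2_sgroup := Cfsg.Agent.Helper44.FC.L2_sgroup
alias dich_all := Cfsg.Agent.Helper34.FC.dich_all
alias dich_split := Cfsg.Agent.Helper34.FC.dich_split
alias minnormal_abelian := Cfsg.Agent.Helper8.FC.minnormal_abelian
alias hypN_min := Cfsg.Agent.Helper8.FC.hypN_min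
alias caseB_I := Cfsg.Agent.Helper8.FC.caseB_I
alias caseB_cent := Cfsg.Agent.Helper8.FC.caseB_cent
alias caseB_same_prime := Cfsg.Agent.Helper8.FC.caseB_same_prime
alias card_le_sq := Cfsg.Agent.Helper21.FC.card_le_sq
alias exists_central_mod := Cfsg.Agent.Helper46.FC.exists_central_mod
alias scalar_case := Cfsg.Agent.Helper85.FC.scalar_case
alias frob_case := Cfsg.Agent.Helper96.FC.frob_case
alias exists_minnormal := Cfsg.Agent.Helper8.FC.exists_minnormal
alias le_ZZ_of_fix := Cfsg.Agent.Helper78.FC.le_ZZ_of_fix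
alias ZZ_inf_star := Cfsg.Agent.Helper3.FC.ZZ_inf_star
alias exists_chief := Cfsg.Agent.Helper46.FC.exists_chief
alias chief_abelian := Cfsg.Agent.Helper90.FC.chief_abelian
alias hypN_chief := Cfsg.Agent.Helper90.FC.hypN_chief
alias caseA_I := Cfsg.Agent.Helper34.FC.caseA_I
alias N_sgroup := Cfsg.Agent.Helper19.FC.N_sgroup
alias comm_le_ZZ := Cfsg.Agent.Helper78.FC.comm_le_ZZ
alias r2_identity := Cfsg.Agent.Helper29.FC.r2_identity
alias alg_biadd := Cfsg.Agent.Helper78.FC.alg_biadd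
alias r2_final := Cfsg.Agent.Helper61.FC.r2_final
alias caseA_cent := Cfsg.Agent.Helper30.FC.caseA_cent
alias transfer := Cfsg.Agent.Helper47.FC.transfer

end Cfsg.Agent.Helper52.FC.P
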