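import Mathlib
import Cfsg.Agent.Lib.Helper52.FCDefs
import Cfsg.Agent.Lib.Helper52.FCPieces

set_option autoImplicit false

namespace Cfsg.Agent.Helper52.FCMain

open Subgroup Cfsg.Agent.Helper52.FC Cfsg.Agent.Helper52.FC.P
open scoped commutatorElement

universe u

variable {G : Type u} [Group G] [Finite G]

theorem mcx_of_mc {p : ℕ} {a : G} {H : Subgroup G} (mc : MC p G a H) : MCX p G a H := by
  have hcomm := mc_comm_eq mc
  have hquot : ∀ N : Subgroup G, N ≤ H → NormBy H N → Inv a N → N ≠ ⊥ →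
      ∀ c ∈ H ⊓ Fix a, ∃ s ∈ star a H, ∃ n ∈ N ⊓ Fix a, c = s * n :=
    fun N hNH hNn hNa hN c hc => mc_quot mc hcomm N hNH hNn hNa hN c hc
  refine
    { mc := mc
      comm_eq := hcomm
      comm_eq_commutator := fun X => comm_eq_commutator a X
      star_le := star_le a H mc.hyp.inv
      star_conj := fun c hc s hs => star_conj a H c hc s hs
      Lh_le := fun X hX h hh => Lh_le a X hX h hh
      Lh_inv := fun h => Lh_inv a h
      Lh_comm := fun h hh => Lh_comm mc.hp a H mc.hyp h hh
      Lh_fix := ?_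
      proper := fun X hXH hne hX => mc_proper mc X hXH hne hX
      quot := hquot
      not_le := fun N hNH hNn hNa hN => mc_not_le mc hquot N hNH hNn hNa hN
      no_gen := fun h hh => mc_no_gen mc h hh }
  intro h hh
  exact le_iSup (fun h : H => Lh a (h : G) ⊓ Fix a) ⟨h, hh⟩

theorem hS3 {p : ℕ} {a : G} {H : Subgroup G} (mx : MCX p G a H) (N : Subgroup G) (hNH : N ≤ H)
    (hNn : NormBy H N) (hNa : Inv a N) (hNab : Ab N) :
    Fix a ⊓ (⨆ h ∈ {h : G | h ∈ H ∧ N ⊔ Lh a h ≠ H}, Dh a N h) ≤ star a H := by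
  have hcop : (Nat.card N).Coprime p :=
    Nat.Coprime.coprime_dvd_left (Subgroup.card_dvd_of_le hNH) mx.mc.hyp.cop
  refine le_trans (ab_sum mx.mc.hp a mx.mc.hyp.pow N hNa hNab hcop _ ?_) ?_
  · intro h hh n hn
    exact hNn h hh.1 n hn
  · refine iSup_le fun h => iSup_le fun hh => ?_
    exact sum_term mx N hNH hNn hNa hNab h hh.1 hh.2

theorem dich {p : ℕ} {a : G} {H : Subgroup G} (mx : MCX p G a H) (N : Subgroup G) (hNH : N ≤ H)
    (hNn : NormBy H N) (hNa : Inv a N) (hNab : Ab N) (hN : HypN a H N) :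
    Fix a ⊓ ⁅N, H ⊔ zpowers a⁆ ≤ star a H ∨ SplitS a H N := by
  have h3 := hS3 mx N hNH hNn hNa hNab
  by_cases hall : ∀ h ∈ H, N ⊔ Lh a h ≠ H
  · exact Or.inl (dich_all mx N hNH hNn hNa hNab h3 hall)
  · push Not at hall
    obtain ⟨h₀, hh₀, hgen⟩ := hall
    exact dich_split mx N hNH hNn hNa hNab hN h3
      (fun L hyp hL h2 => L2_sgroup mx.mc.hp a L hyp hL h2) h₀ hh₀ hgen

theorem isPGroup_of_exp {q : ℕ} (V : Subgroup G) (hVq : ∀ v ∈ V, v ^ q = 1) : IsPGroup q V := by
  intro ⟨v, hv⟩
  refine ⟨1, ?_⟩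
  apply Subtype.ext
  simpa using hVq v hv

/-- Case B. -/
theorem caseB {p : ℕ} {a : G} {H : Subgroup G} (mx : MCX p G a H) (V : Subgroup G)
    (hV : MinNormal a H V) : V ≤ Fix a := by
  by_contra hnc
  obtain ⟨hVab, q, hq, hVq⟩ := minnormal_abelian a H V mx.mc.hyp hV
  have hN := hypN_min a H V hV hVab
  rcases dich mx V hV.le hV.norm hV.inv hVab hN with hI | ⟨L, l₀, s, hl₀, hL, hLH, hVL, hVL', hs, hLs⟩
  · exact caseB_I mx V hV hVab hnc hI
  · have hVpg : IsPGroup q V := isPGroup_of_exp V hVq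
    have hl₀H : l₀ ∈ H := hLH hl₀
    have hLa : Inv a L := hL ▸ mx.Lh_inv l₀
    have hLne : L ≠ H := hL ▸ mx.no_gen l₀ hl₀H
    have hLc : comm a L = L := by rw [hL]; exact mx.Lh_comm l₀ hl₀H
    by_cases hcent : ∀ v ∈ V, ∀ y ∈ L, v * y = y * v
    · exact caseB_cent mx V hV hVab hnc L hVL hcent
    by_cases hsq : s = q
    · subst hsq
      exact hcent (caseB_same_prime mx.mc.hyp.inv V hV s hs hVpg L hVL hLs)
    -- coprime
    have hV1 : Nat.card V ≠ 0 := Nat.card_pos.ne'
    have hcop : (Nat.card V).Coprime (Nat.card L) := by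
      haveI : Fact q.Prime := ⟨hq⟩
      haveI : Fact s.Prime := ⟨hs⟩
      obtain ⟨n, hn⟩ := IsPGroup.iff_card.mp hVpg
      obtain ⟨m, hm⟩ := IsPGroup.iff_card.mp hLs
      rw [hn, hm]
      exact Nat.Coprime.pow _ _ ((Nat.coprime_primes hq hs).mpr (Ne.symm hsq))
    have hle := card_le_sq mx V hV hVab L l₀ hl₀ hL hLH hVL hVL' hcop
    have hLV : ∀ y ∈ L, ∀ v ∈ V, y * v * y⁻¹ ∈ V := fun y hy v hv => hV.norm y (hLH hy) v hv
    push Not at hcent
    obtain ⟨v₀, hv₀, y₀, hy₀, hvy⟩ := hcent
    obtain ⟨A₀, hAL, hAa, hAn, hAc, hAab, x₀, hx₀, v₁, hv₁, hxv⟩ :=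
      exists_central_mod a V L hLa hV.inv hLV s hs hLs ⟨v₀, hv₀, y₀, hy₀, hvy⟩
    by_cases hsc : ∃ x ∈ A₀, x ∈ Fix a ∧ ∃ v ∈ V, x * v ≠ v * x
    · obtain ⟨x, hxA, hxa, hxV⟩ := hsc
      exact scalar_case mx V hV hVab L hLH hLa hLne hLc hVL x (hAL hxA) hxa (hAc x hxA) hxV
    · push Not at hsc
      -- C_V(A₀) = 1
      have hCV : ∀ v ∈ V, (∀ x ∈ A₀, x * v = v * x) → v = 1 := by
        by_contra hex
        push Not at hex
        obtain ⟨w, hwV, hwA, hw1⟩ := hex
        -- W := C_V(A₀)
        let W : Subgroup G := V ⊓ centralizer (A₀ : Set G)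
        have hWV : W ≤ V := inf_le_left
        have hmemW : ∀ v, v ∈ W ↔ v ∈ V ∧ ∀ x ∈ A₀, x * v = v * x := by
          intro v
          constructor
          · rintro ⟨h1, h2⟩
            exact ⟨h1, fun x hx => h2 x hx⟩
          · rintro ⟨h1, h2⟩
            exact ⟨h1, fun x hx => h2 x hx⟩
        have hWne : W ≠ ⊥ := by
          intro hb
          have : w ∈ W := (hmemW w).mpr ⟨hwV, hwA⟩
          rw [hb, mem_bot] at this
          exact hw1 this
        have hWa : Inv a W := by
          intro v hv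
          obtain ⟨hvV, hvA⟩ := (hmemW v).mp hv
          refine (hmemW _).mpr ⟨hV.inv v hvV, ?_⟩
          intro x hx
          -- a⁻¹ x a ∈ A₀ (finite, Inv)
          have hx' : a⁻¹ * x * a ∈ A₀ := by
            have hinj : Function.Injective (fun z : A₀ => (⟨a * z * a⁻¹, hAa z z.2⟩ : A₀)) := by
              intro z₁ z₂ h
              have := congrArg Subtype.val h
              simp only at this
              apply Subtype.ext
              have h2 : a * (z₁ : G) = a * z₂ := mul_right_cancel this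
              exact mul_left_cancel h2
            obtain ⟨z, hz⟩ := (Finite.injective_iff_surjective.mp hinj) ⟨x, hx⟩
            have hz' : a * (z : G) * a⁻¹ = x := congrArg Subtype.val hz
            have : a⁻¹ * x * a = z := by rw [← hz']; group
            rw [this]; exact z.2
          have := hvA _ hx'
          calc x * (a * v * a⁻¹) = a * ((a⁻¹ * x * a) * v) * a⁻¹ := by group
            _ = a * (v * (a⁻¹ * x * a)) * a⁻¹ := by rw [this]
            _ = a * v * a⁻¹ * x := by group
        have hWn : NormBy H W := by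
          intro h hh v hv
          obtain ⟨hvV, hvA⟩ := (hmemW v).mp hv
          -- h ∈ V ⊔ L
          have hh' : h ∈ V ⊔ L := hVL ▸ hh
          have hVn : V ≤ normalizer (L : Set G) → True := fun _ => trivial
          -- it suffices to treat generators: normalizer of W contains V and L
          have hVle : V ≤ normalizer (W : Set G) := by
            intro u hu
            rw [mem_normalizer_iff]
            intro z
            have hcomm : ∀ z ∈ V, u * z * u⁻¹ = z := by
              intro z hz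
              rw [hVab u hu z hz]; group
            constructor
            · intro hz
              rw [hcomm z (hWV hz)]; exact hz
            · intro hz
              have hzV : z ∈ V := by
                have := hWV hz
                have h2 : u⁻¹ * (u * z * u⁻¹) * u ∈ V := V.mul_mem (V.mul_mem (V.inv_mem hu) this) hu
                have h3 : u⁻¹ * (u * z * u⁻¹) * u = z := by group
                rwa [h3] at h2
              rw [hcomm z hzV] at hz; exact hz
          have hLle : L ≤ normalizer (W : Set G) := by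
            intro y hy
            have key : ∀ y ∈ L, ∀ z ∈ W, y * z * y⁻¹ ∈ W := by
              intro y hy z hz
              obtain ⟨hzV, hzA⟩ := (hmemW z).mp hz
              refine (hmemW _).mpr ⟨hLV y hy z hzV, ?_⟩
              intro x hx
              -- y⁻¹ x y ∈ A₀
              have hx' : y⁻¹ * x * y ∈ A₀ := by
                have := hAn y⁻¹ (L.inv_mem hy) x hx
                simpa using this
              have := hzA _ hx'
              calc x * (y * z * y⁻¹) = y * ((y⁻¹ * x * y) * z) * y⁻¹ := by group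
                _ = y * (z * (y⁻¹ * x * y)) * y⁻¹ := by rw [this]
                _ = y * z * y⁻¹ * x := by group
            rw [mem_normalizer_iff]
            intro z
            constructor
            · exact key y hy z
            · intro hz
              have := key y⁻¹ (L.inv_mem hy) _ hz
              have h3 : y⁻¹ * (y * z * y⁻¹) * y⁻¹⁻¹ = z := by group
              rwa [h3] at this
          have hHle : H ≤ normalizer (W : Set G) := by
            rw [← hVL]; exact sup_le hVle hLle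
          exact (mem_normalizer_iff.mp (hHle hh) v).mp hv
        have hWV' : W = V := hV.min W hWV hWn hWa hWne
        -- then A₀ centralises V: contradiction
        have : x₀ * v₁ = v₁ * x₀ := by
          have hv1W : v₁ ∈ W := hWV' ▸ hv₁
          exact ((hmemW v₁).mp hv1W).2 x₀ hx₀
        exact hxv this
      have hfix : ∀ x ∈ A₀, x ∈ Fix a → ∀ v ∈ V, x * v = v * x := fun x hx hxa v hv =>
        hsc x hx hxa v hv
      have hact : ∃ v ∈ V, a * v ≠ v * a := by
        by_contra hno
        push Not at hno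
        apply hnc
        intro v hv
        show v ∈ centralizer {a}
        rw [mem_centralizer_iff]
        intro b hb
        rw [Set.mem_singleton_iff] at hb
        subst hb
        exact hno v hv
      have hcopA : (Nat.card A₀).Coprime p :=
        Nat.Coprime.coprime_dvd_left (Subgroup.card_dvd_of_le (hAL.trans hLH)) mx.mc.hyp.cop
      have heq := frob_case mx.mc.hp a mx.mc.hyp.pow V A₀ hVab q hq hVq hV.inv hAa
        (fun x hx v hv => hLV x (hAL hx) v hv) hcopA hAab hfix hCV hact
      -- |V| = c^p ≤ c^2, p ≥ 3 ⇒ c = 1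
      set c := Nat.card (V ⊓ Fix a : Subgroup G) with hc
      have hc1 : 0 < c := Nat.card_pos
      have hp3 : 3 ≤ p := by
        have := mx.mc.hp.two_le
        have := mx.mc.hp2
        omega
      have hcone : c = 1 := by
        by_contra hne
        have h2 : 2 ≤ c := by omega
        have : c ^ 2 < c ^ p := Nat.pow_lt_pow_right h2 (by omega)
        omega
      have hbot : (V ⊓ Fix a : Subgroup G) = ⊥ := Subgroup.card_eq_one.mp (hc ▸ hcone)
      exact mx.not_le V hV.le hV.norm hV.inv hV.ne (hbot ▸ bot_le)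

/-- Case A. -/
theorem caseA {p : ℕ} {a : G} {H : Subgroup G} (mx : MCX p G a H)
    (hmin : ∀ V : Subgroup G, MinNormal a H V → V ≤ Fix a) : False := by
  have hA0 : ∀ W : Subgroup G, W ≤ H → NormBy H W → Inv a W → W ≠ ⊥ →
      ∃ V : Subgroup G, V ≤ W ∧ MinNormal a H V :=
    fun W hWH hWn hWa hW => exists_minnormal a H W hWH hWn hWa hW
  have hA1 : ∀ V : Subgroup G, V ≤ H → NormBy H V → V ≤ Fix a → V ≤ ZZ a H :=
    fun V hVH hVn hVa => le_ZZ_of_fix mx V hVH hVn hVa
  -- H ≠ ⊥
  have hH1 : H ≠ ⊥ := by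
    intro hb
    have h1 := mx.no_gen 1 (one_mem H)
    apply h1
    rw [hb, eq_bot_iff]
    exact mx.Lh_le ⊥ (by intro x hx; rw [mem_bot] at hx; subst hx; simp) 1 (one_mem _)
  have hHn : NormBy H H := fun h hh n hn => H.mul_mem (H.mul_mem hh hn) (H.inv_mem hh)
  obtain ⟨V₀, hV₀H, hV₀⟩ := hA0 H le_rfl hHn mx.mc.hyp.inv hH1
  have hZ : ZZ a H ≠ ⊥ := by
    intro hb
    have := hA1 V₀ hV₀.le hV₀.norm (hmin V₀ hV₀)
    rw [hb, le_bot_iff] at this
    exact hV₀.ne this
  have hZs := ZZ_inf_star mx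
  obtain ⟨N, hN⟩ := exists_chief mx hA1
  have hNab := chief_abelian mx hZs N hN
  have hHN := hypN_chief mx hZs N hN hNab
  rcases dich mx N hN.le hN.norm hN.inv hNab hHN with hI | ⟨L, l₀, s, hl₀, hL, hLH, hNL, hNL', hs, hLs⟩
  · exact caseA_I mx hZs hmin hA1 hA0 N hN hNab hI
  · have hl₀H : l₀ ∈ H := hLH hl₀
    have hLa : Inv a L := hL ▸ mx.Lh_inv l₀
    have hLne : L ≠ H := hL ▸ mx.no_gen l₀ hl₀H
    have hLc : comm a L = L := by rw [hL]; exact mx.Lh_comm l₀ hl₀H
    have hNs := N_sgroup mx hmin hA1 hA0 N hN hNab L hLH hLa hNL hNL' s hs hLs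
    have hHs : IsPGroup s H := by
      rw [← hNL]
      haveI : Fact s.Prime := ⟨hs⟩
      apply IsPGroup.to_sup_of_normal_left' hNs hLs
      intro y hy
      rw [mem_normalizer_iff]
      intro n
      constructor
      · intro hn
        exact hN.norm y (hLH hy) n hn
      · intro hn
        have := hN.norm y⁻¹ (H.inv_mem (hLH hy)) _ hn
        have h3 : y⁻¹ * (y * n * y⁻¹) * y⁻¹⁻¹ = n := by group
        rwa [h3] at this
    have hc := comm_le_ZZ mx.mc.hyp.inv N hN s hs hHs
    have hc' : ∀ n ∈ N, ∀ y ∈ L, n * y * n⁻¹ * y⁻¹ ∈ ZZ a H := fun n hn y hy => hc n hn y (hLH hy)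
    have hid : ∀ n ∈ N, ∀ l ∈ L, ∀ i j : ℕ,
        ⁅n⁻¹ * (a ^ i * n * (a ^ i)⁻¹), l⁻¹ * (a ^ j * l * (a ^ j)⁻¹)⁆ =
        ⁅n⁻¹ * (a ^ j * n * (a ^ j)⁻¹), l⁻¹ * (a ^ i * l * (a ^ i)⁻¹)⁆ :=
      fun n hn l hl i j => r2_identity mx hZs N hN.le hN.norm hN.inv hNab L hLH hLa hLne hLc hNL' hc' n hn l hl i j
    have hcent := r2_final mx.mc.hp mx.mc.hp2 mx.mc.hyp N hN.le hN.inv hNab L hLH hLa hLc hc' hid
    exact caseA_cent mx N hN hNab hZ L hLH hLa hNL hNL' hcent

/-- The ambient theorem. -/
theorem main_aux {p : ℕ} (hp : p.Prime) (hp2 : p ≠ 2) : ∀ (n : ℕ) (G : Type u) [Group G] [Finite G] (a : G)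
    (H : Subgroup G), Hyp p a H → Nat.card H = n → Thm a H := by
  intro n
  induction n using Nat.strong_induction_on with
  | _ n ih =>
    intro G _ _ a H hyp hcard
    by_contra hbad
    have mc : MC p G a H :=
      { hp := hp
        hp2 := hp2
        hyp := hyp
        ih := fun G' _ _ a' H' hyp' hlt => ih (Nat.card H') (hcard ▸ hlt) G' a' H' hyp' rfl
        bad := hbad }
    have mx := mcx_of_mc mc
    exact caseA mx (fun V hV => caseB mx V hV)

theorem main {p : ℕ} (hp : p.Prime) (hp2 : p ≠ 2) (G : Type u) [Group G] [Finite G] (a : G)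
    (H : Subgroup G) (hyp : Hyp p a H) : Thm a H :=
  main_aux hp hp2 _ G a H hyp rfl

end Cfsg.Agent.Helper52.FCMain
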