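import Mathlib
import Cfsg.Agent.Lib.Helper52.FLDefs
import Cfsg.Agent.Lib.Helper42.FLBNDCore
import Cfsg.Agent.Lib.Helper78.FLBADCore
import Cfsg.Agent.Lib.Helper82.FLLIN
import Cfsg.Agent.Lib.Helper22.FLCC2
import Cfsg.Agent.Lib.Helper45.FLDNOR
import Cfsg.Agent.Lib.Helper45.FLGENV
import Cfsg.Agent.Lib.Helper33.FLINT

/-!
# S3822 (FL server): verbatim wrappers (BAD), (BND) from the cores of helper78 / helper42 + (CC2), (LIN)
-/

set_option autoImplicit false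

namespace Cfsg.Agent.Helper52.FL

universe u

variable {G : Type u} [Group G] [Finite G]

/-- **(BAD)** -/
theorem bad_mem {A Q V : Subgroup G} {r s : ℕ} [Fact r.Prime] [Fact s.Prime]
    (h : Ctx A Q V r s) (P : Subgroup G) (a : G) (ha : a ∈ A) (hgen : A = P ⊔ cj a P)
    (v : G) (hv : v ∈ V) (hbad : (P ⊔ cj (v * a) P) ⊓ V ≤ Dsub Q V) :
    ∃ w₁ ∈ S1 P V (Dsub Q V), ∃ w₂ ∈ S1 (cj a P) V (Dsub Q V), v = w₁ * w₂ := by
  have hgenV := Cfsg.Agent.Helper45.FL.gen_sup_V h.hAV P a ha hgen v hv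
  have hBY : P ⊔ cj (v * a) P ≤ A ⊔ V := by rw [← hgenV]; exact le_sup_left
  exact Cfsg.Agent.Helper78.FL.bad_mem_core h (Cfsg.Agent.Helper45.FL.D_normal h)
    (Cfsg.Agent.Helper33.FL.inter_facts h).2.2 P a hgen v hv
    (Cfsg.Agent.Helper22.FL.le_conj h (P ⊔ cj (v * a) P) hBY hgenV hbad)

/-- **(BND)** -/
theorem card_S1_sq_lt {p r : ℕ} [Fact p.Prime] [Fact r.Prime] (hp : 5 ≤ p) (P A V D : Subgroup G)
    (hP : Nat.card P = p) (hsolv : Group.IsSolvable ↥A) (a : G) (ha : a ∈ A) (hgen : A = P ⊔ cj a P)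
    (hDV : D ≤ V) (hDne : D ≠ V) (hAV : A ≤ Subgroup.normalizer (V : Set G))
    (hAD : A ≤ Subgroup.normalizer (D : Set G)) (hVD : V ≤ Subgroup.normalizer (D : Set G))
    (hder : ⁅V, V⁆ ≤ D) (hpow : ∀ v ∈ V, v ^ r ∈ D)
    (hirr : ∀ E : Subgroup G, D ≤ E → E ≤ V → A ≤ Subgroup.normalizer (E : Set G) → E = D ∨ E = V)
    (hnt : ∃ y ∈ P, ∃ v ∈ V, y * v * y⁻¹ * v⁻¹ ∉ D) :
    Nat.card (S1 P V D) ^ 2 < Nat.card V * Nat.card D :=
  Cfsg.Agent.Helper42.FL.card_S1_sq_lt_of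
    (fun hp hU φ x hx hgen hx1 hirr => Cfsg.Agent.Helper82.FL.lin_bound hp hU φ x hx hgen hx1 hirr)
    hp P A V D hP hsolv a ha hgen hDV hDne hAV hAD hVD hder hpow hirr hnt

end Cfsg.Agent.Helper52.FL
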