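import Mathlib
import Cfsg.Agent.Lib.Helper52.FLDefs
import Cfsg.Agent.Lib.Helper52.FLWrap
import Cfsg.Agent.Lib.Helper45.FLDNOR
import Cfsg.Agent.Lib.Helper71.FLDER
import Cfsg.Agent.Lib.Helper71.FLPOW
import Cfsg.Agent.Lib.Helper33.FLINT
import Cfsg.Agent.Lib.Helper33.FLNG
import Cfsg.Agent.Lib.Helper45.FLGENV
import Cfsg.Agent.Lib.Helper33.FLNTRIV
import Cfsg.Agent.Lib.Helper45.FLS1C
import Cfsg.Agent.Lib.Helper22.FLCNT
import Cfsg.Agent.Lib.Helper47.FLSOLV
import Cfsg.Agent.Lib.Helper9.FLNILP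

/-! # S3822 (FL server): the pieces used by the assembly, re-exported under one namespace
(COMM helper47, DCEN helper71, CQ helper58/helper22, NQ helper33/helper22, CC1 helper22/helper9, CC2 helper22, LIN helper82,
BND core helper42, BAD core helper78 enter through these). -/

namespace Cfsg.Agent.Helper52.FL.P

alias D_normal := Cfsg.Agent.Helper45.FL.D_normal
alias derived_le_D := Cfsg.Agent.Helper71.FL.derived_le_D
alias pow_mem_D := Cfsg.Agent.Helper71.FL.pow_mem_D
alias inter_facts := Cfsg.Agent.Helper33.FL.inter_facts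
alias nongen := Cfsg.Agent.Helper33.FL.nongen
alias gen_sup_V := Cfsg.Agent.Helper45.FL.gen_sup_V
alias bad_mem := Cfsg.Agent.Helper52.FL.bad_mem
alias exists_not_mem := Cfsg.Agent.Helper33.FL.exists_not_mem
alias card_S1_conj := Cfsg.Agent.Helper45.FL.card_S1_conj
alias exists_not_mul := Cfsg.Agent.Helper22.FL.exists_not_mul
alias solvable_sup := Cfsg.Agent.Helper47.FL.solvable_sup
alias nilpotent_sup := Cfsg.Agent.Helper9.FL.nilpotent_sup
alias card_S1_sq_lt := Cfsg.Agent.Helper52.FL.card_S1_sq_lt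

end Cfsg.Agent.Helper52.FL.P
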