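import Mathlib
import Cfsg.Agent.Lib.Helper52.FLDefs
import Cfsg.Agent.Lib.Helper52.FLPieces
import Cfsg.Agent.Lib.Helper52.CoprimeSylow
import Cfsg.Agent.Lib.Helper9.WielandtBasic
import Cfsg.Agent.Lib.Helper22.Fitting

/-!
# S3822 (FL server): assembly of the pieces
-/

set_option autoImplicit false
set_option linter.unusedSectionVars false

namespace Cfsg.Agent.Helper52.FL

open Cfsg.Agent.Helper52.FL.P

variable {G : Type*} [Group G] [Finite G]

section CTX
variable {A Q V : Subgroup G} {r s : ℕ} [Fact r.Prime] [Fact s.Prime]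

theorem D_le (Q V : Subgroup G) : Dsub Q V ≤ V := inf_le_left

theorem D_ne (h : Ctx A Q V r s) : Dsub Q V ≠ V := by
  intro hD
  apply h.hnc
  intro v hv
  have hvD : v ∈ Dsub Q V := by rw [hD]; exact hv
  exact hvD.2

theorem normalizer_le_normalizer_centralizer (Q : Subgroup G) :
    Subgroup.normalizer (Q : Set G) ≤ Subgroup.normalizer ((Subgroup.centralizer (Q : Set G) : Subgroup G) : Set G) := by
  intro x hx
  have key : ∀ z : G, z ∈ Subgroup.normalizer (Q : Set G) → ∀ g ∈ Subgroup.centralizer (Q : Set G),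
      z * g * z⁻¹ ∈ Subgroup.centralizer (Q : Set G) := by
    intro z hz g hg
    rw [Subgroup.mem_centralizer_iff]
    intro q hq
    have hq' : z⁻¹ * q * z ∈ Q := by
      have := (Subgroup.mem_normalizer_iff.mp (Subgroup.inv_mem _ hz) q).mp hq
      simpa using this
    have hc := (Subgroup.mem_centralizer_iff.mp hg) (z⁻¹ * q * z) hq'
    calc q * (z * g * z⁻¹) = z * ((z⁻¹ * q * z) * g) * z⁻¹ := by group
      _ = z * (g * (z⁻¹ * q * z)) * z⁻¹ := by rw [hc]
      _ = z * g * z⁻¹ * q := by group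
  rw [Subgroup.mem_normalizer_iff]
  intro g
  constructor
  · intro hg; exact key x hx g hg
  · intro hg
    have := key x⁻¹ (Subgroup.inv_mem _ hx) _ hg
    have h2 : x⁻¹ * (x * g * x⁻¹) * x⁻¹⁻¹ = g := by group
    rw [h2] at this
    exact this

theorem normalizer_inf_le (H K : Subgroup G) :
    Subgroup.normalizer (H : Set G) ⊓ Subgroup.normalizer (K : Set G) ≤
      Subgroup.normalizer ((H ⊓ K : Subgroup G) : Set G) := by
  intro x hx
  rw [Subgroup.mem_normalizer_iff]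
  intro g
  have h1 := Subgroup.mem_normalizer_iff.mp hx.1 g
  have h2 := Subgroup.mem_normalizer_iff.mp hx.2 g
  simp only [Subgroup.mem_inf]
  rw [h1, h2]

theorem normalizer_sup_le (H K : Subgroup G) :
    Subgroup.normalizer (H : Set G) ⊓ Subgroup.normalizer (K : Set G) ≤
      Subgroup.normalizer ((H ⊔ K : Subgroup G) : Set G) := by
  intro x hx
  apply Cfsg.Agent.Helper52.mem_normalizer_of_map_conj_eq
  rw [Subgroup.map_sup, Cfsg.Agent.Helper52.map_conj_eq_of_mem_normalizer hx.1,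
    Cfsg.Agent.Helper52.map_conj_eq_of_mem_normalizer hx.2]

theorem A_le_normalizer_D (h : Ctx A Q V r s) : A ≤ Subgroup.normalizer (Dsub Q V : Set G) := by
  intro x hx
  apply normalizer_inf_le
  exact ⟨h.hAV hx, normalizer_le_normalizer_centralizer Q (h.hAQ hx)⟩

theorem le_D_of_invariant (h : Ctx A Q V r s) (W : Subgroup G) (hWV : W ≤ V) (hne : W ≠ V)
    (hAW : A ≤ Subgroup.normalizer (W : Set G)) : W ≤ Dsub Q V :=
  le_inf hWV (h.hmin W hWV hne hAW)

theorem irr (h : Ctx A Q V r s) (E : Subgroup G) (hDE : Dsub Q V ≤ E) (hEV : E ≤ V)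
    (hAE : A ≤ Subgroup.normalizer (E : Set G)) : E = Dsub Q V ∨ E = V := by
  by_cases hE : E = V
  · exact Or.inr hE
  · exact Or.inl (le_antisymm (le_D_of_invariant h E hEV hE hAE) hDE)

theorem mul_mem_S1 {P A V D : Subgroup G} (hPA : P ≤ A) (hAD : A ≤ Subgroup.normalizer (D : Set G))
    (hVD : V ≤ Subgroup.normalizer (D : Set G)) (hDV : D ≤ V) :
    ∀ d ∈ D, ∀ w ∈ S1 P V D, w * d ∈ S1 P V D := by
  intro d hd w hw
  refine ⟨V.mul_mem hw.1 (hDV hd), ?_⟩
  intro y hy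
  have h1 := hw.2 y hy
  have hyd : y * d * y⁻¹ ∈ D := (Subgroup.mem_normalizer_iff.mp (hAD (hPA hy)) d).mp hd
  have h2 : y * d * y⁻¹ * d⁻¹ ∈ D := D.mul_mem hyd (D.inv_mem hd)
  have h3 : w * (y * d * y⁻¹ * d⁻¹) * w⁻¹ ∈ D := (Subgroup.mem_normalizer_iff.mp (hVD hw.1) _).mp h2
  have h4 : y * (w * d) * y⁻¹ * (w * d)⁻¹ = (y * w * y⁻¹ * w⁻¹) * (w * (y * d * y⁻¹ * d⁻¹) * w⁻¹) := by
    group
  rw [h4]
  exact D.mul_mem h1 h3

theorem inv_mul_mem_S1 {P A V D : Subgroup G} (hPA : P ≤ A) (hAD : A ≤ Subgroup.normalizer (D : Set G))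
    (hDV : D ≤ V) :
    ∀ d ∈ D, ∀ w ∈ S1 P V D, d⁻¹ * w ∈ S1 P V D := by
  intro d hd w hw
  refine ⟨V.mul_mem (V.inv_mem (hDV hd)) hw.1, ?_⟩
  intro y hy
  have h1 := hw.2 y hy
  have hyd : y * d⁻¹ * y⁻¹ ∈ D :=
    (Subgroup.mem_normalizer_iff.mp (hAD (hPA hy)) d⁻¹).mp (D.inv_mem hd)
  have h4 : y * (d⁻¹ * w) * y⁻¹ * (d⁻¹ * w)⁻¹ = (y * d⁻¹ * y⁻¹) * (y * w * y⁻¹ * w⁻¹) * d := by
    group
  rw [h4]
  exact D.mul_mem (D.mul_mem hyd h1) hd

/-- **(FIN)**: the minimal-counterexample context is contradictory. -/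
theorem no_ctx {p : ℕ} [Fact p.Prime] (hp : 5 ≤ p) {P : Subgroup G} (hyp : Hyp p P A)
    (h : Ctx A Q V r s) : False := by
  obtain ⟨a, ha, hgen⟩ := hyp.gen
  have hPA : P ≤ A := by rw [hgen]; exact le_sup_left
  have hPaA : cj a P ≤ A := by
    have : cj a P ≤ P ⊔ cj a P := le_sup_right
    rw [← hgen] at this; exact this
  have hAD := A_le_normalizer_D h
  have hVD := D_normal h
  have hDV := D_le Q V
  have hbnd := card_S1_sq_lt hp P A V (Dsub Q V) hyp.cardP hyp.solv a ha hgen hDV (D_ne h) h.hAV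
    hAD hVD (derived_le_D h) (pow_mem_D h) (irr h) (exists_not_mem h P a ha hgen)
  have hS2 := card_S1_conj P V (Dsub Q V) a (h.hAV ha) (hAD ha)
  have hcard : Nat.card (S1 P V (Dsub Q V)) * Nat.card (S1 (cj a P) V (Dsub Q V)) <
      Nat.card V * Nat.card (Dsub Q V) := by
    rw [hS2, ← sq]; exact hbnd
  obtain ⟨v, hv, hnot⟩ := exists_not_mul V (Dsub Q V) (S1 P V (Dsub Q V)) (S1 (cj a P) V (Dsub Q V))
    (fun w hw => hw.1) (fun w hw => hw.1) (mul_mem_S1 hPA hAD hVD hDV) (inv_mul_mem_S1 hPaA hAD hDV)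
    hcard
  have hbad : ¬ (P ⊔ cj (v * a) P) ⊓ V ≤ Dsub Q V := by
    intro hb
    exact hnot (bad_mem h P a ha hgen v hv hb)
  have hgenV := gen_sup_V h.hAV P a ha hgen v hv
  have hYN : A ⊔ V ≤ Subgroup.normalizer (V : Set G) := sup_le h.hAV Subgroup.le_normalizer
  have hYD : A ⊔ V ≤ Subgroup.normalizer (Dsub Q V : Set G) := sup_le hAD hVD
  have hBY : P ⊔ cj (v * a) P ≤ A ⊔ V := by rw [← hgenV]; exact le_sup_left
  have hABV : A ≤ (P ⊔ cj (v * a) P) ⊔ V := by rw [hgenV]; exact le_sup_left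
  have hBK : P ⊔ cj (v * a) P ≤ Subgroup.normalizer (((P ⊔ cj (v * a) P) ⊓ V : Subgroup G) : Set G) := by
    intro x hx
    apply normalizer_inf_le
    exact ⟨Subgroup.le_normalizer hx, hYN (hBY hx)⟩
  have hVE : V ≤ Subgroup.normalizer ((((P ⊔ cj (v * a) P) ⊓ V) ⊔ Dsub Q V : Subgroup G) : Set G) := by
    have hder := derived_le_D h
    have hEV : ((P ⊔ cj (v * a) P) ⊓ V) ⊔ Dsub Q V ≤ V := sup_le inf_le_right hDV
    have key : ∀ z ∈ V, ∀ e ∈ ((P ⊔ cj (v * a) P) ⊓ V) ⊔ Dsub Q V,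
        z * e * z⁻¹ ∈ ((P ⊔ cj (v * a) P) ⊓ V) ⊔ Dsub Q V := by
      intro z hz e he
      have hc : z * e * z⁻¹ * e⁻¹ ∈ ⁅V, V⁆ := Subgroup.commutator_mem_commutator hz (hEV he)
      have hc' : z * e * z⁻¹ * e⁻¹ ∈ ((P ⊔ cj (v * a) P) ⊓ V) ⊔ Dsub Q V :=
        (le_sup_right : Dsub Q V ≤ _) (hder hc)
      have : z * e * z⁻¹ = (z * e * z⁻¹ * e⁻¹) * e := by group
      rw [this]
      exact Subgroup.mul_mem _ hc' he
    intro z hz
    rw [Subgroup.mem_normalizer_iff]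
    intro e
    constructor
    · intro he; exact key z hz e he
    · intro he
      have := key z⁻¹ (V.inv_mem hz) _ he
      have h2 : z⁻¹ * (z * e * z⁻¹) * z⁻¹⁻¹ = e := by group
      rw [h2] at this
      exact this
  have hAE : A ≤ Subgroup.normalizer ((((P ⊔ cj (v * a) P) ⊓ V) ⊔ Dsub Q V : Subgroup G) : Set G) := by
    have hBE : P ⊔ cj (v * a) P ≤
        Subgroup.normalizer ((((P ⊔ cj (v * a) P) ⊓ V) ⊔ Dsub Q V : Subgroup G) : Set G) := by
      intro x hx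
      apply normalizer_sup_le
      exact ⟨hBK hx, hYD (hBY hx)⟩
    exact le_trans hABV (sup_le hBE hVE)
  have hE := irr h (((P ⊔ cj (v * a) P) ⊓ V) ⊔ Dsub Q V) le_sup_right (sup_le inf_le_right hDV) hAE
  rcases hE with hE | hE
  · apply hbad
    rw [← hE]; exact le_sup_left
  have hKV := nongen h ((P ⊔ cj (v * a) P) ⊓ V) (P ⊔ cj (v * a) P) inf_le_right hE hBK hABV
  have hVB : V ≤ P ⊔ cj (v * a) P := by
    have : (P ⊔ cj (v * a) P) ⊓ V ≤ P ⊔ cj (v * a) P := inf_le_left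
    rw [hKV] at this; exact this
  have hBeq : P ⊔ cj (v * a) P = A ⊔ V := by
    rw [← hgenV]; exact (sup_eq_left.mpr hVB).symm
  have hAB : A ≤ P ⊔ cj (v * a) P := by rw [hBeq]; exact le_sup_left
  have hsolvB : Group.IsSolvable ↥(P ⊔ cj (v * a) P) := by
    rw [hBeq]; exact solvable_sup A V hyp.solv h.hV h.hAV
  have hmem : v * a ∈ P ⊔ cj (v * a) P := Subgroup.mul_mem _ (hVB hv) (hAB ha)
  have hBA := hyp.max (P ⊔ cj (v * a) P) hAB hsolvB ⟨v * a, hmem, rfl⟩
  have hVA : V ≤ A := by rw [← hBA]; exact hVB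
  exact (inter_facts h).2.1 hVA

end CTX

/-- **(MAIN)** a normal `s`-subgroup of `A` centralises every `A`-invariant `r`-subgroup, `r ≠ s`. -/
theorem main_claim {p : ℕ} [Fact p.Prime] (hp : 5 ≤ p) {P A : Subgroup G} (hyp : Hyp p P A)
    {r s : ℕ} [Fact r.Prime] [Fact s.Prime] (hrs : r ≠ s) (Q : Subgroup G) (hQA : Q ≤ A)
    (hAQ : A ≤ Subgroup.normalizer (Q : Set G)) (hQ : IsPGroup s Q) :
    ∀ (n : ℕ) (R : Subgroup G), Nat.card R = n → IsPGroup r R →
      A ≤ Subgroup.normalizer (R : Set G) → R ≤ Subgroup.centralizer (Q : Set G) := by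
  intro n
  induction n using Nat.strong_induction_on with
  | _ n ih =>
    intro R hn hR hAR
    by_contra hnc
    have hctx : Ctx A Q R r s :=
      { hQA := hQA, hAQ := hAQ, hQ := hQ, hV := hR, hAV := hAR, hrs := hrs, hnc := hnc,
        hmin := by
          intro W hWR hne hAW
          have hlt : Nat.card W < n := by
            rw [← hn]
            by_contra hcon
            push Not at hcon
            exact hne (Subgroup.eq_of_le_of_card_ge hWR hcon)
          exact ih (Nat.card W) hlt W rfl (hR.to_le hWR) hAW }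
    exact no_ctx hp hyp hctx

end Cfsg.Agent.Helper52.FL
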