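import Mathlib

/-!
# FX (PERM) `perm_fixed_le` for helper97's FX server (S3818)

A finite solvable group `G` generated by the conjugates of an element `x` with `x ^ p = 1`,
acting transitively on `n ≥ 2` points: `p * #Fix(x) ≤ n`.

Route: reduce to `G ⧸ M` with `M` a maximal subgroup over a point stabiliser (fibre count); there the
last term `A` of the derived series not inside `M` acts as a regular abelian group normalised by `x`, and
`#Fix(x) = |C_A(x)|` has index `≥ p` in `A` (two cases: `[A,x]` central or not).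
-/

set_option autoImplicit false

namespace Cfsg.Agent.Helper52.FX

open scoped Pointwise commutatorElement

universe u

theorem fxperm_commute_of_pow {Γ : Type*} [Group Γ] (y w : Γ) {p : ℕ} (hp : p.Prime)
    (hyp : y ^ p = 1) {k : ℕ} (hk0 : 0 < k) (hkp : k < p) (hc : Commute (y ^ k) w) :
    Commute y w := by
  have hcop : Nat.Coprime k p :=
    ((Nat.Prime.coprime_iff_not_dvd hp).2 (Nat.not_dvd_of_pos_of_lt hk0 hkp)).symm
  obtain ⟨m, -, hm⟩ := Nat.exists_mul_mod_eq_one_of_coprime hcop hp.one_lt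
  have h1 : y ^ (k * m) = y := by
    rw [pow_eq_pow_mod (k * m) hyp, hm, pow_one]
  have h2 : Commute ((y ^ k) ^ m) w := hc.pow_left m
  rw [← pow_mul, h1] at h2
  exact h2

theorem fxperm_conj_ne {Γ : Type*} [Group Γ] (y w : Γ) {p : ℕ} (hp : p.Prime)
    (hyp : y ^ p = 1) (hnc : ¬ Commute y w) (i j : ℕ) (hij : i < j) (hjp : j < p) :
    y ^ i * w * (y ^ i)⁻¹ ≠ y ^ j * w * (y ^ j)⁻¹ := by
  intro h
  obtain ⟨k, hk⟩ : ∃ k, j = i + k := ⟨j - i, by omega⟩
  have hj : y ^ j = y ^ i * y ^ k := by rw [hk, pow_add]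
  have hc : y ^ k * w = w * y ^ k := by
    calc y ^ k * w = (y ^ i)⁻¹ * (y ^ j * w * (y ^ j)⁻¹) * y ^ i * y ^ k := by
          rw [hj]; group
      _ = (y ^ i)⁻¹ * (y ^ i * w * (y ^ i)⁻¹) * y ^ i * y ^ k := by rw [h]
      _ = w * y ^ k := by group
  exact hnc (fxperm_commute_of_pow y w hp hyp (by omega) (by omega) hc)

theorem fxperm_index_bound {Γ : Type*} [Group Γ] (A : Subgroup Γ) [Finite A]
    (hcomm : ∀ u ∈ A, ∀ v ∈ A, u * v = v * u) (y : Γ) (hy : ∀ u ∈ A, y * u * y⁻¹ ∈ A)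
    {p : ℕ} (hp : p.Prime) (hyp : y ^ p = 1) (hnc : ∃ u ∈ A, y * u ≠ u * y) :
    p * Nat.card (A ⊓ Subgroup.centralizer {y} : Subgroup Γ) ≤ Nat.card A := by
  classical
  have hyj : ∀ j : ℕ, ∀ u ∈ A, y ^ j * u * (y ^ j)⁻¹ ∈ A := by
    intro j
    induction j with
    | zero => intro u hu; simpa using hu
    | succ j ih =>
      intro u hu
      have h1 := hy _ (ih u hu)
      have h2 : y ^ (j + 1) * u * (y ^ (j + 1))⁻¹ = y * (y ^ j * u * (y ^ j)⁻¹) * y⁻¹ := by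
        rw [pow_succ']; group
      rw [h2]; exact h1
  let φ : A →* A := MonoidHom.mk'
    (fun u => ⟨(u : Γ)⁻¹ * (y * u * y⁻¹), A.mul_mem (A.inv_mem u.2) (hy u u.2)⟩) (by
      intro u v
      apply Subtype.ext
      have h1 : (v : Γ)⁻¹ * ((u : Γ)⁻¹ * (y * u * y⁻¹)) = ((u : Γ)⁻¹ * (y * u * y⁻¹)) * (v : Γ)⁻¹ :=
        hcomm _ (A.inv_mem v.2) _ (A.mul_mem (A.inv_mem u.2) (hy u u.2))
      show ((u : Γ) * v)⁻¹ * (y * ((u : Γ) * v) * y⁻¹) =
        ((u : Γ)⁻¹ * (y * u * y⁻¹)) * ((v : Γ)⁻¹ * (y * v * y⁻¹))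
      calc ((u : Γ) * v)⁻¹ * (y * ((u : Γ) * v) * y⁻¹)
          = ((v : Γ)⁻¹ * ((u : Γ)⁻¹ * (y * u * y⁻¹))) * (y * v * y⁻¹) := by group
        _ = (((u : Γ)⁻¹ * (y * u * y⁻¹)) * (v : Γ)⁻¹) * (y * v * y⁻¹) := by rw [h1]
        _ = _ := by group)
  have hφ : ∀ u : A, ((φ u : A) : Γ) = (u : Γ)⁻¹ * (y * u * y⁻¹) := fun u => rfl
  -- kernel
  have hkermap : (φ.ker).map A.subtype = A ⊓ Subgroup.centralizer {y} := by
    ext g
    simp only [Subgroup.mem_map, MonoidHom.mem_ker, Subgroup.mem_inf,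
      Subgroup.mem_centralizer_iff, Set.mem_singleton_iff, forall_eq]
    constructor
    · rintro ⟨u, hu, rfl⟩
      refine ⟨u.2, ?_⟩
      have h1 : ((φ u : A) : Γ) = 1 := by rw [hu]; rfl
      rw [hφ] at h1
      have h2 : y * (u : Γ) * y⁻¹ = u := by
        calc y * (u : Γ) * y⁻¹ = (u : Γ) * ((u : Γ)⁻¹ * (y * u * y⁻¹)) := by group
          _ = u := by rw [h1, mul_one]
      calc y * A.subtype u = (y * (u : Γ) * y⁻¹) * y := by simp
        _ = A.subtype u * y := by rw [h2]; rfl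
    · rintro ⟨hg, hc⟩
      refine ⟨⟨g, hg⟩, ?_, rfl⟩
      apply Subtype.ext
      rw [hφ]
      show g⁻¹ * (y * g * y⁻¹) = 1
      rw [hc]; group
  have hkercard : Nat.card (A ⊓ Subgroup.centralizer {y} : Subgroup Γ) = Nat.card φ.ker := by
    rw [← hkermap]
    exact Subgroup.card_map_of_injective A.subtype_injective
  have hcard : Nat.card φ.ker * Nat.card φ.range = Nat.card A := by
    rw [← Subgroup.index_ker, Subgroup.card_mul_index]
  -- the range has at least p elements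
  have hD : p ≤ Nat.card φ.range := by
    obtain ⟨u, hu, hne⟩ := hnc
    by_cases hcase : ∀ w : A, w ∈ φ.range → Commute y (w : Γ)
    · -- central case: the commutator has order p
      have hdc0 : Commute y ((u : Γ)⁻¹ * (y * u * y⁻¹)) :=
        hcase (φ ⟨u, hu⟩) ⟨⟨u, hu⟩, rfl⟩
      obtain ⟨d, hd⟩ : ∃ d : Γ, d = (u : Γ)⁻¹ * (y * u * y⁻¹) := ⟨_, rfl⟩
      have hdc : Commute y d := by rw [hd]; exact hdc0
      have hyu : y * u * y⁻¹ = u * d := by rw [hd]; group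
      have hpow : ∀ j : ℕ, y ^ j * u * (y ^ j)⁻¹ = u * d ^ j := by
        intro j
        induction j with
        | zero => simp
        | succ j ih =>
          have hdj : Commute y (d ^ j) := hdc.pow_right j
          obtain ⟨e, he⟩ : ∃ e : Γ, e = d ^ j := ⟨_, rfl⟩
          rw [← he] at ih hdj
          calc y ^ (j + 1) * u * (y ^ (j + 1))⁻¹ = y * (y ^ j * u * (y ^ j)⁻¹) * y⁻¹ := by
                rw [pow_succ']; group
            _ = y * (u * e) * y⁻¹ := by rw [ih]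
            _ = (y * u * y⁻¹) * (y * e) * y⁻¹ := by group
            _ = (u * d) * (e * y) * y⁻¹ := by rw [hdj.eq, hyu]
            _ = u * (d * e) := by group
            _ = u * d ^ (j + 1) := by rw [he, ← pow_succ']
      have hp1 : d ^ p = 1 := by
        have := hpow p
        rw [hyp] at this
        simp only [one_mul, inv_one, mul_one] at this
        exact (left_eq_mul.mp this)
      have hd1 : d ≠ 1 := by
        intro h
        apply hne
        calc y * u = (y * u * y⁻¹) * y := by group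
          _ = u * y := by rw [hyu, h, mul_one]
      let dr : φ.range := ⟨φ ⟨u, hu⟩, ⟨⟨u, hu⟩, rfl⟩⟩
      have hdrp : dr ^ p = 1 := by
        apply Subtype.ext; apply Subtype.ext
        show (((u : Γ)⁻¹ * (y * u * y⁻¹))) ^ p = 1
        rw [← hd]; exact hp1
      have hdr1 : dr ≠ 1 := by
        intro h
        apply hd1
        have := congrArg (fun z : φ.range => ((z : A) : Γ)) h
        rw [hd]; exact this
      have : Fact p.Prime := ⟨hp⟩
      have hord : orderOf dr = p := orderOf_eq_prime hdrp hdr1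
      have hdvd : orderOf dr ∣ Nat.card φ.range := orderOf_dvd_natCard dr
      rw [hord] at hdvd
      exact Nat.le_of_dvd Nat.card_pos hdvd
    · -- some commutator is moved: p distinct conjugates inside the range
      push Not at hcase
      obtain ⟨w, ⟨v, hv⟩, hwc⟩ := hcase
      have hval : ∀ j : ℕ, ((φ ⟨y ^ j * v * (y ^ j)⁻¹, hyj j v v.2⟩ : A) : Γ) =
          y ^ j * (w : Γ) * (y ^ j)⁻¹ := by
        intro j
        rw [hφ, ← hv, hφ]
        show (y ^ j * (v : Γ) * (y ^ j)⁻¹)⁻¹ * (y * (y ^ j * (v : Γ) * (y ^ j)⁻¹) * y⁻¹) =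
          y ^ j * ((v : Γ)⁻¹ * (y * v * y⁻¹)) * (y ^ j)⁻¹
        have hyc : y * y ^ j = y ^ j * y := (Commute.self_pow y j).eq
        calc (y ^ j * (v : Γ) * (y ^ j)⁻¹)⁻¹ * (y * (y ^ j * (v : Γ) * (y ^ j)⁻¹) * y⁻¹)
            = y ^ j * (v : Γ)⁻¹ * (y ^ j)⁻¹ * ((y * y ^ j) * (v : Γ) * (y * y ^ j)⁻¹) := by group
          _ = y ^ j * (v : Γ)⁻¹ * (y ^ j)⁻¹ * ((y ^ j * y) * (v : Γ) * (y ^ j * y)⁻¹) := by rw [hyc]
          _ = _ := by group
      let f : Fin p → φ.range := fun j =>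
        ⟨φ ⟨y ^ (j : ℕ) * v * (y ^ (j : ℕ))⁻¹, hyj j v v.2⟩, ⟨_, rfl⟩⟩
      have hf : Function.Injective f := by
        intro i j hij
        have h1 : y ^ (i : ℕ) * (w : Γ) * (y ^ (i : ℕ))⁻¹ = y ^ (j : ℕ) * (w : Γ) * (y ^ (j : ℕ))⁻¹ := by
          rw [← hval, ← hval]
          exact congrArg (fun z : φ.range => ((z : A) : Γ)) hij
        rcases lt_trichotomy (i : ℕ) (j : ℕ) with hlt | heq | hgt
        · exact absurd h1 (fxperm_conj_ne y w hp hyp hwc i j hlt j.2)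
        · exact Fin.ext heq
        · exact absurd h1.symm (fxperm_conj_ne y w hp hyp hwc j i hgt i.2)
      have := Nat.card_le_card_of_injective f hf
      simpa using this
  calc p * Nat.card (A ⊓ Subgroup.centralizer {y} : Subgroup Γ)
      = Nat.card φ.ker * p := by rw [hkercard, mul_comm]
    _ ≤ Nat.card φ.ker * Nat.card φ.range := Nat.mul_le_mul_left _ hD
    _ = Nat.card A := hcard


theorem fxperm_regular_bound {Ω : Type*} [Finite Ω] (A : Subgroup (Equiv.Perm Ω))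
    (hcomm : ∀ u ∈ A, ∀ v ∈ A, u * v = v * u) (htr : ∀ ω ω' : Ω, ∃ u ∈ A, u ω = ω')
    (y : Equiv.Perm Ω) (hy : ∀ u ∈ A, y * u * y⁻¹ ∈ A) {p : ℕ} (hp : p.Prime) (hyp : y ^ p = 1)
    (hy1 : y ≠ 1) : p * Nat.card {ω : Ω // y ω = ω} ≤ Nat.card Ω := by
  classical
  by_cases hfix : ∃ ω₀ : Ω, y ω₀ = ω₀
  swap
  · have : IsEmpty {ω : Ω // y ω = ω} := ⟨fun ω => hfix ⟨ω.1, ω.2⟩⟩
    simp
  obtain ⟨ω₀, hω₀⟩ := hfix
  have hreg : ∀ u ∈ A, u ω₀ = ω₀ → u = 1 := by
    intro u hu h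
    ext ω
    obtain ⟨v, hv, rfl⟩ := htr ω₀ ω
    have h2 : (u * v) ω₀ = (v * u) ω₀ := by rw [hcomm u hu v hv]
    simpa [Equiv.Perm.mul_apply, h] using h2
  have hinj : ∀ u ∈ A, ∀ v ∈ A, u ω₀ = v ω₀ → u = v := by
    intro u hu v hv h
    have h3 := hreg (v⁻¹ * u) (A.mul_mem (A.inv_mem hv) hu)
      (by simp [Equiv.Perm.mul_apply, h])
    exact (inv_mul_eq_one.mp h3).symm
  have hcardA : Nat.card A = Nat.card Ω := by
    apply Nat.card_congr
    exact Equiv.ofBijective (fun u : A => (u : Equiv.Perm Ω) ω₀)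
      ⟨fun u v h => Subtype.ext (hinj u u.2 v v.2 h), fun ω => by
        obtain ⟨u, hu, h⟩ := htr ω₀ ω
        exact ⟨⟨u, hu⟩, h⟩⟩
  have hne : ∃ u ∈ A, y * u ≠ u * y := by
    by_contra hcon
    push Not at hcon
    apply hy1
    ext ω
    obtain ⟨v, hv, rfl⟩ := htr ω₀ ω
    have h2 : (y * v) ω₀ = (v * y) ω₀ := by rw [hcon v hv]
    simpa [Equiv.Perm.mul_apply, hω₀] using h2
  have hI := fxperm_index_bound A hcomm y hy hp hyp hne
  have hyinv : y⁻¹ ω₀ = ω₀ := by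
    rw [Equiv.Perm.inv_eq_iff_eq]; exact hω₀.symm
  have hfixle : Nat.card {ω : Ω // y ω = ω} ≤
      Nat.card (A ⊓ Subgroup.centralizer {y} : Subgroup (Equiv.Perm Ω)) := by
    have hmem : ∀ c : (A ⊓ Subgroup.centralizer {y} : Subgroup (Equiv.Perm Ω)),
        y ((c : Equiv.Perm Ω) ω₀) = (c : Equiv.Perm Ω) ω₀ := by
      intro c
      have hc := (Subgroup.mem_inf.mp c.2).2
      rw [Subgroup.mem_centralizer_iff] at hc
      have h2 : y * (c : Equiv.Perm Ω) = (c : Equiv.Perm Ω) * y := hc y rfl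
      have h3 : (y * (c : Equiv.Perm Ω)) ω₀ = ((c : Equiv.Perm Ω) * y) ω₀ := by rw [h2]
      simpa [Equiv.Perm.mul_apply, hω₀] using h3
    apply Nat.card_le_card_of_surjective
      (fun c : (A ⊓ Subgroup.centralizer {y} : Subgroup (Equiv.Perm Ω)) =>
        (⟨(c : Equiv.Perm Ω) ω₀, hmem c⟩ : {ω : Ω // y ω = ω}))
    rintro ⟨ω, hω⟩
    obtain ⟨u, hu, rfl⟩ := htr ω₀ ω
    have h4 : (y * u * y⁻¹) ω₀ = u ω₀ := by
      simp only [Equiv.Perm.mul_apply, hyinv]
      exact hω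
    have h5 : y * u * y⁻¹ = u := hinj _ (hy u hu) _ hu h4
    have h6 : y * u = u * y := by
      calc y * u = (y * u * y⁻¹) * y := by group
        _ = u * y := by rw [h5]
    refine ⟨⟨u, Subgroup.mem_inf.mpr ⟨hu, ?_⟩⟩, rfl⟩
    rw [Subgroup.mem_centralizer_iff]
    intro h hh
    rw [Set.mem_singleton_iff] at hh
    rw [hh]; exact h6
  calc p * Nat.card {ω : Ω // y ω = ω}
      ≤ p * Nat.card (A ⊓ Subgroup.centralizer {y} : Subgroup (Equiv.Perm Ω)) :=
        Nat.mul_le_mul_left _ hfixle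
    _ ≤ Nat.card A := hI
    _ = Nat.card Ω := hcardA

theorem fxperm_fiber_count {G : Type*} [Group G] {Ω₁ : Type*} {Ω₂ : Type*} [Finite Ω₁] [Finite Ω₂]
    [MulAction G Ω₁] [MulAction G Ω₂] [MulAction.IsPretransitive G Ω₂] (π : Ω₁ → Ω₂)
    (hπ : ∀ (g : G) (ω : Ω₁), π (g • ω) = g • π ω) (x : G) :
    ∃ s : ℕ, Nat.card Ω₁ = s * Nat.card Ω₂ ∧
      Nat.card (MulAction.fixedBy Ω₁ x) ≤ s * Nat.card (MulAction.fixedBy Ω₂ x) := by
  classical
  rcases isEmpty_or_nonempty Ω₂ with hemp | ⟨⟨ω₂⟩⟩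
  · have : IsEmpty Ω₁ := ⟨fun ω => hemp.false (π ω)⟩
    exact ⟨0, by simp, by simp⟩
  have hfib : ∀ b : Ω₂, Nat.card {ω : Ω₁ // π ω = b} = Nat.card {ω : Ω₁ // π ω = ω₂} := by
    intro b
    obtain ⟨g, hg⟩ := MulAction.exists_smul_eq G ω₂ b
    apply Nat.card_congr
    refine ⟨fun ω => ⟨g⁻¹ • ω.1, by rw [hπ, ω.2, ← hg, inv_smul_smul]⟩,
      fun ω => ⟨g • ω.1, by rw [hπ, ω.2, hg]⟩, ?_, ?_⟩
    · intro ω; apply Subtype.ext; simp
    · intro ω; apply Subtype.ext; simp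
  refine ⟨Nat.card {ω : Ω₁ // π ω = ω₂}, ?_, ?_⟩
  · have h1 : Nat.card Ω₁ = Nat.card (Σ b : Ω₂, {ω : Ω₁ // π ω = b}) :=
      Nat.card_congr (Equiv.sigmaFiberEquiv π).symm
    have : Fintype Ω₂ := Fintype.ofFinite Ω₂
    rw [h1, Nat.card_sigma]
    simp only [hfib, Finset.sum_const, Finset.card_univ, smul_eq_mul]
    rw [Nat.card_eq_fintype_card (α := Ω₂), mul_comm]
  · have hmap : ∀ ω : MulAction.fixedBy Ω₁ x, π ω.1 ∈ MulAction.fixedBy Ω₂ x := by
      intro ω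
      rw [MulAction.mem_fixedBy, ← hπ]
      congr 1
      exact ω.2
    let ι : MulAction.fixedBy Ω₁ x → (Σ b : MulAction.fixedBy Ω₂ x, {ω : Ω₁ // π ω = b.1}) :=
      fun ω => ⟨⟨π ω.1, hmap ω⟩, ⟨ω.1, rfl⟩⟩
    have hι : Function.Injective ι := by
      intro a b hab
      have h2 := congrArg (fun z : (Σ b : MulAction.fixedBy Ω₂ x, {ω : Ω₁ // π ω = b.1}) => z.2.1) hab
      exact Subtype.ext h2
    have h3 := Nat.card_le_card_of_injective ι hι
    have : Fintype (MulAction.fixedBy Ω₂ x) := Fintype.ofFinite _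
    rw [Nat.card_sigma] at h3
    simp only [hfib, Finset.sum_const, Finset.card_univ, smul_eq_mul] at h3
    rw [← Nat.card_eq_fintype_card (α := MulAction.fixedBy Ω₂ x), mul_comm] at h3
    exact h3


theorem fxperm_trivial_of_normal_le {G : Type*} [Group G] (M N : Subgroup G) (hN : N.Normal)
    (hNM : N ≤ M) (n : G) (hn : n ∈ N) : MulAction.toPermHom G (G ⧸ M) n = 1 := by
  ext q
  induction q using QuotientGroup.induction_on with
  | H g =>
    show n • (g : G ⧸ M) = (g : G ⧸ M)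
    rw [MulAction.Quotient.smul_mk, QuotientGroup.eq]
    apply hNM
    have h1 : (n * g)⁻¹ * g = g⁻¹ * n⁻¹ * g⁻¹⁻¹ := by group
    rw [smul_eq_mul, h1]
    exact hN.conj_mem _ (N.inv_mem hn) _

theorem fxperm_coatom_bound {G : Type*} [Group G] [Finite G] [Group.IsSolvable G] (x : G) {p : ℕ}
    (hp : p.Prime) (hxp : x ^ p = 1) (hgen : Subgroup.normalClosure ({x} : Set G) = ⊤)
    (M : Subgroup G) (hM : IsCoatom M) :
    p * Nat.card (MulAction.fixedBy (G ⧸ M) x) ≤ Nat.card (G ⧸ M) := by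
  classical
  obtain ⟨n, hn⟩ := (Group.isSolvable_def G).1 inferInstance
  have hex : ∃ k, derivedSeries G k ≤ M := ⟨n, by rw [hn]; exact bot_le⟩
  have hk₀ : derivedSeries G (Nat.find hex) ≤ M := Nat.find_spec hex
  have hk₀pos : Nat.find hex ≠ 0 := by
    intro h0
    rw [h0, derivedSeries_zero] at hk₀
    exact hM.1 (top_le_iff.mp hk₀)
  obtain ⟨k, hk⟩ := Nat.exists_eq_succ_of_ne_zero hk₀pos
  have hAM : ¬ derivedSeries G k ≤ M := Nat.find_min hex (by omega)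
  have hA'M : ⁅derivedSeries G k, derivedSeries G k⁆ ≤ M := by
    rw [hk] at hk₀; exact hk₀
  obtain ⟨A, hA⟩ : ∃ A : Subgroup G, A = derivedSeries G k := ⟨_, rfl⟩
  rw [← hA] at hAM hA'M
  have hAn : A.Normal := by rw [hA]; infer_instance
  have hsup : A ⊔ M = ⊤ := by
    by_contra hne
    have hlt : M < A ⊔ M := lt_of_le_of_ne le_sup_right (fun h => hAM (by
      have : A ≤ A ⊔ M := le_sup_left
      rw [← h] at this; exact this))
    exact hne (hM.2 _ hlt)
  -- every coset is represented by an element of A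
  have hrep : ∀ g : G, ∃ a ∈ A, ((a : G) : G ⧸ M) = (g : G ⧸ M) := by
    intro g
    have hg : g ∈ A ⊔ M := by rw [hsup]; exact Subgroup.mem_top g
    have hset := Subgroup.normal_mul A M
    have hg' : g ∈ ((A : Set G) * (M : Set G)) := by rw [← hset]; exact hg
    obtain ⟨a, ha, m, hm, rfl⟩ := Set.mem_mul.mp hg'
    refine ⟨a, ha, ?_⟩
    rw [QuotientGroup.eq]
    have : a⁻¹ * (a * m) = m := by group
    rw [this]; exact hm
  obtain ⟨ρ, hρ⟩ : ∃ ρ : G →* Equiv.Perm (G ⧸ M), ρ = MulAction.toPermHom G (G ⧸ M) := ⟨_, rfl⟩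
  have hρapp : ∀ (g : G) (q : G ⧸ M), ρ g q = g • q := by
    intro g q; rw [hρ]; rfl
  have hcomN : (⁅A, A⁆ : Subgroup G).Normal := inferInstance
  have hcomm : ∀ u ∈ A.map ρ, ∀ v ∈ A.map ρ, u * v = v * u := by
    rintro u ⟨a, ha, rfl⟩ v ⟨b, hb, rfl⟩
    have h1 : ρ (⁅a, b⁆ : G) = 1 := by
      rw [hρ]
      exact fxperm_trivial_of_normal_le M ⁅A, A⁆ hcomN hA'M _
        (Subgroup.commutator_mem_commutator ha hb)
    rw [map_commutatorElement, commutatorElement_eq_one_iff_mul_comm] at h1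
    exact h1
  have htr : ∀ ω ω' : G ⧸ M, ∃ u ∈ A.map ρ, u ω = ω' := by
    intro ω ω'
    induction ω using QuotientGroup.induction_on with
    | H g₁ =>
      induction ω' using QuotientGroup.induction_on with
      | H g₂ =>
        obtain ⟨a₁, ha₁, h₁⟩ := hrep g₁
        obtain ⟨a₂, ha₂, h₂⟩ := hrep g₂
        refine ⟨ρ (a₂ * a₁⁻¹), ⟨_, A.mul_mem ha₂ (A.inv_mem ha₁), rfl⟩, ?_⟩
        rw [hρapp, ← h₁, ← h₂, MulAction.Quotient.smul_mk, smul_eq_mul]
        congr 1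
        group
  have hy : ∀ u ∈ A.map ρ, ρ x * u * (ρ x)⁻¹ ∈ A.map ρ := by
    rintro u ⟨a, ha, rfl⟩
    refine ⟨x * a * x⁻¹, hAn.conj_mem a ha x, ?_⟩
    simp
  have hyp : ρ x ^ p = 1 := by rw [← map_pow, hxp, map_one]
  have hy1 : ρ x ≠ 1 := by
    intro h1
    have hker : x ∈ ρ.ker := MonoidHom.mem_ker.mpr h1
    have hle : Subgroup.normalClosure ({x} : Set G) ≤ ρ.ker :=
      Subgroup.normalClosure_le_normal (Set.singleton_subset_iff.mpr hker)
    rw [hgen] at hle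
    obtain ⟨g, hg⟩ : ∃ g : G, g ∉ M := by
      by_contra hcon
      push Not at hcon
      exact hM.1 (eq_top_iff.mpr (fun g _ => hcon g))
    have hgk : ρ g = 1 := MonoidHom.mem_ker.mp (hle (Subgroup.mem_top g))
    have h2 : ρ g ((1 : G) : G ⧸ M) = ((1 : G) : G ⧸ M) := by rw [hgk]; rfl
    rw [hρapp, MulAction.Quotient.smul_mk, QuotientGroup.eq] at h2
    apply hg
    have h3 : (g • (1 : G))⁻¹ * 1 = g⁻¹ := by simp
    rw [h3] at h2
    exact (Subgroup.inv_mem_iff M).mp h2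
  have hR := fxperm_regular_bound (A.map ρ) hcomm htr (ρ x) hy hp hyp hy1
  have hcongr : Nat.card (MulAction.fixedBy (G ⧸ M) x) = Nat.card {ω : G ⧸ M // ρ x ω = ω} := by
    apply Nat.card_congr
    exact Equiv.subtypeEquivRight (fun ω => by rw [MulAction.mem_fixedBy, hρapp])
  rw [hcongr]
  exact hR

/-- **(PERM)** verbatim from `tools/fx_sigs_helper97.lean.txt`. -/
theorem perm_fixed_le {G : Type*} [Group G] [Finite G] [Group.IsSolvable G] (x : G) {p : ℕ}
    (hp : p.Prime) (hxp : x ^ p = 1) (hgen : Subgroup.normalClosure ({x} : Set G) = ⊤) :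
    ∀ (n : ℕ) (Ω : Type u) [Finite Ω] [MulAction G Ω] [MulAction.IsPretransitive G Ω],
      Nat.card Ω = n → 2 ≤ n → p * Nat.card (MulAction.fixedBy Ω x) ≤ Nat.card Ω := by
  intro n Ω _ _ _ hn h2
  classical
  have hne : Nonempty Ω := by
    by_contra h
    rw [not_nonempty_iff] at h
    rw [Nat.card_of_isEmpty] at hn
    omega
  obtain ⟨ω₀⟩ := hne
  have hH : MulAction.stabilizer G ω₀ ≠ ⊤ := by
    intro htop
    have hall : ∀ ω : Ω, ω = ω₀ := by
      intro ω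
      obtain ⟨g, hg⟩ := MulAction.exists_smul_eq G ω₀ ω
      have : g ∈ MulAction.stabilizer G ω₀ := by rw [htop]; exact Subgroup.mem_top g
      rw [MulAction.mem_stabilizer_iff] at this
      rw [← hg, this]
    have hsub : Subsingleton Ω := ⟨fun a b => by rw [hall a, hall b]⟩
    have : Nat.card Ω ≤ 1 := Finite.card_le_one_iff_subsingleton.mpr hsub
    omega
  obtain ⟨M, hM, hHM⟩ := (eq_top_or_exists_le_coatom (MulAction.stabilizer G ω₀)).resolve_left hH
  have hQ := fxperm_coatom_bound x hp hxp hgen M hM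
  have hex : ∀ ω : Ω, ∃ g : G, g • ω₀ = ω := fun ω => MulAction.exists_smul_eq G ω₀ ω
  choose gf hgf using hex
  have hπ : ∀ (g : G) (ω : Ω), ((gf (g • ω) : G) : G ⧸ M) = g • ((gf ω : G) : G ⧸ M) := by
    intro g ω
    rw [MulAction.Quotient.smul_mk, QuotientGroup.eq]
    apply hHM
    rw [MulAction.mem_stabilizer_iff, smul_eq_mul, mul_smul, mul_smul, hgf, inv_smul_eq_iff, hgf]
  obtain ⟨s, hs1, hs2⟩ := fxperm_fiber_count (fun ω : Ω => ((gf ω : G) : G ⧸ M)) hπ x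
  calc p * Nat.card (MulAction.fixedBy Ω x)
      ≤ p * (s * Nat.card (MulAction.fixedBy (G ⧸ M) x)) := Nat.mul_le_mul_left _ hs2
    _ = s * (p * Nat.card (MulAction.fixedBy (G ⧸ M) x)) := by ring
    _ ≤ s * Nat.card (G ⧸ M) := Nat.mul_le_mul_left _ hQ
    _ = Nat.card Ω := hs1.symm

end Cfsg.Agent.Helper52.FX
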