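import Mathlib
import Cfsg.Agent.Lib.Helper52.Coprime
import Cfsg.Agent.Lib.Helper52.CoprimeSylow

/-!
# Fixed-point-free action of `S₃`: basic tools (internal form)

Everything happens inside an ambient finite group `Γ`; the acting group `S₃` is given by two
elements `a b : Γ` with `a² = 1`, `b³ = 1`, `a b a⁻¹ = b⁻¹` (degenerate cases allowed).
-/

set_option autoImplicit false

namespace Cfsg.Agent.Helper52.S3

open Subgroup
open scoped commutatorElement

variable {Γ : Type*} [Group Γ]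

/-! ### normalizers -/

theorem mem_normalizer_of_conj_mem [Finite Γ] {H : Subgroup Γ} {g : Γ}
    (h : ∀ x ∈ H, g * x * g⁻¹ ∈ H) : g ∈ normalizer (H : Set Γ) := by
  rw [mem_normalizer_iff]
  intro x
  refine ⟨h x, fun hx => ?_⟩
  let f : H → H := fun y => ⟨g * y * g⁻¹, h y y.2⟩
  have hf : Function.Injective f := by
    intro y z hyz
    have h1 : g * (y : Γ) * g⁻¹ = g * (z : Γ) * g⁻¹ := congrArg Subtype.val hyz
    apply Subtype.ext
    simpa using h1
  obtain ⟨y, hy⟩ := Finite.surjective_of_injective hf ⟨g * x * g⁻¹, hx⟩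
  have h1 : g * (y : Γ) * g⁻¹ = g * x * g⁻¹ := congrArg Subtype.val hy
  have h2 : (y : Γ) = x := by simpa using h1
  rw [← h2]; exact y.2

theorem conj_mem_of_mem_normalizer {H : Subgroup Γ} {g x : Γ}
    (hg : g ∈ normalizer (H : Set Γ)) (hx : x ∈ H) : g * x * g⁻¹ ∈ H :=
  (mem_normalizer_iff.mp hg x).mp hx

theorem conj_inv_mem_of_mem_normalizer {H : Subgroup Γ} {g x : Γ}
    (hg : g ∈ normalizer (H : Set Γ)) (hx : x ∈ H) : g⁻¹ * x * g ∈ H := by
  have := conj_mem_of_mem_normalizer (inv_mem hg) hx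
  simpa using this

/-- the subgroup `V ⊓ C(H)` is normalized by what normalizes `V` and `H`. -/
theorem mem_normalizer_fix {V H : Subgroup Γ} {g : Γ} (hgV : g ∈ normalizer (V : Set Γ))
    (hgH : g ∈ normalizer (H : Set Γ)) :
    g ∈ normalizer ((V ⊓ centralizer (H : Set Γ) : Subgroup Γ) : Set Γ) := by
  have key : ∀ g : Γ, g ∈ normalizer (V : Set Γ) → g ∈ normalizer (H : Set Γ) →
      ∀ x ∈ V ⊓ centralizer (H : Set Γ), g * x * g⁻¹ ∈ V ⊓ centralizer (H : Set Γ) := by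
    intro g hgV hgH x hx
    refine mem_inf.mpr ⟨conj_mem_of_mem_normalizer hgV hx.1, ?_⟩
    rw [mem_centralizer_iff]
    intro h hh
    have h1 : g⁻¹ * h * g ∈ H := conj_inv_mem_of_mem_normalizer hgH hh
    have h2 := (mem_centralizer_iff.mp hx.2) _ h1
    calc h * (g * x * g⁻¹) = g * ((g⁻¹ * h * g) * x) * g⁻¹ := by group
      _ = g * (x * (g⁻¹ * h * g)) * g⁻¹ := by rw [h2]
      _ = g * x * g⁻¹ * h := by group
  rw [mem_normalizer_iff]
  intro x
  refine ⟨key g hgV hgH x, fun hx => ?_⟩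
  have := key g⁻¹ (inv_mem hgV) (inv_mem hgH) _ hx
  have e : g⁻¹ * (g * x * g⁻¹) * g⁻¹⁻¹ = x := by group
  rwa [e] at this

/-! ### the relations of `S₃` -/

/-- relations of `S₃` (degenerate cases allowed) -/
structure Rel (a b : Γ) : Prop where
  a_sq : a * a = 1
  b_cube : b * b * b = 1
  rel : a * b * a⁻¹ = b⁻¹

namespace Rel

variable {a b : Γ}

theorem a_inv (h : Rel a b) : a⁻¹ = a := inv_eq_of_mul_eq_one_left h.a_sq

theorem b_inv (h : Rel a b) : b⁻¹ = b * b := inv_eq_of_mul_eq_one_left h.b_cube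

theorem a_pow (h : Rel a b) : a ^ 2 = 1 := by rw [pow_two, h.a_sq]

theorem b_pow (h : Rel a b) : b ^ 3 = 1 := by rw [pow_succ, pow_two, h.b_cube]

theorem ab (h : Rel a b) : a * b = b⁻¹ * a := by
  calc a * b = a * b * a⁻¹ * a := by group
    _ = b⁻¹ * a := by rw [h.rel]

theorem ab_inv (h : Rel a b) : a * b⁻¹ = b * a := by
  have h1 : a * b⁻¹ * a⁻¹ = b := by
    have : a * b⁻¹ * a⁻¹ = (a * b * a⁻¹)⁻¹ := by group
    rw [this, h.rel, inv_inv]
  calc a * b⁻¹ = a * b⁻¹ * a⁻¹ * a := by group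
    _ = b * a := by rw [h1]

theorem ab_sq (h : Rel a b) : (a * b) * (a * b) = 1 := by
  calc (a * b) * (a * b) = (a * b) * a * b := by group
    _ = (b⁻¹ * a) * a * b := by rw [h.ab]
    _ = b⁻¹ * (a * a) * b := by group
    _ = 1 := by rw [h.a_sq]; group

/-- the other involutions: `a * b` -/
theorem swap (h : Rel a b) : Rel (a * b) b where
  a_sq := h.ab_sq
  b_cube := h.b_cube
  rel := by
    calc a * b * b * (a * b)⁻¹ = a * b * a⁻¹ := by group
      _ = b⁻¹ := h.rel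

/-- `b a b⁻¹ = a b` -/
theorem conj_a (h : Rel a b) : b * a * b⁻¹ = a * b := by
  have h1 : b * a = a * b⁻¹ := h.ab_inv.symm
  have h2 : b⁻¹ * b⁻¹ = b := by
    have : (b * b)⁻¹ = b := inv_eq_of_mul_eq_one_right h.b_cube
    calc b⁻¹ * b⁻¹ = (b * b)⁻¹ := by group
      _ = b := this
  calc b * a * b⁻¹ = a * (b⁻¹ * b⁻¹) := by rw [h1]; group
    _ = a * b := by rw [h2]

/-- commuting with `a`, `b` is the same as commuting with `a * b`, `b`. -/
theorem commute_swap_iff (x : Γ) :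
    (a * x = x * a ∧ b * x = x * b) ↔ (a * b * x = x * (a * b) ∧ b * x = x * b) := by
  constructor
  · rintro ⟨h1, h2⟩
    refine ⟨?_, h2⟩
    calc a * b * x = a * (b * x) := by group
      _ = a * (x * b) := by rw [h2]
      _ = (a * x) * b := by group
      _ = x * a * b := by rw [h1]
      _ = x * (a * b) := by group
  · rintro ⟨h1, h2⟩
    refine ⟨?_, h2⟩
    have h3 : b⁻¹ * x = x * b⁻¹ := by
      calc b⁻¹ * x = b⁻¹ * (x * b) * b⁻¹ := by group
        _ = b⁻¹ * (b * x) * b⁻¹ := by rw [h2]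
        _ = x * b⁻¹ := by group
    calc a * x = a * b * (b⁻¹ * x) := by group
      _ = a * b * (x * b⁻¹) := by rw [h3]
      _ = (a * b * x) * b⁻¹ := by group
      _ = x * (a * b) * b⁻¹ := by rw [h1]
      _ = x * a := by group

end Rel

/-! ### the acting group `⟨a, b⟩` -/

/-- the subgroup generated by `a` and `b` -/
def A6 (a b : Γ) : Subgroup Γ := zpowers b ⊔ zpowers a

theorem mem_A6_a (a b : Γ) : a ∈ A6 a b := mem_sup_right (mem_zpowers a)

theorem mem_A6_b (a b : Γ) : b ∈ A6 a b := mem_sup_left (mem_zpowers b)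

theorem A6_le_normalizer {K : Subgroup Γ} {a b : Γ} (ha : a ∈ normalizer (K : Set Γ))
    (hb : b ∈ normalizer (K : Set Γ)) : A6 a b ≤ normalizer (K : Set Γ) :=
  sup_le ((zpowers_le).mpr hb) ((zpowers_le).mpr ha)

theorem A6_le_centralizer {x a b : Γ} (ha : a * x = x * a) (hb : b * x = x * b) :
    A6 a b ≤ centralizer ({x} : Set Γ) := by
  refine sup_le ((zpowers_le).mpr ?_) ((zpowers_le).mpr ?_)
  · rw [mem_centralizer_iff]
    intro y hy
    rw [Set.mem_singleton_iff] at hy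
    rw [hy, hb]
  · rw [mem_centralizer_iff]
    intro y hy
    rw [Set.mem_singleton_iff] at hy
    rw [hy, ha]

theorem mem_centralizer_A6 {x a b : Γ} (ha : a * x = x * a) (hb : b * x = x * b) :
    x ∈ centralizer ((A6 a b : Subgroup Γ) : Set Γ) := by
  rw [mem_centralizer_iff]
  intro y hy
  have := A6_le_centralizer ha hb hy
  rw [mem_centralizer_iff] at this
  exact (this x rfl).symm

theorem card_A6_dvd [Finite Γ] {a b : Γ} (h : Rel a b) : Nat.card (A6 a b) ∣ 6 := by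
  have hb3 : orderOf b ∣ 3 := orderOf_dvd_of_pow_eq_one h.b_pow
  have ha2 : orderOf a ∣ 2 := orderOf_dvd_of_pow_eq_one h.a_pow
  have hcop : (Nat.card (zpowers b)).Coprime (Nat.card (zpowers a)) := by
    rw [Nat.card_zpowers, Nat.card_zpowers]
    exact Nat.Coprime.coprime_dvd_left hb3 (Nat.Coprime.coprime_dvd_right ha2 (by norm_num))
  have hdisj : zpowers b ⊓ zpowers a = ⊥ := (disjoint_of_coprime_natCard hcop).eq_bot
  have hnorm : zpowers a ≤ normalizer ((zpowers b : Subgroup Γ) : Set Γ) := by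
    rw [zpowers_le]
    apply mem_normalizer_of_conj_mem
    intro x hx
    obtain ⟨k, rfl⟩ := hx
    have : a * b ^ k * a⁻¹ = (a * b * a⁻¹) ^ k := by
      rw [conj_zpow]
    rw [this, h.rel]
    exact zpow_mem (inv_mem (mem_zpowers b)) k
  have h1 := relIndex_sup_eq_card (zpowers b) (zpowers a) hnorm hdisj
  have h2 := card_mul_relIndex_eq (le_sup_left : zpowers b ≤ zpowers b ⊔ zpowers a)
  rw [h1, Nat.card_zpowers, Nat.card_zpowers] at h2
  rw [A6, ← h2]
  exact Nat.mul_dvd_mul hb3 ha2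

theorem card_A6_coprime [Finite Γ] {a b : Γ} (h : Rel a b) {n : ℕ} (hn : n.Coprime 6) :
    (Nat.card (A6 a b)).Coprime n :=
  Nat.Coprime.coprime_dvd_left (card_A6_dvd h) hn.symm

/-! ### involutions acting without fixed points -/

/-- An involution acting without nontrivial fixed points inverts. -/
theorem inverts_of_fpf [Finite Γ] (K : Subgroup Γ) (a : Γ) (ha : a * a = 1)
    (haK : a ∈ normalizer (K : Set Γ)) (hfix : ∀ k ∈ K, a * k = k * a → k = 1) :
    ∀ k ∈ K, a * k * a⁻¹ = k⁻¹ := by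
  have hainv : a⁻¹ * a⁻¹ = 1 := by
    calc a⁻¹ * a⁻¹ = (a * a)⁻¹ := by group
      _ = 1 := by rw [ha, inv_one]
  let f : K → K := fun k => ⟨(k : Γ)⁻¹ * (a * k * a⁻¹),
    K.mul_mem (K.inv_mem k.2) (conj_mem_of_mem_normalizer haK k.2)⟩
  have hf : Function.Injective f := by
    intro k l hkl
    have h1 : (k : Γ)⁻¹ * (a * k * a⁻¹) = (l : Γ)⁻¹ * (a * l * a⁻¹) := congrArg Subtype.val hkl
    have h3 : (l : Γ) * (k : Γ)⁻¹ = a * (l * (k : Γ)⁻¹) * a⁻¹ := by
      calc (l : Γ) * (k : Γ)⁻¹ = l * ((k : Γ)⁻¹ * (a * k * a⁻¹)) * (a * k * a⁻¹)⁻¹ := by group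
        _ = l * ((l : Γ)⁻¹ * (a * l * a⁻¹)) * (a * k * a⁻¹)⁻¹ := by rw [h1]
        _ = a * (l * (k : Γ)⁻¹) * a⁻¹ := by group
    have h2 : a * ((l : Γ) * (k : Γ)⁻¹) = ((l : Γ) * (k : Γ)⁻¹) * a := by
      calc a * ((l : Γ) * (k : Γ)⁻¹) = a * (l * (k : Γ)⁻¹) * a⁻¹ * a := by group
        _ = ((l : Γ) * (k : Γ)⁻¹) * a := by rw [← h3]
    have h4 := hfix _ (K.mul_mem l.2 (K.inv_mem k.2)) h2
    apply Subtype.ext
    exact (mul_inv_eq_one.mp h4).symm
  intro k hk
  obtain ⟨l, hl⟩ := Finite.surjective_of_injective hf ⟨k, hk⟩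
  have h1 : (l : Γ)⁻¹ * (a * l * a⁻¹) = k := congrArg Subtype.val hl
  rw [← h1]
  apply eq_inv_of_mul_eq_one_left
  calc a * ((l : Γ)⁻¹ * (a * l * a⁻¹)) * a⁻¹ * ((l : Γ)⁻¹ * (a * l * a⁻¹))
      = a * (l : Γ)⁻¹ * a * l * (a⁻¹ * a⁻¹) * (l : Γ)⁻¹ * a * l * a⁻¹ := by group
    _ = a * (l : Γ)⁻¹ * (a * a) * l * a⁻¹ := by rw [hainv]; group
    _ = 1 := by rw [ha]; group

/-- A subgroup inverted elementwise is commutative. -/
theorem commute_of_inverted (K : Subgroup Γ) (a : Γ)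
    (hinv : ∀ k ∈ K, a * k * a⁻¹ = k⁻¹) : ∀ x ∈ K, ∀ y ∈ K, x * y = y * x := by
  intro x hx y hy
  have h1 := hinv (x * y) (K.mul_mem hx hy)
  have h2 : a * (x * y) * a⁻¹ = (a * x * a⁻¹) * (a * y * a⁻¹) := by group
  rw [h2, hinv x hx, hinv y hy] at h1
  -- x⁻¹ y⁻¹ = (x y)⁻¹ = y⁻¹ x⁻¹
  have h3 : y * x = x * y := by
    calc y * x = (x⁻¹ * y⁻¹)⁻¹ := by group
      _ = ((x * y)⁻¹)⁻¹ := by rw [h1]
      _ = x * y := by group
  exact h3.symm

/-- If `a` inverts `x` and `y` as well as `x y x⁻¹`... : conjugation compatibility.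
If `a` inverts `u` and `d u d⁻¹` and `d`, then `d * d` commutes with `u`. -/
theorem sq_commute_of_inverted {a d u : Γ} (hd : a * d * a⁻¹ = d⁻¹) (hu : a * u * a⁻¹ = u⁻¹)
    (hdu : a * (d * u * d⁻¹) * a⁻¹ = (d * u * d⁻¹)⁻¹) : (d * d) * u = u * (d * d) := by
  have h1 : a * (d * u * d⁻¹) * a⁻¹ = (a * d * a⁻¹) * (a * u * a⁻¹) * (a * d * a⁻¹)⁻¹ := by group
  rw [h1, hd, hu] at hdu
  -- d⁻¹ u⁻¹ d = d u⁻¹ d⁻¹
  have h2 : d⁻¹ * u⁻¹ * d⁻¹⁻¹ = d * u⁻¹ * d⁻¹ := by
    rw [hdu]; group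
  have h3 : u⁻¹ * (d * d) = (d * d) * u⁻¹ := by
    calc u⁻¹ * (d * d) = d * (d⁻¹ * u⁻¹ * d⁻¹⁻¹) * d := by group
      _ = d * (d * u⁻¹ * d⁻¹) * d := by rw [h2]
      _ = (d * d) * u⁻¹ := by group
  calc (d * d) * u = u * (u⁻¹ * (d * d)) * u := by group
    _ = u * ((d * d) * u⁻¹) * u := by rw [h3]
    _ = u * (d * d) := by group

/-- In a finite group of odd order, an element whose square commutes with `u` commutes with `u`. -/
theorem commute_of_sq_commute [Finite Γ] {d u : Γ} (hodd : Odd (orderOf d))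
    (h : (d * d) * u = u * (d * d)) : d * u = u * d := by
  obtain ⟨k, hk⟩ := hodd
  have h1 : d = (d * d) ^ (k + 1) := by
    have : (d * d) ^ (k + 1) = d ^ (orderOf d) * d := by
      rw [hk, ← pow_two, ← pow_mul, ← pow_succ]
      congr 1
    rw [this, pow_orderOf_eq_one, one_mul]
  have h2 : Commute (d * d) u := h
  have h3 : Commute ((d * d) ^ (k + 1)) u := h2.pow_left (k + 1)
  rw [← h1] at h3
  exact h3

end Cfsg.Agent.Helper52.S3
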