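import Mathlib
import Cfsg.Agent.Lib.Helper52.FpfS3Basic
import Cfsg.Agent.Lib.Helper52.Hyperplane
import Cfsg.Agent.Lib.Helper48.SympRep2Group

/-!
# Fixed-point-free action of `S₃`: maximal subgroups of an abelian normal subgroup

`V` is an abelian normal subgroup of the finite group `Γ`, `Y` an abelian subgroup acting on `V`
with `C_V(Y) = 1`.  For maximal subgroups `H` of `Y` the subgroups `C_V(H)` are independent
(`exists_proj`) and generate `V`.
-/

set_option autoImplicit false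

namespace Cfsg.Agent.Helper52.S3

open Subgroup
open scoped commutatorElement

variable {Γ : Type*} [Group Γ]

/-- `H` is a maximal subgroup of `Y`. -/
def IsMax (H Y : Subgroup Γ) : Prop :=
  H ≤ Y ∧ H ≠ Y ∧ ∀ K : Subgroup Γ, H ≤ K → K ≤ Y → K = H ∨ K = Y

theorem IsMax.le {H Y : Subgroup Γ} (h : IsMax H Y) : H ≤ Y := h.1

theorem IsMax.ne {H Y : Subgroup Γ} (h : IsMax H Y) : H ≠ Y := h.2.1

theorem IsMax.eq_of_lt {H Y K : Subgroup Γ} (h : IsMax H Y) (h1 : H ≤ K) (h2 : K ≤ Y)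
    (h3 : ¬ K ≤ H) : K = Y := by
  rcases h.2.2 K h1 h2 with h4 | h4
  · exact absurd h4.le h3
  · exact h4

theorem IsMax.sup_eq {H H' Y : Subgroup Γ} (h : IsMax H Y) (h' : IsMax H' Y) (hne : H ≠ H') :
    H ⊔ H' = Y := by
  apply h.eq_of_lt le_sup_left (sup_le h.le h'.le)
  intro hle
  have h1 : H' ≤ H := le_trans le_sup_right hle
  rcases h'.2.2 H h1 h.le with h2 | h2
  · exact hne h2
  · exact h.ne h2

/-- conjugates of maximal subgroups are maximal -/
theorem IsMax.conj {H Y : Subgroup Γ} (h : IsMax H Y) {g : Γ} (hg : g ∈ normalizer (Y : Set Γ)) :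
    IsMax (H.map (MulAut.conj g).toMonoidHom) Y := by
  have hY : Y.map (MulAut.conj g).toMonoidHom = Y := map_conj_eq_of_mem_normalizer hg
  have hinj : Function.Injective (MulAut.conj g).toMonoidHom := (MulAut.conj g).injective
  refine ⟨?_, ?_, ?_⟩
  · rw [← hY]; exact map_mono h.le
  · intro hcon
    rw [← hY] at hcon
    exact h.ne (map_injective hinj hcon)
  · intro K hK1 hK2
    have h1 : H ≤ K.comap (MulAut.conj g).toMonoidHom := by
      rw [← map_le_iff_le_comap]; exact hK1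
    have h2 : K.comap (MulAut.conj g).toMonoidHom ≤ Y := by
      intro x hx
      have h3 : (MulAut.conj g).toMonoidHom x ∈ Y := hK2 hx
      have h4 : g * x * g⁻¹ ∈ Y := by simpa using h3
      have := conj_inv_mem_of_mem_normalizer hg h4
      have e : g⁻¹ * (g * x * g⁻¹) * g = x := by group
      rwa [e] at this
    have hsurj : Function.Surjective (MulAut.conj g).toMonoidHom := (MulAut.conj g).surjective
    rcases h.2.2 _ h1 h2 with h3 | h3
    · left
      rw [← h3, map_comap_eq_self_of_surjective hsurj]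
    · right
      rw [← hY, ← h3, map_comap_eq_self_of_surjective hsurj]

/-- a subgroup of index at most `t` in a nontrivial elementary abelian `t`-group is maximal -/
theorem isMax_of_relIndex_le [Finite Γ] {t : ℕ} [ht : Fact t.Prime] {H Y : Subgroup Γ}
    (hYt : ∀ y ∈ Y, y ^ t = 1) (hHY : H ≤ Y) (hne : H ≠ Y) (hidx : H.relIndex Y ≤ t) :
    IsMax H Y := by
  refine ⟨hHY, hne, ?_⟩
  intro K hHK hKY
  by_contra hcon
  push Not at hcon
  obtain ⟨hKH, hKY'⟩ := hcon
  have hYp : IsPGroup t Y := by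
    intro y
    refine ⟨1, ?_⟩
    apply Subtype.ext
    rw [pow_one, Subgroup.coe_pow, hYt y y.2]
    rfl
  obtain ⟨n, hn⟩ := IsPGroup.iff_card.mp hYp
  have h1 : H.relIndex K * K.relIndex Y = H.relIndex Y := relIndex_mul_relIndex H K Y hHK hKY
  have hpow : ∀ A B : Subgroup Γ, B ≤ Y → A.relIndex B ≠ 1 → t ≤ A.relIndex B := by
    intro A B hB hA
    have h2 : A.relIndex B ∣ Nat.card B := relIndex_dvd_card A B
    have h3 : Nat.card B ∣ Nat.card Y := card_dvd_of_le hB
    have h4 : A.relIndex B ∣ t ^ n := hn ▸ (h2.trans h3)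
    obtain ⟨m, -, hm⟩ := (Nat.dvd_prime_pow ht.out).mp h4
    rw [hm] at hA ⊢
    rcases m with _ | m
    · simp at hA
    · calc t = t ^ 1 := (pow_one t).symm
        _ ≤ t ^ (m + 1) := Nat.pow_le_pow_right ht.out.pos (by omega)
  have h5 : t ≤ H.relIndex K := by
    apply hpow H K hKY
    intro h6
    rw [relIndex_eq_one] at h6
    exact hKH (le_antisymm h6 hHK)
  have h6 : t ≤ K.relIndex Y := by
    apply hpow K Y le_rfl
    intro h7
    rw [relIndex_eq_one] at h7
    exact hKY' (le_antisymm hKY h7)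
  have h7 : t * t ≤ H.relIndex Y := h1 ▸ Nat.mul_le_mul h5 h6
  have h8 : 2 ≤ t := ht.out.two_le
  nlinarith

/-- elements of `V` commuting with `H` and `H'` commute with `H ⊔ H'` -/
theorem commute_sup {H H' : Subgroup Γ} {v : Γ} (h1 : ∀ h ∈ H, h * v = v * h)
    (h2 : ∀ h ∈ H', h * v = v * h) : ∀ h ∈ H ⊔ H', h * v = v * h := by
  have hle : H ⊔ H' ≤ centralizer ({v} : Set Γ) := by
    refine sup_le ?_ ?_
    · intro h hh
      rw [mem_centralizer_iff]
      intro y hy
      rw [Set.mem_singleton_iff] at hy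
      rw [hy, h1 h hh]
    · intro h hh
      rw [mem_centralizer_iff]
      intro y hy
      rw [Set.mem_singleton_iff] at hy
      rw [hy, h2 h hh]
  intro h hh
  have := hle hh
  rw [mem_centralizer_iff] at this
  exact (this v rfl).symm

/-- **Independence of the fixed-point subgroups of maximal subgroups.** There is a homomorphism
`π : V → V` which is the `|H|`-th power map on `C_V(H)` and trivial on `C_V(H')` for `H'` with
`H ⊔ H' = Y`. -/
theorem exists_proj [Finite Γ] (V Y H : Subgroup Γ) [hVn : V.Normal]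
    (hVc : ∀ x ∈ V, ∀ y ∈ V, x * y = y * x) (hYc : ∀ x ∈ Y, ∀ y ∈ Y, x * y = y * x)
    (hHY : H ≤ Y) (hVY : V ⊓ centralizer (Y : Set Γ) = ⊥) :
    ∃ π : Γ → Γ, (∀ v ∈ V, π v ∈ V) ∧ (∀ v ∈ V, ∀ w ∈ V, π (v * w) = π v * π w) ∧
      (∀ v ∈ V, (∀ h ∈ H, h * v = v * h) → π v = v ^ Nat.card H) ∧
      (∀ H' : Subgroup Γ, H' ≤ Y → H ⊔ H' = Y → ∀ v ∈ V, (∀ h ∈ H', h * v = v * h) →
        π v = 1) := by
  classical
  let _ : CommGroup V :=
    { (inferInstance : Group V) with
      mul_comm := fun x y => Subtype.ext (hVc x x.2 y y.2) }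
  let _ : Fintype H := Fintype.ofFinite H
  let nrm : V → V := fun v => ∏ h : H, MulAut.conjNormal (h : Γ) v
  have hval : ∀ (g : Γ) (v : V), ((MulAut.conjNormal g v : V) : Γ) = g * v * g⁻¹ :=
    fun g v => MulAut.conjNormal_apply g v
  have hnrm_mul : ∀ v w, nrm (v * w) = nrm v * nrm w := by
    intro v w
    simp only [nrm, map_mul]
    exact Finset.prod_mul_distrib
  have hnrm_conj : ∀ g : Γ, (∀ h ∈ H, g * h = h * g) → ∀ v : V,
      MulAut.conjNormal g (nrm v) = nrm (MulAut.conjNormal g v) := by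
    intro g hg v
    simp only [nrm, map_prod]
    apply Finset.prod_congr rfl
    intro h _
    rw [← MulAut.mul_apply, ← MulAut.mul_apply, ← map_mul, ← map_mul, hg h h.2]
  have hnrm_fix : ∀ (h0 : H) (v : V), MulAut.conjNormal (h0 : Γ) (nrm v) = nrm v := by
    intro h0 v
    simp only [nrm, map_prod]
    have h1 : ∀ h : H, MulAut.conjNormal (h0 : Γ) (MulAut.conjNormal (h : Γ) v) =
        MulAut.conjNormal (((h0 * h : H)) : Γ) v := by
      intro h
      rw [← MulAut.mul_apply, ← map_mul]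
      rfl
    simp_rw [h1]
    exact Fintype.prod_equiv (Equiv.mulLeft h0) _ _ (fun h => rfl)
  refine ⟨fun x => if hx : x ∈ V then (nrm ⟨x, hx⟩ : Γ) else 1, ?_, ?_, ?_, ?_⟩
  · intro v hv
    simp only [hv, dif_pos]
    exact (nrm ⟨v, hv⟩).2
  · intro v hv w hw
    simp only [hv, hw, V.mul_mem hv hw, dif_pos]
    have := hnrm_mul ⟨v, hv⟩ ⟨w, hw⟩
    have h2 := congrArg Subtype.val this
    exact h2
  · intro v hv hfix
    simp only [hv, dif_pos]
    have h1 : ∀ h : H, MulAut.conjNormal (h : Γ) (⟨v, hv⟩ : V) = ⟨v, hv⟩ := by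
      intro h
      apply Subtype.ext
      rw [hval]
      show (h : Γ) * v * (h : Γ)⁻¹ = v
      rw [hfix h h.2, mul_inv_cancel_right]
    have h2 : nrm ⟨v, hv⟩ = (⟨v, hv⟩ : V) ^ Nat.card H := by
      simp only [nrm, h1, Finset.prod_const, Finset.card_univ, Nat.card_eq_fintype_card]
    rw [h2, Subgroup.coe_pow]
  · intro H' hH'Y hsup v hv hfix
    simp only [hv, dif_pos]
    -- `nrm v` is fixed by `H` and `H'`
    have h1 : ∀ h ∈ H, h * ((nrm ⟨v, hv⟩ : V) : Γ) = ((nrm ⟨v, hv⟩ : V) : Γ) * h := by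
      intro h hh
      have h2 := congrArg Subtype.val (hnrm_fix ⟨h, hh⟩ ⟨v, hv⟩)
      rw [hval] at h2
      calc h * ((nrm ⟨v, hv⟩ : V) : Γ) = h * ((nrm ⟨v, hv⟩ : V) : Γ) * h⁻¹ * h := by group
        _ = ((nrm ⟨v, hv⟩ : V) : Γ) * h := by rw [h2]
    have h2 : ∀ h ∈ H', h * ((nrm ⟨v, hv⟩ : V) : Γ) = ((nrm ⟨v, hv⟩ : V) : Γ) * h := by
      intro h hh
      have hcomm : ∀ k ∈ H, h * k = k * h := fun k hk => hYc h (hH'Y hh) k (hHY hk)
      have h3 := hnrm_conj h hcomm ⟨v, hv⟩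
      have h4 : MulAut.conjNormal h (⟨v, hv⟩ : V) = ⟨v, hv⟩ := by
        apply Subtype.ext
        rw [hval]
        show h * v * h⁻¹ = v
        rw [hfix h hh, mul_inv_cancel_right]
      rw [h4] at h3
      have h5 := congrArg Subtype.val h3
      rw [hval] at h5
      calc h * ((nrm ⟨v, hv⟩ : V) : Γ) = h * ((nrm ⟨v, hv⟩ : V) : Γ) * h⁻¹ * h := by group
        _ = ((nrm ⟨v, hv⟩ : V) : Γ) * h := by rw [h5]
    have h3 := commute_sup h1 h2
    rw [hsup] at h3
    have h4 : ((nrm ⟨v, hv⟩ : V) : Γ) ∈ V ⊓ centralizer (Y : Set Γ) := by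
      refine mem_inf.mpr ⟨(nrm ⟨v, hv⟩).2, ?_⟩
      rw [mem_centralizer_iff]
      intro y hy
      exact h3 y hy
    rw [hVY, mem_bot] at h4
    exact h4

/-- `x ∈ C(zpowers b)` iff `x` commutes with `b` -/
theorem mem_centralizer_zpowers_iff {x b : Γ} :
    x ∈ centralizer ((zpowers b : Subgroup Γ) : Set Γ) ↔ b * x = x * b := by
  constructor
  · intro h
    exact (mem_centralizer_iff.mp h) b (mem_zpowers b)
  · intro h
    rw [mem_centralizer_iff]
    intro y hy
    obtain ⟨k, rfl⟩ := hy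
    have : Commute b x := h
    exact (this.zpow_left k)

/-- **Generation.** If `V ≰ K` but `C_V(Y) ≤ K`, some maximal subgroup `H` of `Y` has
`C_V(H) ≰ K`. -/
theorem exists_isMax_fix_not_le [Finite Γ] {t : ℕ} [ht : Fact t.Prime] (V Y K : Subgroup Γ)
    [hVn : V.Normal] (hYc : ∀ x ∈ Y, ∀ y ∈ Y, x * y = y * x) (hYt : ∀ y ∈ Y, y ^ t = 1)
    (hcop : (Nat.card V).Coprime t) (hVY : V ⊓ centralizer (Y : Set Γ) ≤ K) (hVK : ¬ V ≤ K) :
    ∃ H : Subgroup Γ, IsMax H Y ∧ ¬ (V ⊓ centralizer (H : Set Γ) ≤ K) := by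
  have hYV : Y ≤ normalizer (V : Set Γ) := by
    rw [normalizer_eq_top_iff.mpr hVn]; exact le_top
  obtain ⟨B, hBY, hidx, hB⟩ :=
    exists_hyperplane_centralizer_not_le (p := t) Y V K hYc hYt hYV hcop hVK
  have hne : B ≠ Y := by
    rintro rfl
    exact hB hVY
  exact ⟨B, isMax_of_relIndex_le hYt hBY hne hidx, hB⟩

/-- For `H` maximal in `Y` with `C_V(H) ≠ 1 = C_V(Y)`: `C_Y(C_V(H)) = H`. -/
theorem mem_of_centralizes_fix {V Y H : Subgroup Γ} (hH : IsMax H Y)
    (hVY : V ⊓ centralizer (Y : Set Γ) = ⊥) (hVH : V ⊓ centralizer (H : Set Γ) ≠ ⊥)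
    {y : Γ} (hy : y ∈ Y) (hcent : ∀ v ∈ V ⊓ centralizer (H : Set Γ), y * v = v * y) : y ∈ H := by
  by_contra hyH
  have hK : H ⊔ zpowers y = Y := by
    apply hH.eq_of_lt le_sup_left (sup_le hH.le ((zpowers_le).mpr hy))
    intro hle
    exact hyH (hle (mem_sup_right (mem_zpowers y)))
  apply hVH
  rw [eq_bot_iff, ← hVY]
  intro v hv
  refine mem_inf.mpr ⟨(mem_inf.mp hv).1, ?_⟩
  rw [mem_centralizer_iff]
  intro z hz
  rw [← hK] at hz
  have h1 : ∀ h ∈ H, h * v = v * h := fun h hh => (mem_centralizer_iff.mp (mem_inf.mp hv).2) h hh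
  have h2 : ∀ h ∈ zpowers y, h * v = v * h := by
    intro h hh
    obtain ⟨k, rfl⟩ := hh
    have : Commute y v := hcent v hv
    exact this.zpow_left k
  exact commute_sup h1 h2 z hz

/-- an element of `Y` lying in every maximal subgroup `H` with `C_V(H) ≠ 1` centralizes `V`. -/
theorem centralizes_of_mem_all [Finite Γ] {t : ℕ} [ht : Fact t.Prime] (V Y : Subgroup Γ)
    [hVn : V.Normal] (hYc : ∀ x ∈ Y, ∀ y ∈ Y, x * y = y * x) (hYt : ∀ y ∈ Y, y ^ t = 1)
    (hcop : (Nat.card V).Coprime t) (hVY : V ⊓ centralizer (Y : Set Γ) = ⊥) {x : Γ}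
    (hx : ∀ H : Subgroup Γ, IsMax H Y → V ⊓ centralizer (H : Set Γ) ≠ ⊥ → x ∈ H) :
    ∀ v ∈ V, x * v = v * x := by
  set K : Subgroup Γ := V ⊓ centralizer ((zpowers x : Subgroup Γ) : Set Γ) with hK
  by_cases hVK : V ≤ K
  · intro v hv
    have := (mem_inf.mp (hVK hv)).2
    exact mem_centralizer_zpowers_iff.mp this
  · exfalso
    obtain ⟨H, hH, hHK⟩ := exists_isMax_fix_not_le V Y K hYc hYt hcop (by rw [hVY]; exact bot_le) hVK
    have hne : V ⊓ centralizer (H : Set Γ) ≠ ⊥ := by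
      intro hcon
      rw [hcon] at hHK
      exact hHK bot_le
    have hxH := hx H hH hne
    apply hHK
    intro v hv
    refine mem_inf.mpr ⟨(mem_inf.mp hv).1, ?_⟩
    rw [mem_centralizer_zpowers_iff]
    exact (mem_centralizer_iff.mp (mem_inf.mp hv).2) x hxH

/-! ### the kernel of the action on `Y / H` -/

/-- the elements normalizing `Y` and acting trivially on `Y / H` -/
def actKer (Y H : Subgroup Γ) : Subgroup Γ where
  carrier := {g | g ∈ normalizer (Y : Set Γ) ∧ ∀ y ∈ Y, g * y * g⁻¹ * y⁻¹ ∈ H}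
  one_mem' := by
    refine ⟨one_mem _, ?_⟩
    intro y _
    have : (1 : Γ) * y * 1⁻¹ * y⁻¹ = 1 := by group
    rw [this]; exact one_mem H
  mul_mem' := by
    rintro g g' ⟨hg, hgH⟩ ⟨hg', hg'H⟩
    refine ⟨mul_mem hg hg', ?_⟩
    intro y hy
    have hy' : g' * y * g'⁻¹ ∈ Y := conj_mem_of_mem_normalizer hg' hy
    have e : g * g' * y * (g * g')⁻¹ * y⁻¹ =
        (g * (g' * y * g'⁻¹) * g⁻¹ * (g' * y * g'⁻¹)⁻¹) * (g' * y * g'⁻¹ * y⁻¹) := by group
    rw [e]
    exact H.mul_mem (hgH _ hy') (hg'H y hy)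
  inv_mem' := by
    rintro g ⟨hg, hgH⟩
    refine ⟨inv_mem hg, ?_⟩
    intro y hy
    have hy' : g⁻¹ * y * g ∈ Y := conj_inv_mem_of_mem_normalizer hg hy
    have h1 := hgH _ hy'
    have e : g⁻¹ * y * g⁻¹⁻¹ * y⁻¹ = (g * (g⁻¹ * y * g) * g⁻¹ * (g⁻¹ * y * g)⁻¹)⁻¹ := by group
    rw [e]
    exact H.inv_mem h1

theorem mem_actKer {Y H : Subgroup Γ} {g : Γ} :
    g ∈ actKer Y H ↔ g ∈ normalizer (Y : Set Γ) ∧ ∀ y ∈ Y, g * y * g⁻¹ * y⁻¹ ∈ H := Iff.rfl

/-- elements of the kernel normalize `H` (if `H ≤ Y`) -/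
theorem actKer_le_normalizer [Finite Γ] {Y H : Subgroup Γ} (hHY : H ≤ Y) :
    actKer Y H ≤ normalizer (H : Set Γ) := by
  intro g hg
  apply mem_normalizer_of_conj_mem
  intro x hx
  have h1 := hg.2 x (hHY hx)
  have e : g * x * g⁻¹ = (g * x * g⁻¹ * x⁻¹) * x := by group
  rw [e]
  exact H.mul_mem h1 hx

/-- the kernel is normalized by `N(Y) ∩ N(H)` -/
theorem conj_mem_actKer {Y H : Subgroup Γ} {l g : Γ} (hlY : l ∈ normalizer (Y : Set Γ))
    (hlH : l ∈ normalizer (H : Set Γ)) (hg : g ∈ actKer Y H) : l * g * l⁻¹ ∈ actKer Y H := by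
  refine ⟨mul_mem (mul_mem hlY hg.1) (inv_mem hlY), ?_⟩
  intro y hy
  have hy' : l⁻¹ * y * l ∈ Y := conj_inv_mem_of_mem_normalizer hlY hy
  have h1 := hg.2 _ hy'
  have h2 := conj_mem_of_mem_normalizer hlH h1
  have e : l * g * l⁻¹ * y * (l * g * l⁻¹)⁻¹ * y⁻¹ =
      l * (g * (l⁻¹ * y * l) * g⁻¹ * (l⁻¹ * y * l)⁻¹) * l⁻¹ := by group
  rw [e]
  exact h2

/-- **Dichotomy.** An element normalizing `Y` and the maximal subgroup `H` either acts trivially
on `Y / H` or has all its fixed points on `Y` in `H`. -/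
theorem actKer_or_fix_le {Y H : Subgroup Γ} (hYc : ∀ x ∈ Y, ∀ y ∈ Y, x * y = y * x)
    (hH : IsMax H Y) {g : Γ} (hgY : g ∈ normalizer (Y : Set Γ))
    (hgH : g ∈ normalizer (H : Set Γ)) :
    g ∈ actKer Y H ∨ ∀ y ∈ Y, g * y = y * g → y ∈ H := by
  by_cases hfix : ∀ y ∈ Y, g * y = y * g → y ∈ H
  · exact Or.inr hfix
  · left
    push Not at hfix
    obtain ⟨c, hcY, hgc, hcH⟩ := hfix
    refine ⟨hgY, ?_⟩
    let P : Subgroup Γ :=
      { carrier := {y | y ∈ Y ∧ g * y * g⁻¹ * y⁻¹ ∈ H}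
        one_mem' := by
          refine ⟨one_mem Y, ?_⟩
          have : g * 1 * g⁻¹ * (1 : Γ)⁻¹ = 1 := by group
          rw [this]; exact one_mem H
        mul_mem' := by
          rintro y z ⟨hy, hyH⟩ ⟨hz, hzH⟩
          refine ⟨Y.mul_mem hy hz, ?_⟩
          have hgz : g * z * g⁻¹ ∈ Y := conj_mem_of_mem_normalizer hgY hz
          have h1 : (g * z * g⁻¹ * z⁻¹) * y⁻¹ = y⁻¹ * (g * z * g⁻¹ * z⁻¹) :=
            hYc _ (Y.mul_mem hgz (Y.inv_mem hz)) _ (Y.inv_mem hy)
          have e : g * (y * z) * g⁻¹ * (y * z)⁻¹ =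
              (g * y * g⁻¹) * ((g * z * g⁻¹ * z⁻¹) * y⁻¹) := by group
          rw [e, h1]
          have e2 : (g * y * g⁻¹) * (y⁻¹ * (g * z * g⁻¹ * z⁻¹)) =
              (g * y * g⁻¹ * y⁻¹) * (g * z * g⁻¹ * z⁻¹) := by group
          rw [e2]
          exact H.mul_mem hyH hzH
        inv_mem' := by
          rintro y ⟨hy, hyH⟩
          refine ⟨Y.inv_mem hy, ?_⟩
          have hgy : g * y * g⁻¹ ∈ Y := conj_mem_of_mem_normalizer hgY hy
          have h1 : (g * y * g⁻¹)⁻¹ * y = y * (g * y * g⁻¹)⁻¹ := hYc _ (Y.inv_mem hgy) _ hy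
          have e : g * y⁻¹ * g⁻¹ * y⁻¹⁻¹ = (g * y * g⁻¹)⁻¹ * y := by group
          rw [e, h1]
          have e2 : y * (g * y * g⁻¹)⁻¹ = (g * y * g⁻¹ * y⁻¹)⁻¹ := by group
          rw [e2]
          exact H.inv_mem hyH }
    have hHP : H ≤ P := by
      intro h hh
      refine ⟨hH.le hh, ?_⟩
      exact H.mul_mem (conj_mem_of_mem_normalizer hgH hh) (H.inv_mem hh)
    have hPY : P ≤ Y := fun y hy => hy.1
    have hcP : c ∈ P := by
      refine ⟨hcY, ?_⟩
      have : g * c * g⁻¹ * c⁻¹ = 1 := by rw [hgc]; group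
      rw [this]; exact one_mem H
    have hPeq : P = Y := hH.eq_of_lt hHP hPY (fun hle => hcH (hle hcP))
    intro y hy
    rw [← hPeq] at hy
    exact hy.2

/-- commuting with all of `H` implies normalizing `H` -/
theorem mem_normalizer_of_commute {H : Subgroup Γ} {g : Γ} (h : ∀ x ∈ H, g * x = x * g) :
    g ∈ normalizer (H : Set Γ) := by
  rw [mem_normalizer_iff]
  intro x
  constructor
  · intro hx
    rw [h x hx, mul_inv_cancel_right]; exact hx
  · intro hx
    have h1 := h _ hx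
    have h2 : x = g * x * g⁻¹ := by
      calc x = g⁻¹ * ((g * x * g⁻¹) * g) := by group
        _ = g⁻¹ * (g * (g * x * g⁻¹)) := by rw [h1]
        _ = g * x * g⁻¹ := by group
    rw [h2]; exact hx

theorem eq_one_of_pow_coprime {w : Γ} {m n : ℕ} (hm : w ^ m = 1) (hn : w ^ n = 1)
    (hmn : m.Coprime n) : w = 1 := by
  have h1 : orderOf w ∣ m := orderOf_dvd_of_pow_eq_one hm
  have h2 : orderOf w ∣ n := orderOf_dvd_of_pow_eq_one hn
  have h3 : orderOf w ∣ Nat.gcd m n := Nat.dvd_gcd h1 h2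
  rw [hmn.gcd_eq_one, Nat.dvd_one] at h3
  exact orderOf_eq_one_iff.mp h3

theorem isPGroup_of_exponent {t : ℕ} {Y : Subgroup Γ} (hYt : ∀ y ∈ Y, y ^ t = 1) :
    IsPGroup t Y := by
  intro y
  refine ⟨1, ?_⟩
  apply Subtype.ext
  rw [pow_one, Subgroup.coe_pow, hYt y y.2]
  rfl

/-- **Frobenius-type lemma** (from `frob_group`): an element of prime order normalizing `Y` and
the maximal subgroup `H`, without fixed points on `C_V(H) ≠ 1`, acts trivially on `Y / H`. -/
theorem mem_actKer_of_fix_eq_bot [Finite Γ] {r t q : ℕ} [hr : Fact r.Prime] (ht : t.Prime)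
    (hq : q.Prime) (hrt : r ≠ t) (V Y H : Subgroup Γ) [hVn : V.Normal]
    (hVc : ∀ x ∈ V, ∀ y ∈ V, x * y = y * x) (hVr : ∀ v ∈ V, v ^ r = 1)
    (hYc : ∀ x ∈ Y, ∀ y ∈ Y, x * y = y * x) (hYt : ∀ y ∈ Y, y ^ t = 1)
    (hH : IsMax H Y) (hVY : V ⊓ centralizer (Y : Set Γ) = ⊥)
    (hVH : V ⊓ centralizer (H : Set Γ) ≠ ⊥) {g : Γ} (hgq : g ^ q = 1)
    (hgY : g ∈ normalizer (Y : Set Γ)) (hgH : g ∈ normalizer (H : Set Γ))
    (hfix : ∀ v ∈ V ⊓ centralizer (H : Set Γ), g * v = v * g → v = 1) : g ∈ actKer Y H := by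
  set W : Subgroup Γ := V ⊓ centralizer (H : Set Γ) with hW
  have hVtop : normalizer (V : Set Γ) = ⊤ := normalizer_eq_top_iff.mpr hVn
  have hWel : Cfsg.IsElementaryAbelian r W := by
    refine ⟨⟨⟨fun x y => Subtype.ext (hVc x (mem_inf.mp x.2).1 y (mem_inf.mp y.2).1)⟩⟩, ?_⟩
    intro w hw
    exact hVr w (mem_inf.mp hw).1
  have hYW : Y ≤ normalizer (W : Set Γ) := by
    intro y hy
    apply mem_normalizer_fix (by rw [hVtop]; exact mem_top y)
    apply mem_normalizer_of_commute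
    intro x hx
    exact hYc y hy x (hH.le hx)
  have hgW : g ∈ normalizer (W : Set Γ) :=
    mem_normalizer_fix (by rw [hVtop]; exact mem_top g) hgH
  have hfix' : W ⊓ centralizer ({g} : Set Γ) = ⊥ := by
    rw [eq_bot_iff]
    intro v hv
    rw [mem_bot]
    apply hfix v (mem_inf.mp hv).1
    exact (mem_centralizer_iff.mp (mem_inf.mp hv).2) g rfl
  have key := Cfsg.Agent.Helper48.SympRep.frob_group (p := r) (q := t) (r := q) ht hq hrt W Y g
    hWel hYW hgW (isPGroup_of_exponent hYt) hgq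
    (fun u hu => conj_mem_of_mem_normalizer hgY hu) hYc hfix'
  refine ⟨hgY, ?_⟩
  intro y hy
  have h1 := key y hy
  have h2 : y * g * y⁻¹ * g⁻¹ ∈ Y := by
    have h3 : g * y⁻¹ * g⁻¹ ∈ Y := conj_mem_of_mem_normalizer hgY (Y.inv_mem hy)
    have e : y * g * y⁻¹ * g⁻¹ = y * (g * y⁻¹ * g⁻¹) := by group
    rw [e]; exact Y.mul_mem hy h3
  have h3 : y * g * y⁻¹ * g⁻¹ ∈ H := by
    apply mem_of_centralizes_fix hH hVY hVH h2
    intro v hv
    exact ((mem_centralizer_iff.mp h1) v hv).symm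
  have e : g * y * g⁻¹ * y⁻¹ = (y * g * y⁻¹ * g⁻¹)⁻¹ := by group
  rw [e]
  exact H.inv_mem h3

theorem a_mem_normalizer_zpowers [Finite Γ] {a b : Γ} (h : Rel a b) :
    a ∈ normalizer ((zpowers b : Subgroup Γ) : Set Γ) := by
  apply mem_normalizer_of_conj_mem
  intro x hx
  obtain ⟨k, rfl⟩ := hx
  have : a * b ^ k * a⁻¹ = (a * b * a⁻¹) ^ k := by
    rw [conj_zpow]
  rw [this, h.rel]
  exact zpow_mem (inv_mem (mem_zpowers b)) k

/-- **Main claim on maximal subgroups.** If `C_V(A) = 1` and `H` is a maximal subgroup of the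
`A`-invariant elementary abelian `t`-group `Y` with `C_V(H) ≠ 1 = C_V(Y)`, then some element of
prime order of `A = ⟨a, b⟩` acts trivially on `Y / H`. -/
theorem claim [Finite Γ] {r t : ℕ} [hr : Fact r.Prime] (ht : t.Prime) (hrt : r ≠ t)
    (hr6 : r.Coprime 6) (V Y H : Subgroup Γ) [hVn : V.Normal]
    (hVc : ∀ x ∈ V, ∀ y ∈ V, x * y = y * x) (hVr : ∀ v ∈ V, v ^ r = 1)
    (hYc : ∀ x ∈ Y, ∀ y ∈ Y, x * y = y * x) (hYt : ∀ y ∈ Y, y ^ t = 1)
    {a b : Γ} (hrel : Rel a b) (haY : a ∈ normalizer (Y : Set Γ))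
    (hbY : b ∈ normalizer (Y : Set Γ))
    (hfix : ∀ v ∈ V, a * v = v * a → b * v = v * b → v = 1)
    (hVY : V ⊓ centralizer (Y : Set Γ) = ⊥) (hH : IsMax H Y)
    (hVH : V ⊓ centralizer (H : Set Γ) ≠ ⊥) :
    b ∈ actKer Y H ∨ a ∈ actKer Y H ∨ a * b ∈ actKer Y H ∨ a * b * b ∈ actKer Y H := by
  by_contra hcon
  push Not at hcon
  obtain ⟨hnb, hna, hnab, hnabb⟩ := hcon
  set W : Subgroup Γ := V ⊓ centralizer (H : Set Γ) with hW
  set n : ℕ := Nat.card H with hn
  have hVtop : ∀ g : Γ, g ∈ normalizer (V : Set Γ) := fun g => by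
    rw [normalizer_eq_top_iff.mpr hVn]; exact mem_top g
  have hconjV : ∀ (g : Γ) {v : Γ}, v ∈ V → g * v * g⁻¹ ∈ V := fun g v hv => hVn.conj_mem v hv g
  have hnr : n.Coprime r := by
    have : Fact t.Prime := ⟨ht⟩
    have hHp : IsPGroup t H := isPGroup_of_exponent (fun y hy => hYt y (hH.le hy))
    obtain ⟨m, hm⟩ := IsPGroup.iff_card.mp hHp
    rw [hn, hm]
    apply Nat.Coprime.pow_left
    exact (Nat.coprime_primes ht hr.out).mpr (Ne.symm hrt)
  have h2r : Nat.Coprime 2 r := (Nat.Coprime.coprime_dvd_right (by norm_num : 2 ∣ 6) hr6).symm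
  have h3r : Nat.Coprime 3 r := (Nat.Coprime.coprime_dvd_right (by norm_num : 3 ∣ 6) hr6).symm
  obtain ⟨π, hπV, hπmul, hπfix, hπorth⟩ := exists_proj V Y H hVc hYc hH.le hVY
  have hπv : ∀ v ∈ W, π v = v ^ n := fun v hv =>
    hπfix v (mem_inf.mp hv).1 (fun h hh => (mem_centralizer_iff.mp (mem_inf.mp hv).2) h hh)
  have hπ1 : ∀ g : Γ, g ∈ normalizer (H : Set Γ) → ∀ v ∈ W,
      π (g * v * g⁻¹) = (g * v * g⁻¹) ^ n := by
    intro g hg v hv
    have h1 : g * v * g⁻¹ ∈ W :=
      conj_mem_of_mem_normalizer (mem_normalizer_fix (hVtop g) hg) hv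
    exact hπv _ h1
  have hπ2 : ∀ g : Γ, g ∈ normalizer (Y : Set Γ) → g ∉ normalizer (H : Set Γ) → ∀ v ∈ W,
      π (g * v * g⁻¹) = 1 := by
    intro g hgY hgH v hv
    have hH' : IsMax (H.map (MulAut.conj g).toMonoidHom) Y := hH.conj hgY
    have hne : H ≠ H.map (MulAut.conj g).toMonoidHom := by
      intro hcon
      exact hgH (mem_normalizer_of_map_conj_eq hcon.symm)
    apply hπorth _ hH'.le (hH.sup_eq hH' hne) _ (hconjV g (mem_inf.mp hv).1)
    rintro h ⟨k, hk, rfl⟩
    have h1 : k * v = v * k := (mem_centralizer_iff.mp (mem_inf.mp hv).2) k hk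
    simp only [MulEquiv.coe_toMonoidHom, MulAut.conj_apply]
    calc g * k * g⁻¹ * (g * v * g⁻¹) = g * (k * v) * g⁻¹ := by group
      _ = g * (v * k) * g⁻¹ := by rw [h1]
      _ = g * v * g⁻¹ * (g * k * g⁻¹) := by group
  have hainv : ∀ k ∈ V ⊓ centralizer ((zpowers b : Subgroup Γ) : Set Γ), a * k * a⁻¹ = k⁻¹ := by
    apply inverts_of_fpf _ a hrel.a_sq
    · exact mem_normalizer_fix (hVtop a) (a_mem_normalizer_zpowers hrel)
    · intro k hk hak
      exact hfix k (mem_inf.mp hk).1 hak (mem_centralizer_zpowers_iff.mp (mem_inf.mp hk).2)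
  have hprod : ∀ v ∈ W, (π v * π (b * v * b⁻¹) * π (b * b * v * (b * b)⁻¹)) *
      (π (a * v * a⁻¹) * π (a * b * v * (a * b)⁻¹) * π (a * b * b * v * (a * b * b)⁻¹)) = 1 := by
    intro v hv
    have hvV : v ∈ V := (mem_inf.mp hv).1
    have h1 : b * v * b⁻¹ ∈ V := hconjV b hvV
    have h2 : b * b * v * (b * b)⁻¹ ∈ V := hconjV (b * b) hvV
    have huV : v * (b * v * b⁻¹) * (b * b * v * (b * b)⁻¹) ∈ V :=
      V.mul_mem (V.mul_mem hvV h1) h2
    have hbu : b * (v * (b * v * b⁻¹) * (b * b * v * (b * b)⁻¹)) =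
        (v * (b * v * b⁻¹) * (b * b * v * (b * b)⁻¹)) * b := by
      have e1 : b * (v * (b * v * b⁻¹) * (b * b * v * (b * b)⁻¹)) * b⁻¹ =
          (b * v * b⁻¹) * (b * b * v * (b * b)⁻¹) * (b * b * b * v * (b * b * b)⁻¹) := by
        group
      rw [hrel.b_cube] at e1
      have e2 : (1 : Γ) * v * 1⁻¹ = v := by group
      rw [e2] at e1
      have e3 : (b * v * b⁻¹) * (b * b * v * (b * b)⁻¹) * v =
          v * (b * v * b⁻¹) * (b * b * v * (b * b)⁻¹) := by
        rw [hVc _ (V.mul_mem h1 h2) _ hvV, ← mul_assoc]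
      rw [e3] at e1
      calc b * (v * (b * v * b⁻¹) * (b * b * v * (b * b)⁻¹))
          = b * (v * (b * v * b⁻¹) * (b * b * v * (b * b)⁻¹)) * b⁻¹ * b := by group
        _ = (v * (b * v * b⁻¹) * (b * b * v * (b * b)⁻¹)) * b := by rw [e1]
    have huB : v * (b * v * b⁻¹) * (b * b * v * (b * b)⁻¹) ∈
        V ⊓ centralizer ((zpowers b : Subgroup Γ) : Set Γ) :=
      mem_inf.mpr ⟨huV, mem_centralizer_zpowers_iff.mpr hbu⟩
    have h3 := hainv _ huB
    have h4 : (v * (b * v * b⁻¹) * (b * b * v * (b * b)⁻¹)) *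
        (a * (v * (b * v * b⁻¹) * (b * b * v * (b * b)⁻¹)) * a⁻¹) = 1 := by
      rw [h3, mul_inv_cancel]
    have h5 : a * (v * (b * v * b⁻¹) * (b * b * v * (b * b)⁻¹)) * a⁻¹ =
        (a * v * a⁻¹) * (a * b * v * (a * b)⁻¹) * (a * b * b * v * (a * b * b)⁻¹) := by
      group
    have h6 : π 1 = 1 := by
      have := hπfix 1 (one_mem V) (fun h _ => by rw [mul_one, one_mul])
      rw [this, one_pow]
    have h7 := hπmul _ huV _ (hconjV a huV)
    rw [h4, h6] at h7
    have h8 : π (v * (b * v * b⁻¹) * (b * b * v * (b * b)⁻¹)) =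
        π v * π (b * v * b⁻¹) * π (b * b * v * (b * b)⁻¹) := by
      rw [hπmul _ (V.mul_mem hvV h1) _ h2, hπmul _ hvV _ h1]
    have h9 : π (a * (v * (b * v * b⁻¹) * (b * b * v * (b * b)⁻¹)) * a⁻¹) =
        π (a * v * a⁻¹) * π (a * b * v * (a * b)⁻¹) * π (a * b * b * v * (a * b * b)⁻¹) := by
      rw [h5, hπmul _ (V.mul_mem (hconjV a hvV) (hconjV (a * b) hvV)) _ (hconjV (a * b * b) hvV),
        hπmul _ (hconjV a hvV) _ (hconjV (a * b) hvV)]
    rw [← h8, ← h9]
    exact h7.symm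
  -- involutions
  have hinvol : ∀ g : Γ, g * g = 1 → g ∈ normalizer (Y : Set Γ) → g ∈ normalizer (H : Set Γ) →
      (∀ v ∈ W, v ^ n * (g * v * g⁻¹) ^ n = 1) → g ∈ actKer Y H := by
    intro g hg2 hgY hgH hkey
    apply mem_actKer_of_fix_eq_bot (q := 2) ht (by norm_num) hrt V Y H hVc hVr hYc hYt hH hVY hVH
      (by rw [pow_two, hg2]) hgY hgH
    intro v hv hgv
    have hvV : v ∈ V := (mem_inf.mp hv).1
    have h1 := hkey v hv
    have e1 : g * v * g⁻¹ = v := by rw [hgv, mul_inv_cancel_right]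
    rw [e1, ← pow_add] at h1
    have h2 : (v ^ 2) ^ n = 1 := by rw [← pow_mul, two_mul]; exact h1
    have h3 : (v ^ 2) ^ r = 1 := by rw [← pow_mul, mul_comm, pow_mul, hVr v hvV, one_pow]
    have h4 : v ^ 2 = 1 := eq_one_of_pow_coprime h2 h3 hnr
    exact eq_one_of_pow_coprime h4 (hVr v hvV) h2r
  have hb_of_bb : b * b ∈ normalizer (H : Set Γ) → b ∈ normalizer (H : Set Γ) := by
    intro h
    have e : b = (b * b) * (b * b) := by
      calc b = b * (b * b * b) := by rw [hrel.b_cube, mul_one]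
        _ = (b * b) * (b * b) := by group
    rw [e]; exact mul_mem h h
  have habY : a * b ∈ normalizer (Y : Set Γ) := mul_mem haY hbY
  have habbY : a * b * b ∈ normalizer (Y : Set Γ) := mul_mem habY hbY
  by_cases hbH : b ∈ normalizer (H : Set Γ)
  · by_cases haH : a ∈ normalizer (H : Set Γ)
    · -- everything normalizes `H`
      have habH : a * b ∈ normalizer (H : Set Γ) := mul_mem haH hbH
      have h1 := (actKer_or_fix_le hYc hH haY haH).resolve_left hna
      have h2 := (actKer_or_fix_le hYc hH habY habH).resolve_left hnab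
      apply hnb
      refine ⟨hbY, ?_⟩
      intro y hy
      have hay : a * y * a⁻¹ ∈ Y := conj_mem_of_mem_normalizer haY hy
      have haby : a * b * y * (a * b)⁻¹ ∈ Y := conj_mem_of_mem_normalizer habY hy
      have h3 : y * (a * y * a⁻¹) ∈ H := by
        apply h1 _ (Y.mul_mem hy hay)
        have e : a * (y * (a * y * a⁻¹)) * a⁻¹ = (a * y * a⁻¹) * (a * a * y * (a * a)⁻¹) := by
          group
        rw [hrel.a_sq] at e
        have e2 : (1 : Γ) * y * 1⁻¹ = y := by group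
        rw [e2, hYc _ hay _ hy] at e
        calc a * (y * (a * y * a⁻¹)) = a * (y * (a * y * a⁻¹)) * a⁻¹ * a := by group
          _ = y * (a * y * a⁻¹) * a := by rw [e]
      have h4 : y * (a * b * y * (a * b)⁻¹) ∈ H := by
        apply h2 _ (Y.mul_mem hy haby)
        have e : (a * b) * (y * (a * b * y * (a * b)⁻¹)) * (a * b)⁻¹ =
            (a * b * y * (a * b)⁻¹) * ((a * b) * (a * b) * y * ((a * b) * (a * b))⁻¹) := by
          group
        rw [hrel.ab_sq] at e
        have e2 : (1 : Γ) * y * 1⁻¹ = y := by group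
        rw [e2, hYc _ haby _ hy] at e
        calc (a * b) * (y * (a * b * y * (a * b)⁻¹))
            = (a * b) * (y * (a * b * y * (a * b)⁻¹)) * (a * b)⁻¹ * (a * b) := by group
          _ = y * (a * b * y * (a * b)⁻¹) * (a * b) := by rw [e]
      have h5 : a * (y⁻¹ * (b * y * b⁻¹)) * a⁻¹ ∈ H := by
        have e : a * (y⁻¹ * (b * y * b⁻¹)) * a⁻¹ =
            (y * (a * y * a⁻¹))⁻¹ * (y * (a * b * y * (a * b)⁻¹)) := by group
        rw [e]; exact H.mul_mem (H.inv_mem h3) h4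
      have h6 : y⁻¹ * (b * y * b⁻¹) ∈ H := by
        have := conj_inv_mem_of_mem_normalizer haH h5
        have e : a⁻¹ * (a * (y⁻¹ * (b * y * b⁻¹)) * a⁻¹) * a = y⁻¹ * (b * y * b⁻¹) := by group
        rwa [e] at this
      have hby : b * y * b⁻¹ ∈ Y := conj_mem_of_mem_normalizer hbY hy
      have e : b * y * b⁻¹ * y⁻¹ = y⁻¹ * (b * y * b⁻¹) := hYc _ hby _ (Y.inv_mem hy)
      rw [e]; exact h6
    · -- only `1, b, b²` normalize `H`
      have habH : a * b ∉ normalizer (H : Set Γ) := by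
        intro h
        apply haH
        have e : a = (a * b) * b⁻¹ := by group
        rw [e]; exact mul_mem h (inv_mem hbH)
      have habbH : a * b * b ∉ normalizer (H : Set Γ) := by
        intro h
        apply haH
        have e : a = (a * b * b) * b⁻¹ * b⁻¹ := by group
        rw [e]; exact mul_mem (mul_mem h (inv_mem hbH)) (inv_mem hbH)
      have hkey : ∀ v ∈ W, v * (b * v * b⁻¹) * (b * b * v * (b * b)⁻¹) = 1 := by
        intro v hv
        have hvV := (mem_inf.mp hv).1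
        have h1 := hprod v hv
        rw [hπ2 a haY haH v hv, hπ2 (a * b) habY habH v hv, hπ2 (a * b * b) habbY habbH v hv,
          hπv v hv, hπ1 b hbH v hv, hπ1 (b * b) (mul_mem hbH hbH) v hv, mul_one, mul_one,
          mul_one] at h1
        have c1 : Commute v (b * v * b⁻¹) := hVc _ hvV _ (hconjV b hvV)
        have c2 : Commute (v * (b * v * b⁻¹)) (b * b * v * (b * b)⁻¹) :=
          hVc _ (V.mul_mem hvV (hconjV b hvV)) _ (hconjV (b * b) hvV)
        have h2 : (v * (b * v * b⁻¹) * (b * b * v * (b * b)⁻¹)) ^ n = 1 := by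
          rw [c2.mul_pow, c1.mul_pow]; exact h1
        have h3 : (v * (b * v * b⁻¹) * (b * b * v * (b * b)⁻¹)) ^ r = 1 :=
          hVr _ (V.mul_mem (V.mul_mem hvV (hconjV b hvV)) (hconjV (b * b) hvV))
        exact eq_one_of_pow_coprime h2 h3 hnr
      apply hnb
      apply mem_actKer_of_fix_eq_bot (q := 3) ht (by norm_num) hrt V Y H hVc hVr hYc hYt hH hVY
        hVH hrel.b_pow hbY hbH
      intro v hv hbv
      have h1 := hkey v hv
      have e1 : b * v * b⁻¹ = v := by rw [hbv, mul_inv_cancel_right]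
      have e2 : b * b * v * (b * b)⁻¹ = v := by
        calc b * b * v * (b * b)⁻¹ = b * (b * v * b⁻¹) * b⁻¹ := by group
          _ = v := by rw [e1, e1]
      rw [e1, e2] at h1
      have h2 : v ^ 3 = 1 := by rw [pow_succ, pow_two]; exact h1
      exact eq_one_of_pow_coprime h2 (hVr v (mem_inf.mp hv).1) h3r
  · have hbbH : b * b ∉ normalizer (H : Set Γ) := fun h => hbH (hb_of_bb h)
    -- two-term formula
    have htwo : ∀ g : Γ, g ∈ normalizer (H : Set Γ) →
        (a = g ∨ a * b = g ∨ a * b * b = g) →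
        (∀ g' : Γ, (a = g' ∨ a * b = g' ∨ a * b * b = g') → g' ≠ g →
          g' ∉ normalizer (H : Set Γ)) →
        ∀ v ∈ W, v ^ n * (g * v * g⁻¹) ^ n = 1 := by
      intro g hgH hg hothers v hv
      have h1 := hprod v hv
      rw [hπv v hv, hπ2 b hbY hbH v hv, hπ2 (b * b) (mul_mem hbY hbY) hbbH v hv, mul_one,
        mul_one] at h1
      rcases hg with rfl | rfl | rfl
      · by_cases e1 : a * b = a
        · have hb1 : b = 1 := by
            have : a * b = a * 1 := by rw [e1, mul_one]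
            exact mul_left_cancel this
          exact absurd (hb1 ▸ (one_mem _ : (1 : Γ) ∈ normalizer (H : Set Γ))) hbH
        by_cases e2 : a * b * b = a
        · have hbb1 : b * b = 1 := by
            have : a * (b * b) = a * 1 := by rw [← mul_assoc, e2, mul_one]
            exact mul_left_cancel this
          exact absurd (hbb1 ▸ (one_mem _ : (1 : Γ) ∈ normalizer (H : Set Γ))) hbbH
        rw [hπ1 a hgH v hv, hπ2 (a * b) habY (hothers _ (Or.inr (Or.inl rfl)) e1) v hv,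
          hπ2 (a * b * b) habbY (hothers _ (Or.inr (Or.inr rfl)) e2) v hv, mul_one, mul_one] at h1
        exact h1
      · by_cases e1 : a = a * b
        · have hb1 : b = 1 := by
            have : a * b = a * 1 := by rw [← e1, mul_one]
            exact mul_left_cancel this
          exact absurd (hb1 ▸ (one_mem _ : (1 : Γ) ∈ normalizer (H : Set Γ))) hbH
        by_cases e2 : a * b * b = a * b
        · have hb1 : b = 1 := by
            have : a * b * b = a * b * 1 := by rw [e2, mul_one]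
            exact mul_left_cancel this
          exact absurd (hb1 ▸ (one_mem _ : (1 : Γ) ∈ normalizer (H : Set Γ))) hbH
        rw [hπ2 a haY (hothers _ (Or.inl rfl) e1) v hv, hπ1 (a * b) hgH v hv,
          hπ2 (a * b * b) habbY (hothers _ (Or.inr (Or.inr rfl)) e2) v hv, mul_one, one_mul] at h1
        exact h1
      · by_cases e1 : a = a * b * b
        · have hbb1 : b * b = 1 := by
            have : a * (b * b) = a * 1 := by rw [← mul_assoc, ← e1, mul_one]
            exact mul_left_cancel this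
          exact absurd (hbb1 ▸ (one_mem _ : (1 : Γ) ∈ normalizer (H : Set Γ))) hbbH
        by_cases e2 : a * b = a * b * b
        · have hb1 : b = 1 := by
            have : a * b * b = a * b * 1 := by rw [← e2, mul_one]
            exact mul_left_cancel this
          exact absurd (hb1 ▸ (one_mem _ : (1 : Γ) ∈ normalizer (H : Set Γ))) hbH
        rw [hπ2 a haY (hothers _ (Or.inl rfl) e1) v hv,
          hπ2 (a * b) habY (hothers _ (Or.inr (Or.inl rfl)) e2) v hv,
          hπ1 (a * b * b) hgH v hv, one_mul, one_mul] at h1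
        exact h1
    by_cases haH : a ∈ normalizer (H : Set Γ)
    · apply hna
      apply hinvol a hrel.a_sq haY haH
      apply htwo a haH (Or.inl rfl)
      intro g' hg' hne hg'H
      rcases hg' with rfl | rfl | rfl
      · exact hne rfl
      · apply hbH
        have e : b = a⁻¹ * (a * b) := by group
        rw [e]; exact mul_mem (inv_mem haH) hg'H
      · apply hbbH
        have e : b * b = a⁻¹ * (a * b * b) := by group
        rw [e]; exact mul_mem (inv_mem haH) hg'H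
    · by_cases habH : a * b ∈ normalizer (H : Set Γ)
      · apply hnab
        apply hinvol (a * b) hrel.ab_sq habY habH
        apply htwo (a * b) habH (Or.inr (Or.inl rfl))
        intro g' hg' hne hg'H
        rcases hg' with rfl | rfl | rfl
        · exact haH hg'H
        · exact hne rfl
        · apply hbH
          have e : b = (a * b)⁻¹ * (a * b * b) := by group
          rw [e]; exact mul_mem (inv_mem habH) hg'H
      · by_cases habbH : a * b * b ∈ normalizer (H : Set Γ)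
        · apply hnabb
          apply hinvol (a * b * b) hrel.swap.ab_sq habbY habbH
          apply htwo (a * b * b) habbH (Or.inr (Or.inr rfl))
          intro g' hg' hne hg'H
          rcases hg' with rfl | rfl | rfl
          · exact haH hg'H
          · exact habH hg'H
          · exact hne rfl
        · -- nothing normalizes `H`
          apply hVH
          rw [eq_bot_iff]
          intro v hv
          rw [mem_bot]
          have h1 := hprod v hv
          rw [hπv v hv, hπ2 b hbY hbH v hv, hπ2 (b * b) (mul_mem hbY hbY) hbbH v hv,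
            hπ2 a haY haH v hv, hπ2 (a * b) habY habH v hv, hπ2 (a * b * b) habbY habbH v hv,
            mul_one, mul_one, mul_one, mul_one, mul_one] at h1
          exact eq_one_of_pow_coprime h1 (hVr v (mem_inf.mp hv).1) hnr

/-- the projection onto `C_V(H)`, packaged with its behaviour on conjugates. -/
theorem exists_proj' [Finite Γ] {r t : ℕ} [hr : Fact r.Prime] (ht : t.Prime) (hrt : r ≠ t)
    (V Y H : Subgroup Γ) [hVn : V.Normal]
    (hVc : ∀ x ∈ V, ∀ y ∈ V, x * y = y * x) (hVr : ∀ v ∈ V, v ^ r = 1)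
    (hYc : ∀ x ∈ Y, ∀ y ∈ Y, x * y = y * x) (hYt : ∀ y ∈ Y, y ^ t = 1)
    (hVY : V ⊓ centralizer (Y : Set Γ) = ⊥) (hH : IsMax H Y) :
    ∃ π : Γ → Γ, (∀ v ∈ V, π v ∈ V) ∧ (∀ v ∈ V, ∀ w ∈ V, π (v * w) = π v * π w) ∧
      (∀ v ∈ V ⊓ centralizer (H : Set Γ), π v = v ^ Nat.card H) ∧
      (∀ g : Γ, g ∈ normalizer (Y : Set Γ) → g ∉ normalizer (H : Set Γ) →
        ∀ v ∈ V ⊓ centralizer (H : Set Γ), π (g * v * g⁻¹) = 1) ∧
      (∀ v ∈ V, v ^ Nat.card H = 1 → v = 1) := by
  have hnr : (Nat.card H).Coprime r := by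
    have : Fact t.Prime := ⟨ht⟩
    have hHp : IsPGroup t H := isPGroup_of_exponent (fun y hy => hYt y (hH.le hy))
    obtain ⟨m, hm⟩ := IsPGroup.iff_card.mp hHp
    rw [hm]
    apply Nat.Coprime.pow_left
    exact (Nat.coprime_primes ht hr.out).mpr (Ne.symm hrt)
  obtain ⟨π, hπV, hπmul, hπfix, hπorth⟩ := exists_proj V Y H hVc hYc hH.le hVY
  refine ⟨π, hπV, hπmul, ?_, ?_, ?_⟩
  · intro v hv
    exact hπfix v (mem_inf.mp hv).1 (fun h hh => (mem_centralizer_iff.mp (mem_inf.mp hv).2) h hh)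
  · intro g hgY hgH v hv
    have hH' : IsMax (H.map (MulAut.conj g).toMonoidHom) Y := hH.conj hgY
    have hne : H ≠ H.map (MulAut.conj g).toMonoidHom := by
      intro hcon
      exact hgH (mem_normalizer_of_map_conj_eq hcon.symm)
    apply hπorth _ hH'.le (hH.sup_eq hH' hne) _ (hVn.conj_mem v (mem_inf.mp hv).1 g)
    rintro h ⟨k, hk, rfl⟩
    have h1 : k * v = v * k := (mem_centralizer_iff.mp (mem_inf.mp hv).2) k hk
    simp only [MulEquiv.coe_toMonoidHom, MulAut.conj_apply]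
    calc g * k * g⁻¹ * (g * v * g⁻¹) = g * (k * v) * g⁻¹ := by group
      _ = g * (v * k) * g⁻¹ := by rw [h1]
      _ = g * v * g⁻¹ * (g * k * g⁻¹) := by group
  · intro v hv hvn
    exact eq_one_of_pow_coprime hvn (hVr v hv) hnr

end Cfsg.Agent.Helper52.S3
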