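import Mathlib
import Cfsg.Agent.Lib.Helper52.FpfS3Hyper

/-!
# Fixed-point-free action of `S₃`: the module context

`Ctx V M a b r`: inside the finite group `Γ`, `V` is a normal elementary abelian `r`-subgroup,
`M` a subgroup acting faithfully on `V`, `a, b` satisfy the relations of `S₃`, normalize `M`, have
no common fixed points on `M` and on `V`, and `V` is irreducible under `⟨M, a, b⟩`.
-/

set_option autoImplicit false

namespace Cfsg.Agent.Helper52.S3

open Subgroup
open scoped commutatorElement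

variable {Γ : Type*} [Group Γ]

/-- the module context -/
structure Ctx (V M : Subgroup Γ) (a b : Γ) (r : ℕ) : Prop where
  rel : Rel a b
  Vn : V.Normal
  Vc : ∀ x ∈ V, ∀ y ∈ V, x * y = y * x
  Vr : ∀ v ∈ V, v ^ r = 1
  Vne : V ≠ ⊥
  r6 : r.Coprime 6
  aM : a ∈ normalizer (M : Set Γ)
  bM : b ∈ normalizer (M : Set Γ)
  M6 : (Nat.card M).Coprime 6
  faith : ∀ m ∈ M, (∀ v ∈ V, m * v = v * m) → m = 1
  fixM : ∀ m ∈ M, a * m = m * a → b * m = m * b → m = 1
  fixV : ∀ v ∈ V, a * v = v * a → b * v = v * b → v = 1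
  irr : ∀ W : Subgroup Γ, W ≤ V → M ≤ normalizer (W : Set Γ) → a ∈ normalizer (W : Set Γ) →
    b ∈ normalizer (W : Set Γ) → W = ⊥ ∨ W = V

namespace Ctx

variable {V M : Subgroup Γ} {a b : Γ} {r : ℕ}

theorem normV (c : Ctx V M a b r) (g : Γ) : g ∈ normalizer (V : Set Γ) := by
  rw [normalizer_eq_top_iff.mpr c.Vn]; exact mem_top g

theorem conjV (c : Ctx V M a b r) (g : Γ) {v : Γ} (hv : v ∈ V) : g * v * g⁻¹ ∈ V :=
  c.Vn.conj_mem v hv g

/-- replace `a` by the involution `a * b` -/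
theorem swap (c : Ctx V M a b r) : Ctx V M (a * b) b r where
  rel := c.rel.swap
  Vn := c.Vn
  Vc := c.Vc
  Vr := c.Vr
  Vne := c.Vne
  r6 := c.r6
  aM := mul_mem c.aM c.bM
  bM := c.bM
  M6 := c.M6
  faith := c.faith
  fixM := fun m hm h1 h2 => by
    have := (Rel.commute_swap_iff (a := a) (b := b) m).mpr ⟨h1, h2⟩
    exact c.fixM m hm this.1 this.2
  fixV := fun v hv h1 h2 => by
    have := (Rel.commute_swap_iff (a := a) (b := b) v).mpr ⟨h1, h2⟩
    exact c.fixV v hv this.1 this.2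
  irr := fun W hW hMW haW hbW => by
    apply c.irr W hW hMW _ hbW
    have e : a = (a * b) * b⁻¹ := by group
    rw [e]
    exact mul_mem haW (inv_mem hbW)

/-- an invariant normal subgroup of `M` is trivial or has no fixed points on `V` -/
theorem fix_eq_bot (c : Ctx V M a b r) (N : Subgroup Γ) (hNM : N ≤ M)
    (hMN : M ≤ normalizer (N : Set Γ)) (haN : a ∈ normalizer (N : Set Γ))
    (hbN : b ∈ normalizer (N : Set Γ)) : V ⊓ centralizer (N : Set Γ) = ⊥ ∨ N = ⊥ := by
  rcases c.irr (V ⊓ centralizer (N : Set Γ)) inf_le_left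
    (fun m hm => mem_normalizer_fix (c.normV m) (hMN hm))
    (mem_normalizer_fix (c.normV a) haN) (mem_normalizer_fix (c.normV b) hbN) with h | h
  · exact Or.inl h
  · right
    rw [eq_bot_iff]
    intro n hn
    rw [mem_bot]
    apply c.faith n (hNM hn)
    intro v hv
    rw [← h] at hv
    exact ((mem_centralizer_iff.mp (mem_inf.mp hv).2) n hn)

/-- the fixed points of `b` on `M` are inverted by `a` -/
theorem invM [Finite Γ] (c : Ctx V M a b r) :
    ∀ d ∈ M ⊓ centralizer ((zpowers b : Subgroup Γ) : Set Γ), a * d * a⁻¹ = d⁻¹ := by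
  apply inverts_of_fpf _ a c.rel.a_sq
  · exact mem_normalizer_fix c.aM (a_mem_normalizer_zpowers c.rel)
  · intro k hk hak
    exact c.fixM k (mem_inf.mp hk).1 hak (mem_centralizer_zpowers_iff.mp (mem_inf.mp hk).2)

/-- the fixed points of `b` on `V` are inverted by `a` -/
theorem invV [Finite Γ] (c : Ctx V M a b r) :
    ∀ u ∈ V ⊓ centralizer ((zpowers b : Subgroup Γ) : Set Γ), a * u * a⁻¹ = u⁻¹ := by
  apply inverts_of_fpf _ a c.rel.a_sq
  · exact mem_normalizer_fix (c.normV a) (a_mem_normalizer_zpowers c.rel)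
  · intro k hk hak
    exact c.fixV k (mem_inf.mp hk).1 hak (mem_centralizer_zpowers_iff.mp (mem_inf.mp hk).2)

theorem odd_orderOf [Finite Γ] (c : Ctx V M a b r) {m : Γ} (hm : m ∈ M) : Odd (orderOf m) := by
  have h1 : orderOf m ∣ Nat.card M := by
    have := orderOf_dvd_natCard (⟨m, hm⟩ : M)
    rwa [Subgroup.orderOf_mk] at this
  have h2 : (orderOf m).Coprime 6 := Nat.Coprime.coprime_dvd_left h1 c.M6
  have h3 : (orderOf m).Coprime 2 := Nat.Coprime.coprime_dvd_right (by norm_num : 2 ∣ 6) h2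
  exact (Nat.coprime_two_right.mp h3)

/-- the fixed points of `b` on `M` centralize the fixed points of `b` on `V` -/
theorem fixM_commute_fixV [Finite Γ] (c : Ctx V M a b r) {d u : Γ}
    (hd : d ∈ M ⊓ centralizer ((zpowers b : Subgroup Γ) : Set Γ))
    (hu : u ∈ V ⊓ centralizer ((zpowers b : Subgroup Γ) : Set Γ)) : d * u = u * d := by
  have hdb : b * d = d * b := mem_centralizer_zpowers_iff.mp (mem_inf.mp hd).2
  have hub : b * u = u * b := mem_centralizer_zpowers_iff.mp (mem_inf.mp hu).2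
  have h1 : d * u * d⁻¹ ∈ V ⊓ centralizer ((zpowers b : Subgroup Γ) : Set Γ) := by
    refine mem_inf.mpr ⟨c.conjV d (mem_inf.mp hu).1, ?_⟩
    rw [mem_centralizer_zpowers_iff]
    have hdb' : b * d⁻¹ = d⁻¹ * b := by
      calc b * d⁻¹ = d⁻¹ * (d * b) * d⁻¹ := by group
        _ = d⁻¹ * (b * d) * d⁻¹ := by rw [hdb]
        _ = d⁻¹ * b := by group
    calc b * (d * u * d⁻¹) = (b * d) * u * d⁻¹ := by group
      _ = d * (b * u) * d⁻¹ := by rw [hdb]; group
      _ = d * u * (b * d⁻¹) := by rw [hub]; group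
      _ = d * u * d⁻¹ * b := by rw [hdb']; group
  have h2 := sq_commute_of_inverted (c.invM d hd) (c.invV u hu) (c.invV _ h1)
  exact commute_of_sq_commute (c.odd_orderOf (mem_inf.mp hd).1) h2

end Ctx

end Cfsg.Agent.Helper52.S3
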