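import Mathlib
import Cfsg.Agent.Lib.Helper52.FpfS3Ctx
import Cfsg.Agent.S3765

/-!
# Fixed-point-free action of `S₃`: the case of a `t`-group `M`
-/

set_option autoImplicit false

namespace Cfsg.Agent.Helper52.S3

open Subgroup
open scoped commutatorElement

variable {Γ : Type*} [Group Γ]

/-! ### `Ω₁(Z(M))` -/

/-- `Ω₁(Z(M))` for the exponent `t` -/
def omegaZ (M : Subgroup Γ) (t : ℕ) : Subgroup Γ where
  carrier := {z | z ∈ M ∧ (∀ m ∈ M, z * m = m * z) ∧ z ^ t = 1}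
  one_mem' := ⟨one_mem M, fun m _ => by rw [one_mul, mul_one], one_pow t⟩
  mul_mem' := by
    rintro z z' ⟨hz, hzc, hzt⟩ ⟨hz', hzc', hzt'⟩
    refine ⟨M.mul_mem hz hz', ?_, ?_⟩
    · intro m hm
      calc z * z' * m = z * (z' * m) := by group
        _ = z * (m * z') := by rw [hzc' m hm]
        _ = (z * m) * z' := by group
        _ = m * z * z' := by rw [hzc m hm]
        _ = m * (z * z') := by group
    · have : Commute z z' := hzc z' hz'
      rw [this.mul_pow, hzt, hzt', one_mul]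
  inv_mem' := by
    rintro z ⟨hz, hzc, hzt⟩
    refine ⟨M.inv_mem hz, ?_, by rw [inv_pow, hzt, inv_one]⟩
    intro m hm
    calc z⁻¹ * m = z⁻¹ * (m * z) * z⁻¹ := by group
      _ = z⁻¹ * (z * m) * z⁻¹ := by rw [hzc m hm]
      _ = m * z⁻¹ := by group

theorem mem_omegaZ {M : Subgroup Γ} {t : ℕ} {z : Γ} :
    z ∈ omegaZ M t ↔ z ∈ M ∧ (∀ m ∈ M, z * m = m * z) ∧ z ^ t = 1 := Iff.rfl

theorem omegaZ_le (M : Subgroup Γ) (t : ℕ) : omegaZ M t ≤ M := fun _ hz => hz.1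

theorem omegaZ_comm (M : Subgroup Γ) (t : ℕ) :
    ∀ x ∈ omegaZ M t, ∀ y ∈ omegaZ M t, x * y = y * x := fun _ hx y hy => hx.2.1 y hy.1

theorem omegaZ_exp (M : Subgroup Γ) (t : ℕ) : ∀ y ∈ omegaZ M t, y ^ t = 1 := fun _ hy => hy.2.2

theorem mem_normalizer_omegaZ [Finite Γ] {M : Subgroup Γ} {t : ℕ} {g : Γ}
    (hg : g ∈ normalizer (M : Set Γ)) : g ∈ normalizer ((omegaZ M t : Subgroup Γ) : Set Γ) := by
  apply mem_normalizer_of_conj_mem
  rintro z ⟨hz, hzc, hzt⟩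
  refine ⟨conj_mem_of_mem_normalizer hg hz, ?_, ?_⟩
  · intro m hm
    have hm' : g⁻¹ * m * g ∈ M := conj_inv_mem_of_mem_normalizer hg hm
    calc g * z * g⁻¹ * m = g * (z * (g⁻¹ * m * g)) * g⁻¹ := by group
      _ = g * ((g⁻¹ * m * g) * z) * g⁻¹ := by rw [hzc _ hm']
      _ = m * (g * z * g⁻¹) := by group
  · rw [conj_pow, hzt, mul_one, mul_inv_cancel]

theorem omegaZ_ne_bot [Finite Γ] {M : Subgroup Γ} {t : ℕ} [ht : Fact t.Prime] (hM : IsPGroup t M)
    (hne : M ≠ ⊥) : omegaZ M t ≠ ⊥ := by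
  have : Nontrivial M := (Subgroup.nontrivial_iff_ne_bot M).mpr hne
  have hcen : Nontrivial (center M) := hM.center_nontrivial
  obtain ⟨z, hz⟩ := exists_ne (1 : center M)
  have hz1 : (z : M) ≠ 1 := fun h => hz (Subtype.ext h)
  obtain ⟨k, hk⟩ := (IsPGroup.iff_orderOf.mp hM) (z : M)
  have hk1 : k ≠ 0 := by
    rintro rfl
    rw [pow_zero, orderOf_eq_one_iff] at hk
    exact hz1 hk
  obtain ⟨j, rfl⟩ := Nat.exists_eq_succ_of_ne_zero hk1
  set w : M := (z : M) ^ (t ^ j) with hw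
  have hwt : w ^ t = 1 := by
    rw [hw, ← pow_mul, ← pow_succ, ← hk, pow_orderOf_eq_one]
  have hw1 : w ≠ 1 := by
    rw [hw]
    apply pow_ne_one_of_lt_orderOf (pow_pos ht.out.pos j).ne'
    rw [hk]
    exact Nat.pow_lt_pow_right ht.out.one_lt (Nat.lt_succ_self j)
  have hwc : ∀ m : M, w * m = m * w := by
    intro m
    have h1 : w ∈ center M := by
      rw [hw]
      exact pow_mem z.2 _
    exact (mem_center_iff.mp h1 m).symm
  intro hbot
  have hmem : (w : Γ) ∈ omegaZ M t := by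
    refine ⟨w.2, ?_, ?_⟩
    · intro m hm
      exact congrArg Subtype.val (hwc ⟨m, hm⟩)
    · have := congrArg Subtype.val hwt
      simpa using this
  rw [hbot, mem_bot] at hmem
  exact hw1 (Subtype.ext hmem)

/-! ### closures of conjugation-invariant sets -/

theorem mem_normalizer_closure [Finite Γ] {S : Set Γ} {g : Γ}
    (h : ∀ x ∈ S, g * x * g⁻¹ ∈ S) : g ∈ normalizer ((closure S : Subgroup Γ) : Set Γ) := by
  apply mem_normalizer_of_conj_mem
  intro x hx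
  induction hx using closure_induction with
  | mem x hx => exact subset_closure (h x hx)
  | one =>
    have : g * 1 * g⁻¹ = 1 := by group
    rw [this]; exact one_mem _
  | mul x y _ _ hx hy =>
    have : g * (x * y) * g⁻¹ = (g * x * g⁻¹) * (g * y * g⁻¹) := by group
    rw [this]; exact mul_mem hx hy
  | inv x _ hx =>
    have : g * x⁻¹ * g⁻¹ = (g * x * g⁻¹)⁻¹ := by group
    rw [this]; exact inv_mem hx

theorem commute_closure {S : Set Γ} {d : Γ} (h : ∀ x ∈ S, d * x = x * d) :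
    ∀ x ∈ closure S, d * x = x * d := by
  have hle : closure S ≤ centralizer ({d} : Set Γ) := by
    rw [closure_le]
    intro x hx
    rw [SetLike.mem_coe, mem_centralizer_iff]
    intro y hy
    rw [Set.mem_singleton_iff] at hy
    rw [hy, h x hx]
  intro x hx
  have := hle hx
  rw [mem_centralizer_iff] at this
  exact this d rfl

/-! ### a fixed-point-free element of order three -/

theorem prod_eq_one_of_fpf [Finite Γ] {M : Subgroup Γ} {b : Γ} (hb3 : b * b * b = 1)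
    (hbM : b ∈ normalizer (M : Set Γ)) (hfix : ∀ m ∈ M, b * m = m * b → m = 1) :
    ∀ g ∈ M, g * (b * g * b⁻¹) * (b * b * g * (b * b)⁻¹) = 1 := by
  let f : M → M := fun m => ⟨(m : Γ)⁻¹ * (b * m * b⁻¹),
    M.mul_mem (M.inv_mem m.2) (conj_mem_of_mem_normalizer hbM m.2)⟩
  have hf : Function.Injective f := by
    intro k l hkl
    have h1 : (k : Γ)⁻¹ * (b * k * b⁻¹) = (l : Γ)⁻¹ * (b * l * b⁻¹) := congrArg Subtype.val hkl
    have h3 : (l : Γ) * (k : Γ)⁻¹ = b * (l * (k : Γ)⁻¹) * b⁻¹ := by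
      calc (l : Γ) * (k : Γ)⁻¹ = l * ((k : Γ)⁻¹ * (b * k * b⁻¹)) * (b * k * b⁻¹)⁻¹ := by group
        _ = l * ((l : Γ)⁻¹ * (b * l * b⁻¹)) * (b * k * b⁻¹)⁻¹ := by rw [h1]
        _ = b * (l * (k : Γ)⁻¹) * b⁻¹ := by group
    have h2 : b * ((l : Γ) * (k : Γ)⁻¹) = ((l : Γ) * (k : Γ)⁻¹) * b := by
      calc b * ((l : Γ) * (k : Γ)⁻¹) = b * (l * (k : Γ)⁻¹) * b⁻¹ * b := by group
        _ = ((l : Γ) * (k : Γ)⁻¹) * b := by rw [← h3]
    have h4 := hfix _ (M.mul_mem l.2 (M.inv_mem k.2)) h2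
    apply Subtype.ext
    exact (mul_inv_eq_one.mp h4).symm
  intro g hg
  obtain ⟨m, hm⟩ := Finite.surjective_of_injective hf ⟨g, hg⟩
  have h1 : (m : Γ)⁻¹ * (b * m * b⁻¹) = g := congrArg Subtype.val hm
  rw [← h1]
  calc (m : Γ)⁻¹ * (b * m * b⁻¹) * (b * ((m : Γ)⁻¹ * (b * m * b⁻¹)) * b⁻¹) *
        (b * b * ((m : Γ)⁻¹ * (b * m * b⁻¹)) * (b * b)⁻¹)
      = (m : Γ)⁻¹ * ((b * b * b) * m * (b * b * b)⁻¹) := by group
    _ = 1 := by rw [hb3]; group

/-! ### a commutativity criterion -/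

theorem exists_zpow_eq {Q : Type*} [Group Q] {g : Q} {n k : ℕ} (hg : g ^ n = 1)
    (hk : k.Coprime n) : ∃ u : ℤ, (g ^ u) ^ k = g := by
  have h1 : IsCoprime (k : ℤ) (n : ℤ) := Nat.isCoprime_iff_coprime.mpr hk
  obtain ⟨u, v, huv⟩ := h1
  refine ⟨u, ?_⟩
  have h2 : g ^ (n : ℤ) = 1 := by rw [zpow_natCast, hg]
  calc (g ^ u) ^ k = g ^ (u * k) := by rw [← zpow_natCast, ← zpow_mul]
    _ = g ^ (u * k) * (g ^ (n : ℤ)) ^ v := by rw [h2, one_zpow, mul_one]
    _ = g ^ (u * k + v * n) := by rw [← zpow_mul, ← zpow_add, mul_comm (n : ℤ) v]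
    _ = g := by rw [huv, zpow_one]

theorem cube_sq_comm {Q : Type*} [Group Q] (x y : Q)
    (e1 : (x * y) * (x * y) = (y * y) * (x * x)) (e2 : (y * x) * (y * x) = (x * x) * (y * y)) :
    x ^ 3 * y ^ 2 = y ^ 2 * x ^ 3 := by
  have e3 : x * ((y * x) * (y * x)) * x⁻¹ = (x * y) * (x * y) := by group
  rw [e2, e1] at e3
  have e4 : x ^ 3 = x * x * x := by rw [pow_succ, pow_two]
  have e5 : y ^ 2 = y * y := pow_two y
  rw [e4, e5]
  calc x * x * x * (y * y) = x * ((x * x) * (y * y)) * x⁻¹ * x := by group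
    _ = (y * y) * (x * x) * x := by rw [e3]
    _ = y * y * (x * x * x) := by group

/-- If `φ₀ c⁻¹ = (φ₁ c)²` for two homomorphisms into a group whose relevant elements have
order prime to `6`, then the image of `φ₀` is commutative. -/
theorem commute_of_inv_eq_sq {Q C : Type*} [Group Q] [Group C] (n : ℕ) (hn : n.Coprime 6)
    (φ₀ φ₁ : C →* Q) (hord : ∀ c, (φ₁ c) ^ n = 1) (h : ∀ c, (φ₀ c)⁻¹ = φ₁ c * φ₁ c) :
    ∀ c₁ c₂, φ₀ c₁ * φ₀ c₂ = φ₀ c₂ * φ₀ c₁ := by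
  have h2n : Nat.Coprime 2 n := (Nat.Coprime.coprime_dvd_right (by norm_num : 2 ∣ 6) hn).symm
  have h3n : Nat.Coprime 3 n := (Nat.Coprime.coprime_dvd_right (by norm_num : 3 ∣ 6) hn).symm
  have step1 : ∀ c₁ c₂, (φ₁ c₁ * φ₁ c₂) * (φ₁ c₁ * φ₁ c₂) =
      (φ₁ c₂ * φ₁ c₂) * (φ₁ c₁ * φ₁ c₁) := by
    intro c₁ c₂
    rw [← map_mul, ← h (c₁ * c₂), ← h c₁, ← h c₂, map_mul, mul_inv_rev]
  have step2 : ∀ c₁ c₂, (φ₁ c₁) ^ 3 * (φ₁ c₂) ^ 2 = (φ₁ c₂) ^ 2 * (φ₁ c₁) ^ 3 :=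
    fun c₁ c₂ => cube_sq_comm _ _ (step1 c₁ c₂) (step1 c₂ c₁)
  have step4 : ∀ c₁ c₂, φ₁ c₁ * φ₁ c₂ = φ₁ c₂ * φ₁ c₁ := by
    intro c₁ c₂
    obtain ⟨u, hu⟩ := exists_zpow_eq (hord c₁) h3n
    obtain ⟨v, hv⟩ := exists_zpow_eq (hord c₂) h2n
    rw [← map_zpow] at hu hv
    rw [← hu, ← hv]
    exact step2 (c₁ ^ u) (c₂ ^ v)
  intro c₁ c₂
  have e1 : φ₀ c₁ = (φ₁ c₁ * φ₁ c₁)⁻¹ := by rw [← h c₁, inv_inv]
  have e2 : φ₀ c₂ = (φ₁ c₂ * φ₁ c₂)⁻¹ := by rw [← h c₂, inv_inv]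
  have hc : Commute (φ₁ c₁) (φ₁ c₂) := step4 c₁ c₂
  have hc2 : Commute (φ₁ c₁ * φ₁ c₁) (φ₁ c₂ * φ₁ c₂) :=
    (hc.mul_right hc).mul_left (hc.mul_right hc)
  rw [e1, e2]
  exact hc2.inv_inv

end Cfsg.Agent.Helper52.S3

namespace Cfsg.Agent.Helper52.S3

open Subgroup
open scoped commutatorElement

variable {Γ : Type*} [Group Γ]

theorem isSolvable_zpowers (a : Γ) : Group.IsSolvable (zpowers a) :=
  Group.isSolvable_of_comm (fun x y => mul_comm' x y)

/-- the `b`-norm of an element of the abelian normal subgroup `V` is fixed by `b` -/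
theorem fix_prod {V : Subgroup Γ} (hVn : V.Normal) (hVc : ∀ x ∈ V, ∀ y ∈ V, x * y = y * x)
    {b : Γ} (hb3 : b * b * b = 1) {v : Γ} (hvV : v ∈ V) :
    b * (v * (b * v * b⁻¹) * (b * b * v * (b * b)⁻¹)) =
      (v * (b * v * b⁻¹) * (b * b * v * (b * b)⁻¹)) * b := by
  have h1 : b * v * b⁻¹ ∈ V := hVn.conj_mem v hvV b
  have h2 : b * b * v * (b * b)⁻¹ ∈ V := hVn.conj_mem v hvV (b * b)
  have e1 : b * (v * (b * v * b⁻¹) * (b * b * v * (b * b)⁻¹)) * b⁻¹ =
      (b * v * b⁻¹) * (b * b * v * (b * b)⁻¹) * (b * b * b * v * (b * b * b)⁻¹) := by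
    group
  rw [hb3] at e1
  have e2 : (1 : Γ) * v * 1⁻¹ = v := by group
  rw [e2] at e1
  have e3 : (b * v * b⁻¹) * (b * b * v * (b * b)⁻¹) * v =
      v * (b * v * b⁻¹) * (b * b * v * (b * b)⁻¹) := by
    rw [hVc _ (V.mul_mem h1 h2) _ hvV, ← mul_assoc]
  rw [e3] at e1
  calc b * (v * (b * v * b⁻¹) * (b * b * v * (b * b)⁻¹))
      = b * (v * (b * v * b⁻¹) * (b * b * v * (b * b)⁻¹)) * b⁻¹ * b := by group
    _ = (v * (b * v * b⁻¹) * (b * b * v * (b * b)⁻¹)) * b := by rw [e1]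

theorem Rel.ab_eq {a b : Γ} (h : Rel a b) : a * b = b * b * a := by
  rw [h.ab, h.b_inv]

theorem Rel.abb_eq {a b : Γ} (h : Rel a b) : a * (b * b) = b * a := by
  calc a * (b * b) = (a * b) * b := by group
    _ = (b * b * a) * b := by rw [h.ab_eq]
    _ = b * b * (a * b) := by group
    _ = b * b * (b * b * a) := by rw [h.ab_eq]
    _ = (b * b * b) * b * a := by group
    _ = b * a := by rw [h.b_cube, one_mul]

theorem Rel.inv_conj {a b : Γ} (h : Rel a b) (x : Γ) : a⁻¹ * x * a = a * x * a⁻¹ := by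
  rw [h.a_inv]

/-- **Endgame of the `t`-group case.** -/
theorem caseI_aux [Finite Γ] {r t : ℕ} [hr : Fact r.Prime] [ht : Fact t.Prime] (hrt : r ≠ t)
    {V M : Subgroup Γ} {a b : Γ} (c : Ctx V M a b r)
    (H₀ : Subgroup Γ) (hH₀ : IsMax H₀ (omegaZ M t))
    (hVZ : V ⊓ centralizer ((omegaZ M t : Subgroup Γ) : Set Γ) = ⊥)
    (hV₀ : V ⊓ centralizer (H₀ : Set Γ) ≠ ⊥)
    (hbK : b ∉ actKer (omegaZ M t) H₀) (haK : a ∈ actKer (omegaZ M t) H₀) :
    ∀ x ∈ M, ∀ y ∈ M, x * y = y * x := by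
  have hrel := c.rel
  have hVn := c.Vn
  set Z : Subgroup Γ := omegaZ M t with hZ
  set V₀ : Subgroup Γ := V ⊓ centralizer (H₀ : Set Γ) with hV₀def
  have haZ : a ∈ normalizer (Z : Set Γ) := mem_normalizer_omegaZ c.aM
  have hbZ : b ∈ normalizer (Z : Set Γ) := mem_normalizer_omegaZ c.bM
  have haH : a ∈ normalizer (H₀ : Set Γ) := actKer_le_normalizer hH₀.le haK
  -- `b` does not normalize `H₀`
  have hbH : b ∉ normalizer (H₀ : Set Γ) := by
    intro hbH
    apply hbK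
    have h1 : b * a * b⁻¹ ∈ actKer Z H₀ := conj_mem_actKer hbZ hbH haK
    rw [hrel.conj_a] at h1
    have e : b = a⁻¹ * (a * b) := by group
    rw [e]
    exact mul_mem (inv_mem haK) h1
  have hbbH : b * b ∉ normalizer (H₀ : Set Γ) := by
    intro h
    apply hbH
    have e : b = (b * b) * (b * b) := by
      calc b = b * (b * b * b) := by rw [hrel.b_cube, mul_one]
        _ = (b * b) * (b * b) := by group
    rw [e]; exact mul_mem h h
  have hbbZ : b * b ∈ normalizer (Z : Set Γ) := mul_mem hbZ hbZ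
  -- `M` and `a` normalize `V₀`
  have hMV₀ : ∀ m ∈ M, m ∈ normalizer (V₀ : Set Γ) := by
    intro m hm
    apply mem_normalizer_fix (c.normV m)
    apply mem_normalizer_of_commute
    intro x hx
    exact ((hH₀.le hx).2.1 m hm).symm
  have haV₀ : a ∈ normalizer (V₀ : Set Γ) := mem_normalizer_fix (c.normV a) haH
  have hV₀V : ∀ {v : Γ}, v ∈ V₀ → v ∈ V := fun hv => (mem_inf.mp hv).1
  -- the projection
  obtain ⟨π, hπV, hπmul, hπ0, hπ2, hroot⟩ := exists_proj' ht.out hrt V Z H₀ c.Vc c.Vr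
    (omegaZ_comm M t) (omegaZ_exp M t) hVZ hH₀
  set n : ℕ := Nat.card H₀ with hn
  have hπ1 : π 1 = 1 := by
    have := hπ0 1 (one_mem _)
    rw [this, one_pow]
  have key1 : ∀ x ∈ V₀, ∀ y ∈ V₀, ∀ z ∈ V₀,
      π (x * (b * y * b⁻¹) * (b * b * z * (b * b)⁻¹)) = x ^ n := by
    intro x hx y hy z hz
    rw [hπmul _ (V.mul_mem (hV₀V hx) (c.conjV b (hV₀V hy))) _ (c.conjV (b * b) (hV₀V hz)),
      hπmul _ (hV₀V hx) _ (c.conjV b (hV₀V hy)), hπ0 x hx, hπ2 b hbZ hbH y hy,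
      hπ2 (b * b) hbbZ hbbH z hz, mul_one, mul_one]
  have hpow_inj : ∀ x ∈ V, ∀ y ∈ V, x ^ n = y ^ n → x = y := by
    intro x hx y hy hxy
    have hc : Commute x y⁻¹ := c.Vc x hx _ (V.inv_mem hy)
    have h1 : (x * y⁻¹) ^ n = 1 := by
      rw [hc.mul_pow, hxy, inv_pow, mul_inv_cancel]
    have h2 := hroot _ (V.mul_mem hx (V.inv_mem hy)) h1
    exact mul_inv_eq_one.mp h2
  -- `a` inverts `V₀`
  have hainv : ∀ v ∈ V₀, a * v * a⁻¹ = v⁻¹ := by
    intro v hv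
    have hvV := hV₀V hv
    obtain ⟨w, hw⟩ : ∃ w, w = a * v * a⁻¹ := ⟨_, rfl⟩
    have hwV₀ : w ∈ V₀ := by rw [hw]; exact conj_mem_of_mem_normalizer haV₀ hv
    have hu : v * (b * v * b⁻¹) * (b * b * v * (b * b)⁻¹) ∈
        V ⊓ centralizer ((zpowers b : Subgroup Γ) : Set Γ) :=
      mem_inf.mpr ⟨V.mul_mem (V.mul_mem hvV (c.conjV b hvV)) (c.conjV (b * b) hvV),
        mem_centralizer_zpowers_iff.mpr (fix_prod hVn c.Vc hrel.b_cube hvV)⟩
    have h1 := c.invV _ hu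
    have e1 : a * (v * (b * v * b⁻¹) * (b * b * v * (b * b)⁻¹)) * a⁻¹ =
        w * ((a * b) * v * (a * b)⁻¹) * ((a * (b * b)) * v * (a * (b * b))⁻¹) := by
      rw [hw]; group
    rw [hrel.ab_eq, hrel.abb_eq] at e1
    have e2 : b * b * a * v * (b * b * a)⁻¹ = b * b * w * (b * b)⁻¹ := by rw [hw]; group
    have e3 : b * a * v * (b * a)⁻¹ = b * w * b⁻¹ := by rw [hw]; group
    rw [e2, e3] at e1
    have hwV := hV₀V hwV₀
    have e4 : w * (b * b * w * (b * b)⁻¹) * (b * w * b⁻¹) =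
        w * (b * w * b⁻¹) * (b * b * w * (b * b)⁻¹) := by
      have := c.Vc _ (c.conjV (b * b) hwV) _ (c.conjV b hwV)
      calc w * (b * b * w * (b * b)⁻¹) * (b * w * b⁻¹)
          = w * ((b * b * w * (b * b)⁻¹) * (b * w * b⁻¹)) := mul_assoc _ _ _
        _ = w * ((b * w * b⁻¹) * (b * b * w * (b * b)⁻¹)) := by rw [this]
        _ = w * (b * w * b⁻¹) * (b * b * w * (b * b)⁻¹) := (mul_assoc _ _ _).symm
    rw [e4] at e1
    -- now apply `π`
    have h2 : (v * (b * v * b⁻¹) * (b * b * v * (b * b)⁻¹)) *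
        (w * (b * w * b⁻¹) * (b * b * w * (b * b)⁻¹)) = 1 := by
      rw [← e1, h1, mul_inv_cancel]
    have h3 := hπmul _ (mem_inf.mp hu).1 _
      (V.mul_mem (V.mul_mem hwV (c.conjV b hwV)) (c.conjV (b * b) hwV))
    rw [h2, hπ1, key1 v hv v hv v hv, key1 w hwV₀ w hwV₀ w hwV₀] at h3
    -- v^n * w^n = 1
    have h4 : w ^ n = (v⁻¹) ^ n := by
      rw [inv_pow]
      exact eq_inv_of_mul_eq_one_right h3.symm
    rw [← hw]
    exact hpow_inj w hwV _ (V.inv_mem hvV) h4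
  -- `[M, a]` centralizes `V₀`
  have hK₀ : ∀ m ∈ M, ∀ v ∈ V₀, (a * m * a⁻¹ * m⁻¹) * v = v * (a * m * a⁻¹ * m⁻¹) := by
    intro m hm v hv
    have hv' : m⁻¹ * v * m ∈ V₀ := conj_inv_mem_of_mem_normalizer (hMV₀ m hm) hv
    have h1 : a⁻¹ * (m⁻¹ * v * m) * a = (m⁻¹ * v * m)⁻¹ := by
      rw [hrel.inv_conj]; exact hainv _ hv'
    have h2 : (a * m * a⁻¹ * m⁻¹) * v * (a * m * a⁻¹ * m⁻¹)⁻¹ = v := by
      calc (a * m * a⁻¹ * m⁻¹) * v * (a * m * a⁻¹ * m⁻¹)⁻¹
          = a * (m * (a⁻¹ * (m⁻¹ * v * m) * a) * m⁻¹) * a⁻¹ := by group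
        _ = a * (m * (m⁻¹ * v * m)⁻¹ * m⁻¹) * a⁻¹ := by rw [h1]
        _ = (a * v * a⁻¹)⁻¹ := by group
        _ = v := by rw [hainv v hv, inv_inv]
    calc (a * m * a⁻¹ * m⁻¹) * v
        = (a * m * a⁻¹ * m⁻¹) * v * (a * m * a⁻¹ * m⁻¹)⁻¹ * (a * m * a⁻¹ * m⁻¹) := by group
      _ = v * (a * m * a⁻¹ * m⁻¹) := by rw [h2]
  -- the fixed points of `b` on `M` centralize `V₀`
  have hD₀ : ∀ d ∈ M ⊓ centralizer ((zpowers b : Subgroup Γ) : Set Γ), ∀ v ∈ V₀,
      d * v = v * d := by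
    intro d hd v hv
    have hvV := hV₀V hv
    have hdb : b * d = d * b := mem_centralizer_zpowers_iff.mp (mem_inf.mp hd).2
    have hdv : d * v * d⁻¹ ∈ V₀ := conj_mem_of_mem_normalizer (hMV₀ d (mem_inf.mp hd).1) hv
    have hu : v * (b * v * b⁻¹) * (b * b * v * (b * b)⁻¹) ∈
        V ⊓ centralizer ((zpowers b : Subgroup Γ) : Set Γ) :=
      mem_inf.mpr ⟨V.mul_mem (V.mul_mem hvV (c.conjV b hvV)) (c.conjV (b * b) hvV),
        mem_centralizer_zpowers_iff.mpr (fix_prod hVn c.Vc hrel.b_cube hvV)⟩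
    have h1 := c.fixM_commute_fixV hd hu
    have h2 : d * (v * (b * v * b⁻¹) * (b * b * v * (b * b)⁻¹)) * d⁻¹ =
        v * (b * v * b⁻¹) * (b * b * v * (b * b)⁻¹) := by
      rw [h1, mul_inv_cancel_right]
    have hdb' : d * b = b * d := hdb.symm
    have e1 : d * (v * (b * v * b⁻¹) * (b * b * v * (b * b)⁻¹)) * d⁻¹ =
        (d * v * d⁻¹) * (b * (d * v * d⁻¹) * b⁻¹) * (b * b * (d * v * d⁻¹) * (b * b)⁻¹) := by
      have e2 : d * (b * v * b⁻¹) * d⁻¹ = b * (d * v * d⁻¹) * b⁻¹ := by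
        calc d * (b * v * b⁻¹) * d⁻¹ = (d * b) * v * (d * b)⁻¹ := by group
          _ = (b * d) * v * (b * d)⁻¹ := by rw [hdb']
          _ = b * (d * v * d⁻¹) * b⁻¹ := by group
      have hdbb : d * (b * b) = (b * b) * d := by
        calc d * (b * b) = (d * b) * b := by group
          _ = (b * d) * b := by rw [hdb']
          _ = b * (d * b) := by group
          _ = b * (b * d) := by rw [hdb']
          _ = (b * b) * d := by group
      have e3 : d * (b * b * v * (b * b)⁻¹) * d⁻¹ = b * b * (d * v * d⁻¹) * (b * b)⁻¹ := by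
        calc d * (b * b * v * (b * b)⁻¹) * d⁻¹ = (d * (b * b)) * v * (d * (b * b))⁻¹ := by group
          _ = ((b * b) * d) * v * ((b * b) * d)⁻¹ := by rw [hdbb]
          _ = b * b * (d * v * d⁻¹) * (b * b)⁻¹ := by group
      calc d * (v * (b * v * b⁻¹) * (b * b * v * (b * b)⁻¹)) * d⁻¹
          = (d * v * d⁻¹) * (d * (b * v * b⁻¹) * d⁻¹) * (d * (b * b * v * (b * b)⁻¹) * d⁻¹) := by
            group
        _ = _ := by rw [e2, e3]
    rw [e1] at h2
    have h3 := congrArg π h2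
    rw [key1 _ hdv _ hdv _ hdv, key1 v hv v hv v hv] at h3
    have h4 := hpow_inj _ (hV₀V hdv) v hvV h3
    calc d * v = d * v * d⁻¹ * d := by group
      _ = v * d := by rw [h4]
  -- the span of the conjugates of `V₀` under `b`
  set W : Subgroup Γ := closure {x | ∃ i : ℤ, ∃ v ∈ V₀, x = b ^ i * v * (b ^ i)⁻¹} with hW
  have hWV : W ≤ V := by
    rw [hW, closure_le]
    rintro x ⟨i, v, hv, rfl⟩
    exact c.conjV _ (hV₀V hv)
  have hV₀W : V₀ ≤ W := by
    intro v hv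
    apply Subgroup.subset_closure
    exact ⟨0, v, hv, by simp⟩
  have hWne : W ≠ ⊥ := by
    intro h
    apply hV₀
    rw [eq_bot_iff, ← h]
    exact hV₀W
  have hMW : M ≤ normalizer (W : Set Γ) := by
    intro m hm
    apply mem_normalizer_closure
    rintro x ⟨i, v, hv, rfl⟩
    have hm' : (b ^ i)⁻¹ * m * b ^ i ∈ M :=
      conj_inv_mem_of_mem_normalizer (zpow_mem c.bM i) hm
    refine ⟨i, ((b ^ i)⁻¹ * m * b ^ i) * v * ((b ^ i)⁻¹ * m * b ^ i)⁻¹,
      conj_mem_of_mem_normalizer (hMV₀ _ hm') hv, ?_⟩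
    group
  have hbW : b ∈ normalizer (W : Set Γ) := by
    apply mem_normalizer_closure
    rintro x ⟨i, v, hv, rfl⟩
    refine ⟨1 + i, v, hv, ?_⟩
    rw [zpow_one_add]
    group
  have haW : a ∈ normalizer (W : Set Γ) := by
    apply mem_normalizer_closure
    rintro x ⟨i, v, hv, rfl⟩
    refine ⟨-i, a * v * a⁻¹, conj_mem_of_mem_normalizer haV₀ hv, ?_⟩
    have e1 : a * b ^ i * a⁻¹ = b ^ (-i) := by
      rw [← conj_zpow, hrel.rel, inv_zpow']
    calc a * (b ^ i * v * (b ^ i)⁻¹) * a⁻¹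
        = (a * b ^ i * a⁻¹) * (a * v * a⁻¹) * (a * b ^ i * a⁻¹)⁻¹ := by group
      _ = b ^ (-i) * (a * v * a⁻¹) * (b ^ (-i))⁻¹ := by rw [e1]
  have hWeq : W = V := (c.irr W hWV hMW haW hbW).resolve_left hWne
  -- an element of `M` commuting with all generators is trivial
  have htriv : ∀ k ∈ M, (∀ i : ℤ, ∀ v ∈ V₀, k * (b ^ i * v * (b ^ i)⁻¹) =
      (b ^ i * v * (b ^ i)⁻¹) * k) → k = 1 := by
    intro k hk hcomm
    apply c.faith k hk
    intro v hv
    rw [← hWeq] at hv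
    apply commute_closure _ v hv
    rintro x ⟨i, v, hv, rfl⟩
    exact hcomm i v hv
  -- `b` has no fixed points on `M`
  have hbfix : ∀ m ∈ M, b * m = m * b → m = 1 := by
    intro d hd hbd
    have hdD : d ∈ M ⊓ centralizer ((zpowers b : Subgroup Γ) : Set Γ) :=
      mem_inf.mpr ⟨hd, mem_centralizer_zpowers_iff.mpr hbd⟩
    apply htriv d hd
    intro i v hv
    have h1 : Commute d (b ^ i) := (Commute.zpow_right hbd.symm i)
    have h2 : Commute d v := hD₀ d hdD v hv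
    exact (h1.mul_right h2).mul_right h1.inv_right
  have hprod := prod_eq_one_of_fpf hrel.b_cube c.bM hbfix
  -- commutators centralize `V₀`
  have hcomm₀ : ∀ x ∈ M, ∀ y ∈ M, ∀ v ∈ V₀,
      (x * y * x⁻¹ * y⁻¹) * v = v * (x * y * x⁻¹ * y⁻¹) := by
    set K₀ : Subgroup Γ := M ⊓ centralizer (V₀ : Set Γ) with hK₀def
    have hMK₀ : M ≤ normalizer (K₀ : Set Γ) :=
      fun m hm => mem_normalizer_fix (le_normalizer hm) (hMV₀ m hm)
    have haK₀ : a ∈ normalizer (K₀ : Set Γ) := mem_normalizer_fix c.aM haV₀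
    have hNn : (K₀.subgroupOf M).Normal := normal_subgroupOf_of_le_normalizer hMK₀
    let q : M →* M ⧸ K₀.subgroupOf M := QuotientGroup.mk' (K₀.subgroupOf M)
    have hq1 : ∀ k : M, (k : Γ) ∈ K₀ → q k = 1 :=
      fun k hk => (QuotientGroup.eq_one_iff k).mpr (mem_subgroupOf.mpr hk)
    have hcommK : ∀ g ∈ M, a * g * a⁻¹ * g⁻¹ ∈ K₀ := by
      intro g hgM
      refine mem_inf.mpr ⟨M.mul_mem (conj_mem_of_mem_normalizer c.aM hgM) (M.inv_mem hgM), ?_⟩
      rw [mem_centralizer_iff]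
      intro v hv
      exact (hK₀ g hgM v hv).symm
    set C : Subgroup Γ := M ⊓ centralizer ((zpowers a : Subgroup Γ) : Set Γ) with hCdef
    let ι : C →* M := inclusion inf_le_left
    let ψ : C →* M := ((MulAut.conj b).toMonoidHom.comp C.subtype).codRestrict M (fun x => by
      show (MulAut.conj b) (x : Γ) ∈ M
      rw [MulAut.conj_apply]
      exact conj_mem_of_mem_normalizer c.bM (mem_inf.mp x.2).1)
    have hψ : ∀ x : C, ((ψ x : M) : Γ) = b * x * b⁻¹ := fun x => rfl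
    have hι : ∀ x : C, ((ι x : M) : Γ) = x := fun x => rfl
    have hrelq : ∀ x : C, (q (ι x))⁻¹ = q (ψ x) * q (ψ x) := by
      intro x
      have hxM : (x : Γ) ∈ M := (mem_inf.mp x.2).1
      have hxa : a * (x : Γ) = x * a := mem_centralizer_zpowers_iff.mp (mem_inf.mp x.2).2
      obtain ⟨g, hg⟩ : ∃ g : Γ, g = b * x * b⁻¹ := ⟨_, rfl⟩
      have hgM : g ∈ M := by rw [hg]; exact conj_mem_of_mem_normalizer c.bM hxM
      have h1 := hprod x hxM
      have h2 : b * b * (x : Γ) * (b * b)⁻¹ = a * g * a⁻¹ := by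
        have hx' : a * (x : Γ) * a⁻¹ = x := by rw [hxa, mul_inv_cancel_right]
        calc b * b * (x : Γ) * (b * b)⁻¹ = b * b * (a * x * a⁻¹) * (b * b)⁻¹ := by rw [hx']
          _ = (b * b * a) * x * (b * b * a)⁻¹ := by group
          _ = (a * b) * x * (a * b)⁻¹ := by rw [← hrel.ab_eq]
          _ = a * g * a⁻¹ := by rw [hg]; group
      rw [h2, ← hg] at h1
      have hkK := hcommK g hgM
      have hkM : a * g * a⁻¹ * g⁻¹ ∈ M := (mem_inf.mp hkK).1
      have h3 : (x : Γ)⁻¹ = g * (a * g * a⁻¹ * g⁻¹) * g := by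
        have : (x : Γ) * (g * (a * g * a⁻¹ * g⁻¹) * g) = 1 := by
          calc (x : Γ) * (g * (a * g * a⁻¹ * g⁻¹) * g) = x * g * (a * g * a⁻¹) := by group
            _ = 1 := h1
        exact inv_eq_of_mul_eq_one_right this
      have h4 : (ι x)⁻¹ = ψ x * ⟨a * g * a⁻¹ * g⁻¹, hkM⟩ * ψ x := by
        apply Subtype.ext
        simp only [Subgroup.coe_inv, Subgroup.coe_mul, hψ, hι]
        rw [← hg]
        exact h3
      rw [← map_inv, h4, map_mul, map_mul, hq1 ⟨a * g * a⁻¹ * g⁻¹, hkM⟩ hkK, mul_one]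
    have hqc := commute_of_inv_eq_sq (Nat.card M) c.M6 (q.comp ι) (q.comp ψ)
      (fun x => by
        show (q (ψ x)) ^ Nat.card M = 1
        rw [← map_pow, pow_card_eq_one', map_one])
      hrelq
    -- `M = K₀ C`
    have hdecomp : ∀ m ∈ M, ∃ k ∈ K₀, ∃ c' ∈ C, m = k * c' := by
      intro m hm
      have hcop : (Nat.card (zpowers a)).Coprime (Nat.card M) := by
        rw [Nat.card_zpowers]
        have h1 : orderOf a ∣ 2 := orderOf_dvd_of_pow_eq_one hrel.a_pow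
        have h2 : (Nat.card M).Coprime 2 :=
          Nat.Coprime.coprime_dvd_right (by norm_num : 2 ∣ 6) c.M6
        exact (Nat.Coprime.coprime_dvd_right h1 h2).symm
      apply Cfsg.Agent.Helper52.exists_mul_centralizer_of_comm_mem M K₀ (zpowers a) inf_le_left
        ((zpowers_le).mpr c.aM) ((zpowers_le).mpr haK₀) hcop (Or.inr (isSolvable_zpowers a)) m hm
      intro α hα
      obtain ⟨j, rfl⟩ := hα
      show m * a ^ j * m⁻¹ * (a ^ j)⁻¹ ∈ K₀
      have hcases : a ^ j = 1 ∨ a ^ j = a := by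
        rcases Int.even_or_odd j with ⟨i, rfl⟩ | ⟨i, rfl⟩
        · left
          rw [← two_mul, zpow_mul, zpow_two, hrel.a_sq, one_zpow]
        · right
          rw [zpow_add, zpow_mul, zpow_two, hrel.a_sq, one_zpow, one_mul, zpow_one]
      rcases hcases with h | h
      · rw [h]
        have : m * 1 * m⁻¹ * (1 : Γ)⁻¹ = 1 := by group
        rw [this]; exact one_mem _
      · rw [h]
        have h1 := hcommK m⁻¹ (M.inv_mem hm)
        have h2 := conj_mem_of_mem_normalizer (hMK₀ hm) h1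
        have e : m * a * m⁻¹ * a⁻¹ = m * (a * m⁻¹ * a⁻¹ * m⁻¹⁻¹) * m⁻¹ := by group
        rw [e]; exact h2
    intro x hx y hy v hv
    obtain ⟨k₁, hk₁, c₁, hc₁, hx1⟩ := hdecomp x hx
    obtain ⟨k₂, hk₂, c₂, hc₂, hy1⟩ := hdecomp y hy
    have hqx : q ⟨x, hx⟩ = q (ι ⟨c₁, hc₁⟩) := by
      have : (⟨x, hx⟩ : M) = ⟨k₁, (mem_inf.mp hk₁).1⟩ * ι ⟨c₁, hc₁⟩ := Subtype.ext hx1
      rw [this, map_mul, hq1 _ hk₁, one_mul]
    have hqy : q ⟨y, hy⟩ = q (ι ⟨c₂, hc₂⟩) := by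
      have : (⟨y, hy⟩ : M) = ⟨k₂, (mem_inf.mp hk₂).1⟩ * ι ⟨c₂, hc₂⟩ := Subtype.ext hy1
      rw [this, map_mul, hq1 _ hk₂, one_mul]
    have hqxy : q ((⟨x, hx⟩ : M) * ⟨y, hy⟩ * (⟨x, hx⟩ : M)⁻¹ * (⟨y, hy⟩ : M)⁻¹) = 1 := by
      rw [map_mul, map_mul, map_mul, map_inv, map_inv, hqx, hqy]
      have := hqc ⟨c₁, hc₁⟩ ⟨c₂, hc₂⟩
      have h' : q (ι ⟨c₁, hc₁⟩) * q (ι ⟨c₂, hc₂⟩) = q (ι ⟨c₂, hc₂⟩) * q (ι ⟨c₁, hc₁⟩) := this
      rw [h']
      group
    have hmem := (QuotientGroup.eq_one_iff _).mp hqxy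
    rw [mem_subgroupOf] at hmem
    have hmem' : x * y * x⁻¹ * y⁻¹ ∈ K₀ := hmem
    exact ((mem_centralizer_iff.mp (mem_inf.mp hmem').2) v hv).symm
  -- conclusion
  intro x hx y hy
  have h1 : x * y * x⁻¹ * y⁻¹ = 1 := by
    apply htriv _ (M.mul_mem (M.mul_mem (M.mul_mem hx hy) (M.inv_mem hx)) (M.inv_mem hy))
    intro i v hv
    have hx' : (b ^ i)⁻¹ * x * b ^ i ∈ M := conj_inv_mem_of_mem_normalizer (zpow_mem c.bM i) hx
    have hy' : (b ^ i)⁻¹ * y * b ^ i ∈ M := conj_inv_mem_of_mem_normalizer (zpow_mem c.bM i) hy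
    have h2 := hcomm₀ _ hx' _ hy' v hv
    have e1 : x * y * x⁻¹ * y⁻¹ = b ^ i * (((b ^ i)⁻¹ * x * b ^ i) * ((b ^ i)⁻¹ * y * b ^ i) *
        ((b ^ i)⁻¹ * x * b ^ i)⁻¹ * ((b ^ i)⁻¹ * y * b ^ i)⁻¹) * (b ^ i)⁻¹ := by group
    rw [e1]
    calc b ^ i * (((b ^ i)⁻¹ * x * b ^ i) * ((b ^ i)⁻¹ * y * b ^ i) *
          ((b ^ i)⁻¹ * x * b ^ i)⁻¹ * ((b ^ i)⁻¹ * y * b ^ i)⁻¹) * (b ^ i)⁻¹ *
          (b ^ i * v * (b ^ i)⁻¹)
        = b ^ i * ((((b ^ i)⁻¹ * x * b ^ i) * ((b ^ i)⁻¹ * y * b ^ i) *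
          ((b ^ i)⁻¹ * x * b ^ i)⁻¹ * ((b ^ i)⁻¹ * y * b ^ i)⁻¹) * v) * (b ^ i)⁻¹ := by group
      _ = b ^ i * (v * (((b ^ i)⁻¹ * x * b ^ i) * ((b ^ i)⁻¹ * y * b ^ i) *
          ((b ^ i)⁻¹ * x * b ^ i)⁻¹ * ((b ^ i)⁻¹ * y * b ^ i)⁻¹)) * (b ^ i)⁻¹ := by rw [h2]
      _ = _ := by group
  calc x * y = (x * y * x⁻¹ * y⁻¹) * (y * x) := by group
    _ = y * x := by rw [h1, one_mul]

/-- the centralizer of a normal subgroup is normalized by everything -/
theorem conj_mem_centralizer_normal {V : Subgroup Γ} (hVn : V.Normal) {x : Γ}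
    (hx : x ∈ centralizer (V : Set Γ)) (g : Γ) : g * x * g⁻¹ ∈ centralizer (V : Set Γ) := by
  rw [mem_centralizer_iff] at hx ⊢
  intro v hv
  have hv' : g⁻¹ * v * g ∈ V := by
    have := hVn.conj_mem v hv g⁻¹
    rwa [inv_inv] at this
  have h1 := hx _ hv'
  calc v * (g * x * g⁻¹) = g * ((g⁻¹ * v * g) * x) * g⁻¹ := by group
    _ = g * (x * (g⁻¹ * v * g)) * g⁻¹ := by rw [h1]
    _ = g * x * g⁻¹ * v := by group

/-- **The `t`-group case.** If `M` is a `t`-group then `M` is commutative. -/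
theorem caseI [Finite Γ] {r t : ℕ} [hr : Fact r.Prime] [ht : Fact t.Prime] (hrt : r ≠ t)
    {V M : Subgroup Γ} {a b : Γ} (c : Ctx V M a b r) (hM : IsPGroup t M) :
    ∀ x ∈ M, ∀ y ∈ M, x * y = y * x := by
  by_contra hcomm
  have hrel := c.rel
  have hVn := c.Vn
  -- `M` is nontrivial
  have hMne : M ≠ ⊥ := by
    intro h
    apply hcomm
    intro x hx y hy
    rw [h, mem_bot] at hx hy
    rw [hx, hy]
  -- `b` does not centralize `M`
  have hbM : ¬ ∀ m ∈ M, b * m = m * b := by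
    intro h
    apply hcomm
    apply commute_of_inverted M a
    intro m hm
    exact c.invM m (mem_inf.mpr ⟨hm, mem_centralizer_zpowers_iff.mpr (h m hm)⟩)
  have hb1 : b ≠ 1 := by
    intro h
    apply hbM
    intro m _
    rw [h, one_mul, mul_one]
  -- arithmetic
  have ht6 : t.Coprime 6 := by
    obtain ⟨k, hk⟩ := IsPGroup.iff_card.mp hM
    have hk0 : k ≠ 0 := by
      rintro rfl
      rw [pow_zero] at hk
      exact hMne (card_eq_one.mp hk)
    have h1 : t ∣ Nat.card M := by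
      rw [hk]; exact dvd_pow_self t hk0
    exact Nat.Coprime.coprime_dvd_left h1 c.M6
  have ht3 : t ≠ 3 := by
    rintro rfl
    have : Nat.Coprime 3 6 := ht6
    norm_num at this
  have ht2 : t ≠ 2 := by
    rintro rfl
    have : Nat.Coprime 2 6 := ht6
    norm_num at this
  have hr3 : r ≠ 3 := by
    rintro rfl
    have : Nat.Coprime 3 6 := c.r6
    norm_num at this
  have h3M : Nat.Coprime 3 (Nat.card M) :=
    (Nat.Coprime.coprime_dvd_right (by norm_num : 3 ∣ 6) c.M6).symm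
  have hMpow : ∀ m ∈ M, m ^ Nat.card M = 1 := by
    intro m hm
    have := pow_card_eq_one' (G := M) (x := ⟨m, hm⟩)
    have h2 := congrArg Subtype.val this
    rw [Subgroup.coe_pow, Subgroup.coe_one] at h2
    exact h2
  -- `zpowers b ⊓ C(M) = ⊥`
  have hXfaith : zpowers b ⊓ centralizer (M : Set Γ) = ⊥ := by
    rw [eq_bot_iff]
    intro y hy
    rw [mem_bot]
    by_contra hy1
    have : Fact (Nat.Prime 3) := ⟨by norm_num⟩
    have h1 : b ∈ zpowers y :=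
      Cfsg.Agent.Helper52.mem_zpowers_of_mem_zpowers_of_pow_prime (p := 3) hrel.b_pow
        (mem_inf.mp hy).1 hy1
    have h2 : zpowers y ≤ centralizer (M : Set Γ) := (zpowers_le).mpr (mem_inf.mp hy).2
    have h3 := h2 h1
    apply hbM
    intro m hm
    exact ((mem_centralizer_iff.mp h3) m hm).symm
  -- the fixed points of `b` on `V`
  have hU : V ⊓ centralizer ((zpowers b : Subgroup Γ) : Set Γ) ≠ ⊥ := by
    have hX : Nat.card (zpowers b) = 3 := by
      rw [Nat.card_zpowers]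
      exact orderOf_eq_prime hrel.b_pow hb1
    have hVel : Cfsg.IsElementaryAbelian r V :=
      ⟨⟨⟨fun x y => Subtype.ext (c.Vc x x.2 y y.2)⟩⟩, c.Vr⟩
    have htop : normalizer (V : Set Γ) = ⊤ := normalizer_eq_top_iff.mpr hVn
    have hfaith : (zpowers b ⊔ M) ⊓ centralizer (V : Set Γ) = ⊥ := by
      rw [eq_bot_iff]
      intro x hx
      rw [mem_bot]
      have hxC : x ∈ centralizer (V : Set Γ) := (mem_inf.mp hx).2
      have hxs : x ∈ ((zpowers b ⊔ M : Subgroup Γ) : Set Γ) := (mem_inf.mp hx).1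
      rw [coe_mul_of_left_le_normalizer_right (zpowers b) M ((zpowers_le).mpr c.bM)] at hxs
      obtain ⟨β, hβ, m, hm, rfl⟩ := Set.mem_mul.mp hxs
      have hβN : β ∈ normalizer (M : Set Γ) := ((zpowers_le).mpr c.bM) hβ
      -- `β * m` centralizes `M`
      have hxM : ∀ m' ∈ M, (β * m) * m' = m' * (β * m) := by
        intro m' hm'
        have h1 : (β * m) * m' * (β * m)⁻¹ * m'⁻¹ ∈ M := by
          have h2 : β * (m * m' * m⁻¹) * β⁻¹ ∈ M :=
            conj_mem_of_mem_normalizer hβN (M.mul_mem (M.mul_mem hm hm') (M.inv_mem hm))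
          have e : (β * m) * m' * (β * m)⁻¹ * m'⁻¹ = (β * (m * m' * m⁻¹) * β⁻¹) * m'⁻¹ := by
            group
          rw [e]; exact M.mul_mem h2 (M.inv_mem hm')
        have h2 : (β * m) * m' * (β * m)⁻¹ * m'⁻¹ ∈ centralizer (V : Set Γ) := by
          have h3 := conj_mem_centralizer_normal hVn (inv_mem hxC) m'
          have e : (β * m) * m' * (β * m)⁻¹ * m'⁻¹ = (β * m) * (m' * (β * m)⁻¹ * m'⁻¹) := by
            group
          rw [e]; exact mul_mem hxC h3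
        have h3 := c.faith _ h1 (fun v hv => ((mem_centralizer_iff.mp h2) v hv).symm)
        calc (β * m) * m' = ((β * m) * m' * (β * m)⁻¹ * m'⁻¹) * (m' * (β * m)) := by group
          _ = m' * (β * m) := by rw [h3, one_mul]
      -- `β` commutes with `m`
      have hβm : β * m = m * β := by
        have := hxM m hm
        calc β * m = (β * m * m) * m⁻¹ := by group
          _ = (m * (β * m)) * m⁻¹ := by rw [this]
          _ = m * β := by group
      have hβ3 : β ^ 3 = 1 := by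
        obtain ⟨k, rfl⟩ := hβ
        show (b ^ k) ^ 3 = 1
        rw [← zpow_natCast, ← zpow_mul, mul_comm, zpow_mul, zpow_natCast, hrel.b_pow, one_zpow]
      have hm3 : m ^ 3 = 1 := by
        have h1 : (β * m) ^ 3 = m ^ 3 := by
          have hc : Commute β m := hβm
          rw [hc.mul_pow, hβ3, one_mul]
        apply c.faith _ (pow_mem hm 3)
        intro v hv
        rw [← h1]
        have h2 : (β * m) ^ 3 ∈ centralizer (V : Set Γ) := pow_mem hxC 3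
        exact ((mem_centralizer_iff.mp h2) v hv).symm
      have hm1 : m = 1 := eq_one_of_pow_coprime hm3 (hMpow m hm) h3M
      subst hm1
      rw [mul_one] at hxM ⊢
      have h1 : β ∈ zpowers b ⊓ centralizer (M : Set Γ) := by
        refine mem_inf.mpr ⟨hβ, ?_⟩
        rw [mem_centralizer_iff]
        intro m' hm'
        exact (hxM m' hm').symm
      rw [hXfaith, mem_bot] at h1
      exact h1
    have key := Cfsg.Agent.S3765.result (G := Γ) (p := r) (q := t) (r := 3) hr.out ht.out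
      (by norm_num) hrt hr3 ht3 (zpowers b) M V hX hM ((zpowers_le).mpr c.bM) hXfaith hVel c.Vne
      (by rw [htop]; exact le_top) (by rw [htop]; exact le_top) hfaith
      (fun h2 => absurd h2 ht2)
    exact key
  -- `Ω₁(Z(M))`
  set Z : Subgroup Γ := omegaZ M t with hZ
  have hZne : Z ≠ ⊥ := omegaZ_ne_bot hM hMne
  have haZ : a ∈ normalizer (Z : Set Γ) := mem_normalizer_omegaZ c.aM
  have hbZ : b ∈ normalizer (Z : Set Γ) := mem_normalizer_omegaZ c.bM
  have hMZ : M ≤ normalizer (Z : Set Γ) := fun m hm => mem_normalizer_omegaZ (le_normalizer hm)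
  have hVZ : V ⊓ centralizer (Z : Set Γ) = ⊥ :=
    (c.fix_eq_bot Z (omegaZ_le M t) hMZ haZ hbZ).resolve_right hZne
  -- `b` has no fixed points on `Z`
  have hE : ∀ e ∈ Z, b * e = e * b → e = 1 := by
    intro e he hbe
    have heD : e ∈ M ⊓ centralizer ((zpowers b : Subgroup Γ) : Set Γ) :=
      mem_inf.mpr ⟨he.1, mem_centralizer_zpowers_iff.mpr hbe⟩
    -- `W = C_V(e)` is invariant and contains `C_V(b)`
    have hMe : M ≤ normalizer ((zpowers e : Subgroup Γ) : Set Γ) := by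
      intro m hm
      apply mem_normalizer_of_commute
      intro x hx
      obtain ⟨k, rfl⟩ := hx
      have : Commute m e := (he.2.1 m hm).symm
      exact this.zpow_right k
    have hae : a ∈ normalizer ((zpowers e : Subgroup Γ) : Set Γ) := by
      apply mem_normalizer_of_conj_mem
      intro x hx
      obtain ⟨k, rfl⟩ := hx
      have h1 : a * e ^ k * a⁻¹ = (a * e * a⁻¹) ^ k := by rw [conj_zpow]
      rw [h1, c.invM e heD]
      exact zpow_mem (inv_mem (mem_zpowers e)) k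
    have hbe' : b ∈ normalizer ((zpowers e : Subgroup Γ) : Set Γ) := by
      apply mem_normalizer_of_commute
      intro x hx
      obtain ⟨k, rfl⟩ := hx
      have : Commute b e := hbe
      exact this.zpow_right k
    rcases c.irr (V ⊓ centralizer ((zpowers e : Subgroup Γ) : Set Γ)) inf_le_left
      (fun m hm => mem_normalizer_fix (c.normV m) (hMe hm))
      (mem_normalizer_fix (c.normV a) hae) (mem_normalizer_fix (c.normV b) hbe') with h | h
    · exfalso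
      apply hU
      rw [eq_bot_iff, ← h]
      intro u hu
      refine mem_inf.mpr ⟨(mem_inf.mp hu).1, ?_⟩
      rw [mem_centralizer_zpowers_iff]
      exact c.fixM_commute_fixV heD hu
    · apply c.faith e he.1
      intro v hv
      rw [← h] at hv
      exact mem_centralizer_zpowers_iff.mp (mem_inf.mp hv).2
  -- a maximal subgroup of `Z` with fixed points
  have hcopV : (Nat.card V).Coprime t := by
    have hVp : IsPGroup r V := isPGroup_of_exponent c.Vr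
    obtain ⟨k, hk⟩ := IsPGroup.iff_card.mp hVp
    rw [hk]
    apply Nat.Coprime.pow_left
    exact (Nat.coprime_primes hr.out ht.out).mpr hrt
  obtain ⟨H₀, hH₀, hH₀fix⟩ := exists_isMax_fix_not_le (t := t) V Z ⊥ (omegaZ_comm M t)
    (omegaZ_exp M t) hcopV (by rw [hVZ]) (fun h => c.Vne (eq_bot_iff.mpr h))
  have hV₀ : V ⊓ centralizer (H₀ : Set Γ) ≠ ⊥ := by
    intro h
    apply hH₀fix
    rw [h]
  -- `b` does not act trivially on `Z / H₀`
  have hbK : b ∉ actKer Z H₀ := by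
    intro hbK
    apply hH₀.ne
    apply le_antisymm hH₀.le
    let f : Z → Z := fun z => ⟨b * z * b⁻¹ * (z : Γ)⁻¹,
      Z.mul_mem (conj_mem_of_mem_normalizer hbZ z.2) (Z.inv_mem z.2)⟩
    have hf : Function.Injective f := by
      intro z z' hzz'
      have h1 : b * (z : Γ) * b⁻¹ * (z : Γ)⁻¹ = b * (z' : Γ) * b⁻¹ * (z' : Γ)⁻¹ :=
        congrArg Subtype.val hzz'
      have hbz : b * (z : Γ) * b⁻¹ ∈ Z := conj_mem_of_mem_normalizer hbZ z.2
      have hbz' : b * (z' : Γ) * b⁻¹ ∈ Z := conj_mem_of_mem_normalizer hbZ z'.2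
      -- `z'⁻¹ z` is fixed by `b`
      have h2 : b * ((z' : Γ)⁻¹ * z) * b⁻¹ = (z' : Γ)⁻¹ * z := by
        have e1 : b * ((z' : Γ)⁻¹ * z) * b⁻¹ = (b * z' * b⁻¹)⁻¹ * (b * z * b⁻¹) := by group
        have e2 : b * (z : Γ) * b⁻¹ = (b * z' * b⁻¹ * (z' : Γ)⁻¹) * z := by
          rw [← h1]; group
        rw [e1, e2]
        group
      have h3 : b * ((z' : Γ)⁻¹ * z) = ((z' : Γ)⁻¹ * z) * b := by
        calc b * ((z' : Γ)⁻¹ * z) = b * ((z' : Γ)⁻¹ * z) * b⁻¹ * b := by group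
          _ = ((z' : Γ)⁻¹ * z) * b := by rw [h2]
      have h4 := hE _ (Z.mul_mem (Z.inv_mem z'.2) z.2) h3
      apply Subtype.ext
      exact (inv_mul_eq_one.mp h4).symm
    intro z hz
    obtain ⟨y, hy⟩ := Finite.surjective_of_injective hf ⟨z, hz⟩
    have h1 : b * (y : Γ) * b⁻¹ * (y : Γ)⁻¹ = z := congrArg Subtype.val hy
    rw [← h1]
    exact hbK.2 y y.2
  -- the main claim
  rcases claim ht.out hrt c.r6 V Z H₀ c.Vc c.Vr (omegaZ_comm M t) (omegaZ_exp M t) hrel haZ hbZ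
    c.fixV hVZ hH₀ hV₀ with h | h | h | h
  · exact hbK h
  · exact hcomm (caseI_aux hrt c H₀ hH₀ hVZ hV₀ hbK h)
  · exact hcomm (caseI_aux hrt c.swap H₀ hH₀ hVZ hV₀ hbK h)
  · exact hcomm (caseI_aux hrt c.swap.swap H₀ hH₀ hVZ hV₀ hbK h)

end Cfsg.Agent.Helper52.S3
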