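import Mathlib
import Cfsg.Agent.Lib.Helper52.FpfS3CaseI
import Cfsg.Agent.Lib.Helper1.ZCoprime

/-!
# Fixed-point-free action of `S₃`: the case `M = T ⋊ S`
-/

set_option autoImplicit false

namespace Cfsg.Agent.Helper52.S3

open Subgroup
open scoped commutatorElement

variable {Γ : Type*} [Group Γ]

/-! ### general helper lemmas -/

theorem mem_normalizer_sup {A B : Subgroup Γ} {g : Γ} (hA : g ∈ normalizer (A : Set Γ))
    (hB : g ∈ normalizer (B : Set Γ)) : g ∈ normalizer ((A ⊔ B : Subgroup Γ) : Set Γ) := by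
  apply mem_normalizer_of_map_conj_eq
  rw [Subgroup.map_sup, map_conj_eq_of_mem_normalizer hA, map_conj_eq_of_mem_normalizer hB]

theorem mem_normalizer_commutator {A B : Subgroup Γ} {g : Γ} (hA : g ∈ normalizer (A : Set Γ))
    (hB : g ∈ normalizer (B : Set Γ)) : g ∈ normalizer ((⁅A, B⁆ : Subgroup Γ) : Set Γ) := by
  apply mem_normalizer_of_map_conj_eq
  rw [Subgroup.map_commutator, map_conj_eq_of_mem_normalizer hA, map_conj_eq_of_mem_normalizer hB]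

/-- If `T ∩ S = 1`, `T₁ ≤ T`, `S₁ ≤ S` and `T, S ≤ T₁ S₁`, then `T = T₁`, `S = S₁`. -/
theorem le_of_le_sup {T S T₁ S₁ : Subgroup Γ} (hTS : T ⊓ S = ⊥) (hT₁ : T₁ ≤ T) (hS₁ : S₁ ≤ S)
    (hnorm : S₁ ≤ normalizer (T₁ : Set Γ)) (hT : T ≤ T₁ ⊔ S₁) (hS : S ≤ T₁ ⊔ S₁) :
    T ≤ T₁ ∧ S ≤ S₁ := by
  have hrep : ∀ x ∈ T₁ ⊔ S₁, ∃ σ ∈ S₁, ∃ τ ∈ T₁, x = σ * τ := by
    intro x hx
    have hx' : x ∈ ((S₁ ⊔ T₁ : Subgroup Γ) : Set Γ) := by rw [sup_comm]; exact hx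
    rw [coe_mul_of_left_le_normalizer_right S₁ T₁ hnorm] at hx'
    obtain ⟨σ, hσ, τ, hτ, rfl⟩ := Set.mem_mul.mp hx'
    exact ⟨σ, hσ, τ, hτ, rfl⟩
  constructor
  · intro x hx
    obtain ⟨σ, hσ, τ, hτ, rfl⟩ := hrep x (hT hx)
    have h1 : σ ∈ T ⊓ S := by
      refine mem_inf.mpr ⟨?_, hS₁ hσ⟩
      have e : σ = (σ * τ) * τ⁻¹ := by group
      rw [e]; exact T.mul_mem hx (T.inv_mem (hT₁ hτ))
    rw [hTS, mem_bot] at h1
    rw [h1, one_mul]; exact hτ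
  · intro x hx
    obtain ⟨σ, hσ, τ, hτ, rfl⟩ := hrep x (hS hx)
    have h1 : τ ∈ T ⊓ S := by
      refine mem_inf.mpr ⟨hT₁ hτ, ?_⟩
      have e : τ = σ⁻¹ * (σ * τ) := by group
      rw [e]; exact S.mul_mem (S.inv_mem (hS₁ hσ)) hx
    rw [hTS, mem_bot] at h1
    rw [h1, mul_one]; exact hσ

/-- a fixed-point-free element does not act trivially modulo a proper subgroup -/
theorem not_mem_actKer_of_fpf [Finite Γ] {Y H : Subgroup Γ} {b : Γ}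
    (hbY : b ∈ normalizer (Y : Set Γ))
    (hfix : ∀ y ∈ Y, b * y = y * b → y = 1) (hHY : H ≤ Y) (hne : H ≠ Y) : b ∉ actKer Y H := by
  intro hbK
  apply hne
  apply le_antisymm hHY
  let f : Y → Y := fun z => ⟨b * z * b⁻¹ * (z : Γ)⁻¹,
    Y.mul_mem (conj_mem_of_mem_normalizer hbY z.2) (Y.inv_mem z.2)⟩
  have hf : Function.Injective f := by
    intro z z' hzz'
    have h1 : b * (z : Γ) * b⁻¹ * (z : Γ)⁻¹ = b * (z' : Γ) * b⁻¹ * (z' : Γ)⁻¹ :=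
      congrArg Subtype.val hzz'
    have h2 : b * ((z' : Γ)⁻¹ * z) * b⁻¹ = (z' : Γ)⁻¹ * z := by
      have e1 : b * ((z' : Γ)⁻¹ * z) * b⁻¹ = (b * z' * b⁻¹)⁻¹ * (b * z * b⁻¹) := by group
      have e2 : b * (z : Γ) * b⁻¹ = (b * z' * b⁻¹ * (z' : Γ)⁻¹) * z := by
        rw [← h1]; group
      rw [e1, e2]
      group
    have h3 : b * ((z' : Γ)⁻¹ * z) = ((z' : Γ)⁻¹ * z) * b := by
      calc b * ((z' : Γ)⁻¹ * z) = b * ((z' : Γ)⁻¹ * z) * b⁻¹ * b := by group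
        _ = ((z' : Γ)⁻¹ * z) * b := by rw [h2]
    have h4 := hfix _ (Y.mul_mem (Y.inv_mem z'.2) z.2) h3
    apply Subtype.ext
    exact (inv_mul_eq_one.mp h4).symm
  intro z hz
  obtain ⟨y, hy⟩ := Finite.surjective_of_injective hf ⟨z, hz⟩
  have h1 : b * (y : Γ) * b⁻¹ * (y : Γ)⁻¹ = z := congrArg Subtype.val hy
  rw [← h1]
  exact hbK.2 y y.2

/-- conjugating the acting element: `g ∈ K_{σHσ⁻¹}` gives `σ⁻¹gσ ∈ K_H` -/
theorem conj_inv_mem_actKer {Y H : Subgroup Γ} {σ g : Γ} (hσ : σ ∈ normalizer (Y : Set Γ))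
    (hg : g ∈ actKer Y (H.map (MulAut.conj σ).toMonoidHom)) : σ⁻¹ * g * σ ∈ actKer Y H := by
  refine ⟨mul_mem (mul_mem (inv_mem hσ) hg.1) hσ, ?_⟩
  intro y hy
  have hy' : σ * y * σ⁻¹ ∈ Y := conj_mem_of_mem_normalizer hσ hy
  have h1 := hg.2 _ hy'
  rw [mem_map_conj] at h1
  have e : σ⁻¹ * g * σ * y * (σ⁻¹ * g * σ)⁻¹ * y⁻¹ =
      σ⁻¹ * (g * (σ * y * σ⁻¹) * g⁻¹ * (σ * y * σ⁻¹)⁻¹) * σ := by group
  rw [e]
  exact h1

/-- an automorphism of order prime to `t` of an abelian `t`-group which is trivial on `Ω₁` is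
trivial. -/
theorem centralizes_of_centralizes_omega [Finite Γ] {t : ℕ} {T : Subgroup Γ}
    (hTc : ∀ x ∈ T, ∀ y ∈ T, x * y = y * x) {σ : Γ} (hσT : σ ∈ normalizer (T : Set Γ))
    {n : ℕ} (hσn : σ ^ n = 1) (hn : n.Coprime t)
    (hΩ : ∀ τ ∈ T, τ ^ t = 1 → σ * τ = τ * σ) :
    ∀ k : ℕ, ∀ τ ∈ T, τ ^ (t ^ k) = 1 → σ * τ = τ * σ := by
  intro k
  induction k with
  | zero =>
    intro τ _ hτ
    rw [pow_zero, pow_one] at hτ
    rw [hτ, mul_one, one_mul]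
  | succ k ih =>
    intro τ hτT hτ
    have h1 : (τ ^ t) ^ (t ^ k) = 1 := by
      rw [← pow_mul, ← pow_succ']; exact hτ
    have h2 : σ * τ ^ t = τ ^ t * σ := ih _ (pow_mem hτT t) h1
    obtain ⟨z, hz⟩ : ∃ z, z = σ * τ * σ⁻¹ * τ⁻¹ := ⟨_, rfl⟩
    have hστ : σ * τ * σ⁻¹ ∈ T := conj_mem_of_mem_normalizer hσT hτT
    have hzT : z ∈ T := by rw [hz]; exact T.mul_mem hστ (T.inv_mem hτT)
    have hzt : z ^ t = 1 := by
      have hc : Commute (σ * τ * σ⁻¹) τ⁻¹ := hTc _ hστ _ (T.inv_mem hτT)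
      rw [hz, hc.mul_pow, conj_pow, inv_pow]
      have : σ * τ ^ t * σ⁻¹ = τ ^ t := by rw [h2, mul_inv_cancel_right]
      rw [this, mul_inv_cancel]
    have hzσ : σ * z = z * σ := hΩ z hzT hzt
    -- `σ^j τ σ^-j = z^j τ`
    have hiter : ∀ j : ℕ, σ ^ j * τ * (σ ^ j)⁻¹ = z ^ j * τ := by
      intro j
      induction j with
      | zero => simp
      | succ j ihj =>
        have hc : Commute σ (z ^ j) := Commute.pow_right hzσ j
        calc σ ^ (j + 1) * τ * (σ ^ (j + 1))⁻¹ = σ * (σ ^ j * τ * (σ ^ j)⁻¹) * σ⁻¹ := by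
              rw [pow_succ']; group
          _ = σ * (z ^ j * τ) * σ⁻¹ := by rw [ihj]
          _ = (σ * z ^ j) * τ * σ⁻¹ := by group
          _ = (z ^ j * σ) * τ * σ⁻¹ := by rw [hc.eq]
          _ = z ^ j * (σ * τ * σ⁻¹ * τ⁻¹) * τ := by group
          _ = z ^ j * z * τ := by rw [← hz]
          _ = z ^ (j + 1) * τ := by rw [pow_succ]
    have h3 := hiter n
    rw [hσn] at h3
    have h4 : z ^ n = 1 := by
      have : z ^ n * τ = τ := by rw [← h3]; group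
      exact mul_eq_right.mp this
    have hz1 : z = 1 := eq_one_of_pow_coprime h4 hzt hn
    calc σ * τ = (σ * τ * σ⁻¹ * τ⁻¹) * τ * σ := by group
      _ = τ * σ := by rw [← hz, hz1, one_mul]

/-- an element of odd order whose square lies in `H` lies in `H` -/
theorem mem_of_sq_mem {H : Subgroup Γ} {x : Γ} (hodd : Odd (orderOf x)) (h : x * x ∈ H) :
    x ∈ H := by
  obtain ⟨k, hk⟩ := hodd
  have h1 : x = (x * x) ^ (k + 1) := by
    have : (x * x) ^ (k + 1) = x ^ (orderOf x) * x := by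
      rw [hk, ← pow_two, ← pow_mul, ← pow_succ]
      congr 1
    rw [this, pow_orderOf_eq_one, one_mul]
  rw [h1]
  exact pow_mem h _

/-- **Covering lemma.** An `s`-group, `s ≥ 5`, is not covered by four "cosets" of proper
subgroups. -/
theorem cover4 [Finite Γ] {s : ℕ} [hs : Fact s.Prime] (hs5 : 5 ≤ s) (S : Subgroup Γ)
    (hSs : IsPGroup s S) (P₁ P₂ P₃ P₄ : Subgroup Γ) (E₁ E₂ E₃ E₄ : Set Γ)
    (hP₁ : P₁ ≤ S) (hP₂ : P₂ ≤ S) (hP₃ : P₃ ≤ S) (hP₄ : P₄ ≤ S)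
    (hcov : ∀ σ ∈ S, σ ∈ E₁ ∨ σ ∈ E₂ ∨ σ ∈ E₃ ∨ σ ∈ E₄)
    (h₁ : ∀ σ₀ ∈ E₁, ∀ σ ∈ E₁, σ₀ * σ⁻¹ ∈ P₁) (h₂ : ∀ σ₀ ∈ E₂, ∀ σ ∈ E₂, σ₀ * σ⁻¹ ∈ P₂)
    (h₃ : ∀ σ₀ ∈ E₃, ∀ σ ∈ E₃, σ₀ * σ⁻¹ ∈ P₃) (h₄ : ∀ σ₀ ∈ E₄, ∀ σ ∈ E₄, σ₀ * σ⁻¹ ∈ P₄) :
    (E₁.Nonempty ∧ S ≤ P₁) ∨ (E₂.Nonempty ∧ S ≤ P₂) ∨ (E₃.Nonempty ∧ S ≤ P₃) ∨
      (E₄.Nonempty ∧ S ≤ P₄) := by
  by_contra hcon
  push Not at hcon
  obtain ⟨c₁, c₂, c₃, c₄⟩ := hcon
  have hbound : ∀ (P : Subgroup Γ) (E' : Set Γ), P ≤ S →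
      (∀ σ₀ ∈ E', ∀ σ ∈ E', σ₀ * σ⁻¹ ∈ P) → (E'.Nonempty → ¬ S ≤ P) →
      5 * E'.ncard ≤ Nat.card S := by
    intro P E' hPS hcos hne
    rcases Set.eq_empty_or_nonempty E' with h | h
    · rw [h, Set.ncard_empty, mul_zero]; exact Nat.zero_le _
    · obtain ⟨σ₀, hσ₀⟩ := h
      have hSP : ¬ S ≤ P := hne ⟨σ₀, hσ₀⟩
      have hsub : E' ⊆ (fun ρ => ρ⁻¹ * σ₀) '' (P : Set Γ) := by
        intro σ hσ
        refine ⟨σ₀ * σ⁻¹, hcos σ₀ hσ₀ σ hσ, ?_⟩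
        show (σ₀ * σ⁻¹)⁻¹ * σ₀ = σ
        group
      have h1 : E'.ncard ≤ Nat.card P := by
        calc E'.ncard ≤ ((fun ρ => ρ⁻¹ * σ₀) '' (P : Set Γ)).ncard :=
              Set.ncard_le_ncard hsub (Set.toFinite _)
          _ ≤ (P : Set Γ).ncard := Set.ncard_image_le (Set.toFinite _)
          _ = Nat.card P := (Nat.card_coe_set_eq _).symm
      have h2 := Cfsg.Agent.Helper52.card_mul_relIndex_eq hPS
      have h3 : s ≤ P.relIndex S := by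
        obtain ⟨l, hl⟩ := IsPGroup.iff_card.mp hSs
        have h4 : P.relIndex S ∣ s ^ l := hl ▸ relIndex_dvd_card P S
        obtain ⟨m, -, hm⟩ := (Nat.dvd_prime_pow hs.out).mp h4
        rcases m with _ | m
        · exfalso
          apply hSP
          rw [pow_zero] at hm
          exact relIndex_eq_one.mp hm
        · rw [hm]
          calc s = s ^ 1 := (pow_one s).symm
            _ ≤ s ^ (m + 1) := Nat.pow_le_pow_right hs.out.pos (by omega)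
      calc 5 * E'.ncard ≤ s * Nat.card P := Nat.mul_le_mul hs5 h1
        _ = Nat.card P * s := mul_comm _ _
        _ ≤ Nat.card P * P.relIndex S := Nat.mul_le_mul_left _ h3
        _ = Nat.card S := h2
  have b₁ := hbound P₁ E₁ hP₁ h₁ c₁
  have b₂ := hbound P₂ E₂ hP₂ h₂ c₂
  have b₃ := hbound P₃ E₃ hP₃ h₃ c₃
  have b₄ := hbound P₄ E₄ hP₄ h₄ c₄
  have hsub : (S : Set Γ) ⊆ E₁ ∪ E₂ ∪ E₃ ∪ E₄ := by
    intro σ hσ
    rcases hcov σ hσ with h | h | h | h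
    · exact Or.inl (Or.inl (Or.inl h))
    · exact Or.inl (Or.inl (Or.inr h))
    · exact Or.inl (Or.inr h)
    · exact Or.inr h
  have h1 : Nat.card S ≤ E₁.ncard + E₂.ncard + E₃.ncard + E₄.ncard := by
    calc Nat.card S = (S : Set Γ).ncard := Nat.card_coe_set_eq _
      _ ≤ (E₁ ∪ E₂ ∪ E₃ ∪ E₄).ncard := Set.ncard_le_ncard hsub (Set.toFinite _)
      _ ≤ (E₁ ∪ E₂ ∪ E₃).ncard + E₄.ncard := Set.ncard_union_le _ _
      _ ≤ (E₁ ∪ E₂).ncard + E₃.ncard + E₄.ncard := by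
          have := Set.ncard_union_le (E₁ ∪ E₂) E₃
          omega
      _ ≤ E₁.ncard + E₂.ncard + E₃.ncard + E₄.ncard := by
          have := Set.ncard_union_le E₁ E₂
          omega
  have hpos : 0 < Nat.card S := Nat.card_pos
  omega

/-- the elements `ρ` of the abelian group `S` with `x⁻¹ ρ x ρ⁻¹ ∈ K` -/
def twistKer (S K : Subgroup Γ) (x : Γ) (hSc : ∀ u ∈ S, ∀ w ∈ S, u * w = w * u)
    (hx : x ∈ normalizer (S : Set Γ)) : Subgroup Γ where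
  carrier := {ρ | ρ ∈ S ∧ x⁻¹ * ρ * x * ρ⁻¹ ∈ K}
  one_mem' := by
    refine ⟨one_mem S, ?_⟩
    have : x⁻¹ * 1 * x * (1 : Γ)⁻¹ = 1 := by group
    rw [this]; exact one_mem K
  mul_mem' := by
    rintro ρ ρ' ⟨hρ, hρK⟩ ⟨hρ', hρ'K⟩
    refine ⟨S.mul_mem hρ hρ', ?_⟩
    have hu' : x⁻¹ * ρ' * x ∈ S := conj_inv_mem_of_mem_normalizer hx hρ'
    have h1 : (x⁻¹ * ρ' * x * ρ'⁻¹) * ρ⁻¹ = ρ⁻¹ * (x⁻¹ * ρ' * x * ρ'⁻¹) :=
      hSc _ (S.mul_mem hu' (S.inv_mem hρ')) _ (S.inv_mem hρ)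
    have e : x⁻¹ * (ρ * ρ') * x * (ρ * ρ')⁻¹ =
        (x⁻¹ * ρ * x) * ((x⁻¹ * ρ' * x * ρ'⁻¹) * ρ⁻¹) := by group
    rw [e, h1]
    have e2 : (x⁻¹ * ρ * x) * (ρ⁻¹ * (x⁻¹ * ρ' * x * ρ'⁻¹)) =
        (x⁻¹ * ρ * x * ρ⁻¹) * (x⁻¹ * ρ' * x * ρ'⁻¹) := by group
    rw [e2]
    exact K.mul_mem hρK hρ'K
  inv_mem' := by
    rintro ρ ⟨hρ, hρK⟩
    refine ⟨S.inv_mem hρ, ?_⟩
    have hu : x⁻¹ * ρ * x ∈ S := conj_inv_mem_of_mem_normalizer hx hρ
    have h1 : (x⁻¹ * ρ * x)⁻¹ * ρ = ρ * (x⁻¹ * ρ * x)⁻¹ := hSc _ (S.inv_mem hu) _ hρ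
    have e : x⁻¹ * ρ⁻¹ * x * ρ⁻¹⁻¹ = (x⁻¹ * ρ * x)⁻¹ * ρ := by group
    rw [e, h1]
    have e2 : ρ * (x⁻¹ * ρ * x)⁻¹ = (x⁻¹ * ρ * x * ρ⁻¹)⁻¹ := by group
    rw [e2]
    exact K.inv_mem hρK

theorem twistKer_le (S K : Subgroup Γ) (x : Γ) (hSc : ∀ u ∈ S, ∀ w ∈ S, u * w = w * u)
    (hx : x ∈ normalizer (S : Set Γ)) : twistKer S K x hSc hx ≤ S := fun _ h => h.1

/-- two elements of `S` conjugating `x` into `K` differ by an element of `twistKer` -/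
theorem mul_inv_mem_twistKer {S K : Subgroup Γ} {x : Γ}
    (hSc : ∀ u ∈ S, ∀ w ∈ S, u * w = w * u) (hx : x ∈ normalizer (S : Set Γ)) {σ₀ σ : Γ}
    (hσ₀ : σ₀ ∈ S) (hσ : σ ∈ S) (h₀ : σ₀⁻¹ * x * σ₀ ∈ K) (h : σ⁻¹ * x * σ ∈ K) :
    σ₀ * σ⁻¹ ∈ twistKer S K x hSc hx := by
  refine ⟨S.mul_mem hσ₀ (S.inv_mem hσ), ?_⟩
  have hu : x⁻¹ * (σ₀ * σ⁻¹) * x ∈ S :=
    conj_inv_mem_of_mem_normalizer hx (S.mul_mem hσ₀ (S.inv_mem hσ))
  have h1 : σ₀⁻¹ * (x⁻¹ * (σ₀ * σ⁻¹) * x) = (x⁻¹ * (σ₀ * σ⁻¹) * x) * σ₀⁻¹ :=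
    hSc _ (S.inv_mem hσ₀) _ hu
  have h3 : σ * σ₀⁻¹ = σ₀⁻¹ * σ := hSc σ hσ _ (S.inv_mem hσ₀)
  have e : x⁻¹ * (σ₀ * σ⁻¹) * x * (σ₀ * σ⁻¹)⁻¹ = (x⁻¹ * (σ₀ * σ⁻¹) * x) * (σ * σ₀⁻¹) := by group
  rw [e, h3]
  have e3 : (x⁻¹ * (σ₀ * σ⁻¹) * x) * (σ₀⁻¹ * σ) = ((x⁻¹ * (σ₀ * σ⁻¹) * x) * σ₀⁻¹) * σ := by group
  rw [e3, ← h1]
  have e2 : σ₀⁻¹ * (x⁻¹ * (σ₀ * σ⁻¹) * x) * σ = (σ₀⁻¹ * x * σ₀)⁻¹ * (σ⁻¹ * x * σ) := by group
  rw [e2]
  exact K.mul_mem (K.inv_mem h₀) h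

/-- if all of `S` lies in `twistKer` and some conjugate of `x` lies in `K`, then `x ∈ K` -/
theorem mem_of_le_twistKer {S K : Subgroup Γ} {x : Γ}
    (hSc : ∀ u ∈ S, ∀ w ∈ S, u * w = w * u) (hx : x ∈ normalizer (S : Set Γ)) {σ₀ : Γ}
    (hσ₀ : σ₀ ∈ S) (h₀ : σ₀⁻¹ * x * σ₀ ∈ K) (hle : S ≤ twistKer S K x hSc hx) : x ∈ K := by
  have h2 : x⁻¹ * σ₀ * x * σ₀⁻¹ ∈ K := (hle hσ₀).2
  have hu : x⁻¹ * σ₀ * x ∈ S := conj_inv_mem_of_mem_normalizer hx hσ₀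
  have h1 : σ₀⁻¹ * (x⁻¹ * σ₀ * x) = (x⁻¹ * σ₀ * x) * σ₀⁻¹ := hSc _ (S.inv_mem hσ₀) _ hu
  have e : x = (σ₀⁻¹ * x * σ₀) * (σ₀⁻¹ * (x⁻¹ * σ₀ * x)) := by group
  rw [e, h1]
  exact K.mul_mem h₀ h2

/-! ### the context of the second case -/

/-- the data of the second case: `M = T ⋊ S` -/
structure CtxII (V M T S : Subgroup Γ) (a b : Γ) (r t s : ℕ) : Prop where
  c : Ctx V M a b r
  hTM : T ≤ M
  hSM : S ≤ M
  hMT : M ≤ normalizer (T : Set Γ)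
  haT : a ∈ normalizer (T : Set Γ)
  hbT : b ∈ normalizer (T : Set Γ)
  haS : a ∈ normalizer (S : Set Γ)
  hbS : b ∈ normalizer (S : Set Γ)
  hTc : ∀ x ∈ T, ∀ y ∈ T, x * y = y * x
  hSc : ∀ x ∈ S, ∀ y ∈ S, x * y = y * x
  hTexp : ∀ x ∈ T, x ^ t = 1
  hSs : IsPGroup s S
  hst : s ≠ t
  hrt : r ≠ t
  hTS : T ⊔ S = M
  hmin : ∀ M₀ : Subgroup Γ, M₀ ≤ M → M₀ ≠ M → a ∈ normalizer (M₀ : Set Γ) →
    b ∈ normalizer (M₀ : Set Γ) → ∀ x ∈ M₀, ∀ y ∈ M₀, x * y = y * x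
  hcomm : T ≤ ⁅T, S⁆
  hfixS : ∀ τ ∈ T, (∀ σ ∈ S, σ * τ = τ * σ) → τ = 1
  hnc : ¬ ∀ τ ∈ T, ∀ σ ∈ S, σ * τ = τ * σ

namespace CtxII

variable {V M T S : Subgroup Γ} {a b : Γ} {r t s : ℕ}

theorem hST (d : CtxII V M T S a b r t s) : S ≤ normalizer (T : Set Γ) := d.hSM.trans d.hMT

theorem T_ne_bot (d : CtxII V M T S a b r t s) : T ≠ ⊥ := by
  intro h
  apply d.hnc
  intro τ hτ σ _
  rw [h, mem_bot] at hτ
  rw [hτ, mul_one, one_mul]

theorem inf_eq_bot [Finite Γ] [hs : Fact s.Prime] [ht : Fact t.Prime]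
    (d : CtxII V M T S a b r t s) : T ⊓ S = ⊥ := by
  have hTt : IsPGroup t T := isPGroup_of_exponent d.hTexp
  obtain ⟨k, hk⟩ := IsPGroup.iff_card.mp hTt
  obtain ⟨l, hl⟩ := IsPGroup.iff_card.mp d.hSs
  apply (disjoint_of_coprime_natCard _).eq_bot
  rw [hk, hl]
  apply Nat.Coprime.pow
  exact (Nat.coprime_primes ht.out hs.out).mpr (Ne.symm d.hst)

/-- an invariant subgroup of the form `T₁ S₁` is all of `M` or commutative -/
theorem dichotomy (d : CtxII V M T S a b r t s) (T₁ S₁ : Subgroup Γ) (hT₁ : T₁ ≤ M)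
    (hS₁ : S₁ ≤ M) (haT₁ : a ∈ normalizer (T₁ : Set Γ)) (hbT₁ : b ∈ normalizer (T₁ : Set Γ))
    (haS₁ : a ∈ normalizer (S₁ : Set Γ)) (hbS₁ : b ∈ normalizer (S₁ : Set Γ)) :
    T₁ ⊔ S₁ = M ∨ ∀ x ∈ T₁, ∀ y ∈ S₁, y * x = x * y := by
  by_cases h : T₁ ⊔ S₁ = M
  · exact Or.inl h
  · right
    have := d.hmin (T₁ ⊔ S₁) (sup_le hT₁ hS₁) h (mem_normalizer_sup haT₁ haS₁)
      (mem_normalizer_sup hbT₁ hbS₁)
    intro x hx y hy
    exact this y (mem_sup_right hy) x (mem_sup_left hx)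

/-- `C_V(T) = 1` -/
theorem fixT (d : CtxII V M T S a b r t s) : V ⊓ centralizer (T : Set Γ) = ⊥ :=
  (d.c.fix_eq_bot T d.hTM d.hMT d.haT d.hbT).resolve_right d.T_ne_bot

theorem coprimeVt [hr : Fact r.Prime] [ht : Fact t.Prime] [Finite Γ]
    (d : CtxII V M T S a b r t s) : (Nat.card V).Coprime t := by
  have hVp : IsPGroup r V := isPGroup_of_exponent d.c.Vr
  obtain ⟨k, hk⟩ := IsPGroup.iff_card.mp hVp
  rw [hk]
  apply Nat.Coprime.pow_left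
  exact (Nat.coprime_primes hr.out ht.out).mpr d.hrt

/-- a maximal subgroup of `T` with fixed points exists -/
theorem exists_max [hr : Fact r.Prime] [ht : Fact t.Prime] [Finite Γ]
    (d : CtxII V M T S a b r t s) :
    ∃ H : Subgroup Γ, IsMax H T ∧ V ⊓ centralizer (H : Set Γ) ≠ ⊥ := by
  have := d.c.Vn
  obtain ⟨H, hH, hHfix⟩ := exists_isMax_fix_not_le (t := t) V T ⊥ d.hTc d.hTexp d.coprimeVt
    (by rw [d.fixT]) (fun h => d.c.Vne (eq_bot_iff.mpr h))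
  refine ⟨H, hH, ?_⟩
  intro h
  apply hHfix
  rw [h]

/-- an element of `T` lying in all maximal subgroups with fixed points is trivial -/
theorem eq_one_of_mem_all [hr : Fact r.Prime] [ht : Fact t.Prime] [Finite Γ]
    (d : CtxII V M T S a b r t s) {x : Γ} (hxT : x ∈ T)
    (hx : ∀ H : Subgroup Γ, IsMax H T → V ⊓ centralizer (H : Set Γ) ≠ ⊥ → x ∈ H) : x = 1 := by
  have := d.c.Vn
  apply d.c.faith x (d.hTM hxT)
  exact centralizes_of_mem_all (t := t) V T d.hTc d.hTexp d.coprimeVt d.fixT hx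

/-- the main claim for `T` -/
theorem claimT [hr : Fact r.Prime] [ht : Fact t.Prime] [Finite Γ]
    (d : CtxII V M T S a b r t s) {H : Subgroup Γ} (hH : IsMax H T)
    (hVH : V ⊓ centralizer (H : Set Γ) ≠ ⊥) :
    b ∈ actKer T H ∨ a ∈ actKer T H ∨ a * b ∈ actKer T H ∨ a * b * b ∈ actKer T H := by
  have := d.c.Vn
  exact claim ht.out d.hrt d.c.r6 V T H d.c.Vc d.c.Vr d.hTc d.hTexp d.c.rel d.haT d.hbT d.c.fixV
    d.fixT hH hVH

/-- conjugates under `N(T)` of maximal subgroups with fixed points -/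
theorem conj_max (d : CtxII V M T S a b r t s) {H : Subgroup Γ} (hH : IsMax H T)
    (hVH : V ⊓ centralizer (H : Set Γ) ≠ ⊥) {σ : Γ} (hσ : σ ∈ normalizer (T : Set Γ)) :
    IsMax (H.map (MulAut.conj σ).toMonoidHom) T ∧
      V ⊓ centralizer ((H.map (MulAut.conj σ).toMonoidHom : Subgroup Γ) : Set Γ) ≠ ⊥ := by
  refine ⟨hH.conj hσ, ?_⟩
  intro hbot
  apply hVH
  rw [eq_bot_iff]
  intro v hv
  rw [mem_bot]
  have h1 : σ * v * σ⁻¹ ∈ V ⊓ centralizer ((H.map (MulAut.conj σ).toMonoidHom : Subgroup Γ) : Set Γ) := by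
    refine mem_inf.mpr ⟨d.c.conjV σ (mem_inf.mp hv).1, ?_⟩
    rw [mem_centralizer_iff]
    rintro h ⟨k, hk, rfl⟩
    have h2 : k * v = v * k := (mem_centralizer_iff.mp (mem_inf.mp hv).2) k hk
    simp only [MulEquiv.coe_toMonoidHom, MulAut.conj_apply]
    calc σ * k * σ⁻¹ * (σ * v * σ⁻¹) = σ * (k * v) * σ⁻¹ := by group
      _ = σ * (v * k) * σ⁻¹ := by rw [h2]
      _ = σ * v * σ⁻¹ * (σ * k * σ⁻¹) := by group
  rw [hbot, mem_bot] at h1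
  calc v = σ⁻¹ * (σ * v * σ⁻¹) * σ := by group
    _ = 1 := by rw [h1]; group

/-- the three involutions -/
theorem invol_props (hrel : Rel a b) {g : Γ} (hg : g = a ∨ g = a * b ∨ g = a * b * b) :
    g * g = 1 ∧ g ∈ A6 a b := by
  rcases hg with rfl | rfl | rfl
  · exact ⟨hrel.a_sq, mem_A6_a _ _⟩
  · exact ⟨hrel.ab_sq, mul_mem (mem_A6_a _ _) (mem_A6_b _ _)⟩
  · exact ⟨hrel.swap.ab_sq, mul_mem (mul_mem (mem_A6_a _ _) (mem_A6_b _ _)) (mem_A6_b _ _)⟩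

/-- **Subcase (a)**: `b` acts trivially on `S / C_S(T)`. -/
theorem false_a [Finite Γ] [hr : Fact r.Prime] [ht : Fact t.Prime] [hs : Fact s.Prime]
    (d : CtxII V M T S a b r t s)
    (ha : ∀ σ ∈ S, b * σ * b⁻¹ * σ⁻¹ ∈ S ⊓ centralizer (T : Set Γ)) : False := by
  have hrel := d.c.rel
  set S₀ : Subgroup Γ := S ⊓ centralizer (T : Set Γ) with hS₀
  set S₁ : Subgroup Γ := S ⊓ centralizer ((zpowers b : Subgroup Γ) : Set Γ) with hS₁
  have hbS₀ : b ∈ normalizer (S₀ : Set Γ) := mem_normalizer_fix d.hbS d.hbT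
  have haS₁ : a ∈ normalizer (S₁ : Set Γ) :=
    mem_normalizer_fix d.haS (a_mem_normalizer_zpowers hrel)
  have hbS₁ : b ∈ normalizer (S₁ : Set Γ) :=
    mem_normalizer_fix d.hbS (le_normalizer (mem_zpowers b))
  have hM6 := d.c.M6
  have hScard : Nat.card S ∣ Nat.card M := card_dvd_of_le d.hSM
  -- `S = S₀ S₁`
  have hdecomp : ∀ σ ∈ S, ∃ n ∈ S₀, ∃ c' ∈ S₁, σ = n * c' := by
    intro σ hσ
    have hcop : (Nat.card (zpowers b)).Coprime (Nat.card S) := by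
      rw [Nat.card_zpowers]
      have h1 : orderOf b ∣ 3 := orderOf_dvd_of_pow_eq_one hrel.b_pow
      have h2 : (Nat.card S).Coprime 3 :=
        Nat.Coprime.coprime_dvd_right (by norm_num : 3 ∣ 6)
          (Nat.Coprime.coprime_dvd_left hScard hM6)
      exact (Nat.Coprime.coprime_dvd_right h1 h2).symm
    apply Cfsg.Agent.Helper52.exists_mul_centralizer_of_comm_mem S S₀ (zpowers b) inf_le_left
      ((zpowers_le).mpr d.hbS) ((zpowers_le).mpr hbS₀) hcop (Or.inr (isSolvable_zpowers b)) σ hσ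
    intro β hβ
    have hbK : b ∈ actKer S S₀ := ⟨d.hbS, ha⟩
    have hβK : β ∈ actKer S S₀ := ((zpowers_le).mpr hbK) hβ
    have h1 := hβK.2 σ⁻¹ (S.inv_mem hσ)
    have h2 : σ * (β * σ⁻¹ * β⁻¹ * σ⁻¹⁻¹) = (β * σ⁻¹ * β⁻¹ * σ⁻¹⁻¹) * σ :=
      d.hSc σ hσ _ (mem_inf.mp h1).1
    have e : σ * β * σ⁻¹ * β⁻¹ = σ * (β * σ⁻¹ * β⁻¹ * σ⁻¹⁻¹) * σ⁻¹ := by group
    rw [e, h2, mul_inv_cancel_right]
    exact h1
  -- `b` centralizes `S`
  have hbS' : ∀ σ ∈ S, b * σ = σ * b := by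
    rcases d.dichotomy T S₁ d.hTM (inf_le_left.trans d.hSM) d.haT d.hbT haS₁ hbS₁ with h | h
    · have h1 := (le_of_le_sup d.inf_eq_bot le_rfl inf_le_left
        (inf_le_left.trans d.hST) le_sup_left (by rw [h]; exact d.hSM)).2
      intro σ hσ
      exact mem_centralizer_zpowers_iff.mp (mem_inf.mp (h1 hσ)).2
    · exfalso
      apply d.hnc
      intro τ hτ σ hσ
      obtain ⟨n, hn, c', hc', rfl⟩ := hdecomp σ hσ
      have h1 : n * τ = τ * n := ((mem_centralizer_iff.mp (mem_inf.mp hn).2) τ hτ).symm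
      have h2 : c' * τ = τ * c' := h τ hτ c' hc'
      calc n * c' * τ = n * (c' * τ) := by group
        _ = n * (τ * c') := by rw [h2]
        _ = (n * τ) * c' := by group
        _ = τ * n * c' := by rw [h1]
        _ = τ * (n * c') := by group
  -- the involutions invert `S`
  have hinvS : ∀ g : Γ, (g = a ∨ g = a * b ∨ g = a * b * b) → ∀ σ ∈ S, g * σ * g⁻¹ = σ⁻¹ := by
    intro g hg σ hσ
    have h0 : a * σ * a⁻¹ = σ⁻¹ :=
      d.c.invM σ (mem_inf.mpr ⟨d.hSM hσ, mem_centralizer_zpowers_iff.mpr (hbS' σ hσ)⟩)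
    have h1 : b * σ * b⁻¹ = σ := by rw [hbS' σ hσ, mul_inv_cancel_right]
    rcases hg with rfl | rfl | rfl
    · exact h0
    · calc a * b * σ * (a * b)⁻¹ = a * (b * σ * b⁻¹) * a⁻¹ := by group
        _ = σ⁻¹ := by rw [h1, h0]
    · calc a * b * b * σ * (a * b * b)⁻¹ = a * (b * (b * σ * b⁻¹) * b⁻¹) * a⁻¹ := by group
        _ = σ⁻¹ := by rw [h1, h1, h0]
  -- `b` has no fixed points on `T`
  have hbT' : ∀ τ ∈ T, b * τ = τ * b → τ = 1 := by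
    intro τ hτ hbτ
    apply d.hfixS τ hτ
    intro σ hσ
    have hD := commute_of_inverted _ a d.c.invM
    exact hD σ (mem_inf.mpr ⟨d.hSM hσ, mem_centralizer_zpowers_iff.mpr (hbS' σ hσ)⟩) τ
      (mem_inf.mpr ⟨d.hTM hτ, mem_centralizer_zpowers_iff.mpr hbτ⟩)
  -- choose a maximal subgroup
  obtain ⟨H, hH, hVH⟩ := d.exists_max
  have hinvol : ∀ H' : Subgroup Γ, IsMax H' T → V ⊓ centralizer (H' : Set Γ) ≠ ⊥ →
      ∃ g : Γ, (g = a ∨ g = a * b ∨ g = a * b * b) ∧ g ∈ actKer T H' := by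
    intro H' hH' hVH'
    have hb := not_mem_actKer_of_fpf d.hbT hbT' hH'.le hH'.ne
    rcases d.claimT hH' hVH' with h | h | h | h
    · exact absurd h hb
    · exact ⟨a, Or.inl rfl, h⟩
    · exact ⟨a * b, Or.inr (Or.inl rfl), h⟩
    · exact ⟨a * b * b, Or.inr (Or.inr rfl), h⟩
  have hMpow : ∀ m ∈ M, m ^ Nat.card M = 1 := by
    intro m hm
    have := pow_card_eq_one' (G := M) (x := ⟨m, hm⟩)
    have h2 := congrArg Subtype.val this
    rw [Subgroup.coe_pow, Subgroup.coe_one] at h2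
    exact h2
  -- all of `S` acts trivially on `T / H`
  have hSK : ∀ σ ∈ S, σ ∈ actKer T H := by
    intro σ hσ
    obtain ⟨g, hg, hgK⟩ := hinvol H hH hVH
    obtain ⟨hH', hVH'⟩ := d.conj_max hH hVH (d.hST hσ)
    obtain ⟨g', hg', hg'K⟩ := hinvol _ hH' hVH'
    have hg'K' := conj_inv_mem_actKer (d.hST hσ) hg'K
    obtain ⟨hgg, hgA⟩ := invol_props hrel hg
    obtain ⟨hg'g', hg'A⟩ := invol_props hrel hg'
    have hg'inv : g'⁻¹ = g' := inv_eq_of_mul_eq_one_left hg'g'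
    have h1 : g' * σ * g'⁻¹ = σ⁻¹ := hinvS g' hg' σ hσ
    have h2 : g * σ * g⁻¹ = σ⁻¹ := hinvS g hg σ hσ
    have h3 : σ⁻¹ * g' * σ = g' * (σ * σ) := by
      have : g' * σ⁻¹ * g'⁻¹ = σ := by
        calc g' * σ⁻¹ * g'⁻¹ = (g' * σ * g'⁻¹)⁻¹ := by group
          _ = σ := by rw [h1, inv_inv]
      calc σ⁻¹ * g' * σ = g' * (g'⁻¹ * σ⁻¹ * g') * σ := by group
        _ = g' * (g' * σ⁻¹ * g'⁻¹) * σ := by rw [hg'inv]
        _ = g' * (σ * σ) := by rw [this]; group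
    have hy : g * g' * (σ * σ) ∈ actKer T H := by
      have := mul_mem hgK hg'K'
      rw [h3] at this
      have e : g * (g' * (σ * σ)) = g * g' * (σ * σ) := by group
      rwa [e] at this
    have hβσ : Commute (g * g') (σ * σ) := by
      have : (g * g') * σ * (g * g')⁻¹ = σ := by
        calc (g * g') * σ * (g * g')⁻¹ = g * (g' * σ * g'⁻¹) * g⁻¹ := by group
          _ = g * σ⁻¹ * g⁻¹ := by rw [h1]
          _ = (g * σ * g⁻¹)⁻¹ := by group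
          _ = σ := by rw [h2, inv_inv]
      have hc : Commute (g * g') σ := by
        show (g * g') * σ = σ * (g * g')
        calc (g * g') * σ = (g * g') * σ * (g * g')⁻¹ * (g * g') := by group
          _ = σ * (g * g') := by rw [this]
      exact hc.mul_right hc
    have hβ6 : (g * g') ^ 6 = 1 := by
      have hmem : g * g' ∈ A6 a b := mul_mem hgA hg'A
      have h4 := pow_card_eq_one' (G := A6 a b) (x := ⟨g * g', hmem⟩)
      have h5 := congrArg Subtype.val h4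
      rw [Subgroup.coe_pow, Subgroup.coe_one] at h5
      obtain ⟨k, hk⟩ := card_A6_dvd hrel
      rw [hk, pow_mul, h5, one_pow]
    have hy6 : (σ * σ) ^ 6 ∈ actKer T H := by
      have := pow_mem hy 6
      rwa [hβσ.mul_pow, hβ6, one_mul] at this
    have h12 : σ ^ 12 ∈ actKer T H := by
      have e : (σ * σ) ^ 6 = σ ^ 12 := by rw [← pow_two, ← pow_mul]
      rwa [e] at hy6
    have hcop12 : Nat.Coprime 12 (Nat.card M) := by
      have h2' : Nat.Coprime 2 (Nat.card M) :=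
        (Nat.Coprime.coprime_dvd_right (by norm_num : 2 ∣ 6) hM6).symm
      have h3' : Nat.Coprime 3 (Nat.card M) :=
        (Nat.Coprime.coprime_dvd_right (by norm_num : 3 ∣ 6) hM6).symm
      have : (12 : ℕ) = 2 * 2 * 3 := by norm_num
      rw [this]
      exact Nat.Coprime.mul_left (Nat.Coprime.mul_left h2' h2') h3'
    obtain ⟨u, hu⟩ := exists_zpow_eq (hMpow σ (d.hSM hσ)) hcop12
    have e : (σ ^ u) ^ 12 = (σ ^ 12) ^ u := by
      rw [← zpow_natCast, ← zpow_mul, mul_comm, zpow_mul, zpow_natCast]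
    rw [← hu, e]
    exact zpow_mem h12 u
  -- contradiction
  apply hH.ne
  apply le_antisymm hH.le
  refine d.hcomm.trans ?_
  rw [commutator_le]
  intro τ hτ σ hσ
  have h1 := (hSK σ hσ).2 τ⁻¹ (T.inv_mem hτ)
  have hστ : σ * τ⁻¹ * σ⁻¹ ∈ T := conj_mem_of_mem_normalizer (d.hST hσ) (T.inv_mem hτ)
  have h2 : τ * (σ * τ⁻¹ * σ⁻¹) = (σ * τ⁻¹ * σ⁻¹) * τ := d.hTc τ hτ _ hστ
  have e : ⁅τ, σ⁆ = τ * (σ * τ⁻¹ * σ⁻¹) := by
    rw [commutatorElement_def]; group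
  rw [e, h2]
  have e2 : σ * τ⁻¹ * σ⁻¹ * τ = σ * τ⁻¹ * σ⁻¹ * τ⁻¹⁻¹ := by group
  rw [e2]
  exact h1

/-- `S` does not act trivially on `T / H` for a proper subgroup `H` -/
theorem not_le_actKer (d : CtxII V M T S a b r t s) {H : Subgroup Γ} (hH : IsMax H T) :
    ¬ ∀ σ ∈ S, σ ∈ actKer T H := by
  intro hSK
  apply hH.ne
  apply le_antisymm hH.le
  refine d.hcomm.trans ?_
  rw [commutator_le]
  intro τ hτ σ hσ
  have h1 := (hSK σ hσ).2 τ⁻¹ (T.inv_mem hτ)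
  have hστ : σ * τ⁻¹ * σ⁻¹ ∈ T := conj_mem_of_mem_normalizer (d.hST hσ) (T.inv_mem hτ)
  have h2 : τ * (σ * τ⁻¹ * σ⁻¹) = (σ * τ⁻¹ * σ⁻¹) * τ := d.hTc τ hτ _ hστ
  have e : ⁅τ, σ⁆ = τ * (σ * τ⁻¹ * σ⁻¹) := by
    rw [commutatorElement_def]; group
  rw [e, h2]
  have e2 : σ * τ⁻¹ * σ⁻¹ * τ = σ * τ⁻¹ * σ⁻¹ * τ⁻¹⁻¹ := by group
  rw [e2]
  exact h1

/-- **Subcase (b)**: `b` acts without fixed points on `S / C_S(T)`. -/
theorem false_b [Finite Γ] [hr : Fact r.Prime] [ht : Fact t.Prime] [hs : Fact s.Prime]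
    (d : CtxII V M T S a b r t s)
    (hb : ∀ σ ∈ S, b * σ * b⁻¹ * σ⁻¹ ∈ S ⊓ centralizer (T : Set Γ) →
      σ ∈ S ⊓ centralizer (T : Set Γ)) : False := by
  have hrel := d.c.rel
  have hM6 := d.c.M6
  have hScard : Nat.card S ∣ Nat.card M := card_dvd_of_le d.hSM
  have hS6 : (Nat.card S).Coprime 6 := Nat.Coprime.coprime_dvd_left hScard hM6
  -- `S` is nontrivial and `s ≥ 5`
  have hSne : S ≠ ⊥ := by
    intro h
    apply d.hnc
    intro τ _ σ hσ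
    rw [h, mem_bot] at hσ
    rw [hσ, mul_one, one_mul]
  have hs5 : 5 ≤ s := by
    obtain ⟨l, hl⟩ := IsPGroup.iff_card.mp d.hSs
    have hl0 : l ≠ 0 := by
      rintro rfl
      rw [pow_zero] at hl
      exact hSne (card_eq_one.mp hl)
    have h1 : s ∣ Nat.card S := by rw [hl]; exact dvd_pow_self s hl0
    have h2 : s.Coprime 6 := Nat.Coprime.coprime_dvd_left h1 hS6
    have h3 := hs.out.two_le
    by_contra hlt
    push Not at hlt
    interval_cases s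
    · norm_num at h2
    · norm_num at h2
    · exact absurd hs.out (by norm_num)
  have hsub : ∀ σ ∈ S, (∀ τ ∈ T, σ * τ = τ * σ) → σ ∈ S ⊓ centralizer (T : Set Γ) := by
    intro σ hσ h
    refine mem_inf.mpr ⟨hσ, ?_⟩
    rw [mem_centralizer_iff]
    intro τ hτ
    exact (h τ hτ).symm
  -- `b` has a nontrivial fixed point on `T`
  have hTb : ¬ ∀ τ ∈ T, b * τ = τ * b → τ = 1 := by
    intro hfix
    have hTel : Cfsg.IsElementaryAbelian t T :=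
      ⟨⟨⟨fun x y => Subtype.ext (d.hTc x x.2 y y.2)⟩⟩, d.hTexp⟩
    have hfix' : T ⊓ centralizer ({b} : Set Γ) = ⊥ := by
      rw [eq_bot_iff]
      intro τ hτ
      rw [mem_bot]
      apply hfix τ (mem_inf.mp hτ).1
      exact (mem_centralizer_iff.mp (mem_inf.mp hτ).2) b rfl
    have key := Cfsg.Agent.Helper48.SympRep.frob_group (p := t) (q := s) (r := 3) hs.out
      (by norm_num) (Ne.symm d.hst) T S b hTel d.hST d.hbT d.hSs hrel.b_pow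
      (fun u hu => conj_mem_of_mem_normalizer d.hbS hu) d.hSc hfix'
    apply d.hnc
    intro τ hτ ρ hρ
    have h1 := key ρ⁻¹ (S.inv_mem hρ)
    have hbρ : b * ρ * b⁻¹ ∈ S := conj_mem_of_mem_normalizer d.hbS hρ
    have h2 : ρ⁻¹ * (b * ρ * b⁻¹) = (b * ρ * b⁻¹) * ρ⁻¹ := d.hSc _ (S.inv_mem hρ) _ hbρ
    have e : ρ⁻¹ * b * ρ⁻¹⁻¹ * b⁻¹ = ρ⁻¹ * (b * ρ * b⁻¹) := by group
    rw [e, h2] at h1
    have h3 : b * ρ * b⁻¹ * ρ⁻¹ ∈ S ⊓ centralizer (T : Set Γ) :=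
      mem_inf.mpr ⟨S.mul_mem hbρ (S.inv_mem hρ), h1⟩
    have h4 := hb ρ hρ h3
    exact ((mem_centralizer_iff.mp (mem_inf.mp h4).2) τ hτ).symm
  -- every maximal subgroup with fixed points contains the fixed points of `b`
  have key : ∀ H : Subgroup Γ, IsMax H T → V ⊓ centralizer (H : Set Γ) ≠ ⊥ →
      ∀ τ ∈ T, b * τ = τ * b → τ ∈ H := by
    intro H hH hVH τ hτ hbτ
    set K : Subgroup Γ := actKer T H with hK
    have haS := d.haS
    have hbS := d.hbS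
    have habS : a * b ∈ normalizer (S : Set Γ) := mul_mem haS hbS
    have habbS : a * b * b ∈ normalizer (S : Set Γ) := mul_mem habS hbS
    -- the covering
    have hcov : ∀ σ ∈ S, σ ∈ {σ | σ ∈ S ∧ σ⁻¹ * b * σ ∈ K} ∨
        σ ∈ {σ | σ ∈ S ∧ σ⁻¹ * a * σ ∈ K} ∨ σ ∈ {σ | σ ∈ S ∧ σ⁻¹ * (a * b) * σ ∈ K} ∨
        σ ∈ {σ | σ ∈ S ∧ σ⁻¹ * (a * b * b) * σ ∈ K} := by
      intro σ hσ
      obtain ⟨hH', hVH'⟩ := d.conj_max hH hVH (d.hST hσ)
      rcases d.claimT hH' hVH' with h | h | h | h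
      · exact Or.inl ⟨hσ, conj_inv_mem_actKer (d.hST hσ) h⟩
      · exact Or.inr (Or.inl ⟨hσ, conj_inv_mem_actKer (d.hST hσ) h⟩)
      · exact Or.inr (Or.inr (Or.inl ⟨hσ, conj_inv_mem_actKer (d.hST hσ) h⟩))
      · exact Or.inr (Or.inr (Or.inr ⟨hσ, conj_inv_mem_actKer (d.hST hσ) h⟩))
    have hcos : ∀ (x : Γ) (hx : x ∈ normalizer (S : Set Γ)),
        ∀ σ₀ ∈ {σ | σ ∈ S ∧ σ⁻¹ * x * σ ∈ K}, ∀ σ ∈ {σ | σ ∈ S ∧ σ⁻¹ * x * σ ∈ K},
        σ₀ * σ⁻¹ ∈ twistKer S K x d.hSc hx := by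
      intro x hx σ₀ hσ₀ σ hσ
      exact mul_inv_mem_twistKer d.hSc hx hσ₀.1 hσ.1 hσ₀.2 hσ.2
    have hfin : ∀ (x : Γ) (hx : x ∈ normalizer (S : Set Γ)),
        ({σ | σ ∈ S ∧ σ⁻¹ * x * σ ∈ K} : Set Γ).Nonempty → S ≤ twistKer S K x d.hSc hx →
        x ∈ K := by
      intro x hx hne hle
      obtain ⟨σ₀, hσ₀⟩ := hne
      exact mem_of_le_twistKer d.hSc hx hσ₀.1 hσ₀.2 hle
    -- an involution in `K` suffices
    have hinvol : ∀ g : Γ, (∀ e ∈ M ⊓ centralizer ((zpowers b : Subgroup Γ) : Set Γ),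
        g * e * g⁻¹ = e⁻¹) → g ∈ K → τ ∈ H := by
      intro g hginv hgK
      have hτD : τ ∈ M ⊓ centralizer ((zpowers b : Subgroup Γ) : Set Γ) :=
        mem_inf.mpr ⟨d.hTM hτ, mem_centralizer_zpowers_iff.mpr hbτ⟩
      have h1 := hgK.2 τ hτ
      rw [hginv τ hτD] at h1
      have h2 : τ⁻¹ ∈ H := mem_of_sq_mem (by
        rw [orderOf_inv]; exact d.c.odd_orderOf (d.hTM hτ)) h1
      simpa using H.inv_mem h2
    rcases cover4 hs5 S d.hSs (twistKer S K b d.hSc hbS) (twistKer S K a d.hSc haS)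
      (twistKer S K (a * b) d.hSc habS) (twistKer S K (a * b * b) d.hSc habbS)
      _ _ _ _ (twistKer_le _ _ _ _ _) (twistKer_le _ _ _ _ _) (twistKer_le _ _ _ _ _)
      (twistKer_le _ _ _ _ _) hcov (hcos b hbS) (hcos a haS) (hcos (a * b) habS)
      (hcos (a * b * b) habbS) with h | h | h | h
    · -- `x = b`: then all of `S` acts trivially, impossible
      exfalso
      have hbK : b ∈ K := hfin b hbS h.1 h.2
      apply d.not_le_actKer hH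
      have hS₀K : ∀ σ ∈ S ⊓ centralizer (T : Set Γ), σ ∈ K := by
        intro σ hσ
        refine ⟨d.hST (mem_inf.mp hσ).1, ?_⟩
        intro y hy
        have h1 : σ * y = y * σ := ((mem_centralizer_iff.mp (mem_inf.mp hσ).2) y hy).symm
        have : σ * y * σ⁻¹ * y⁻¹ = 1 := by rw [h1]; group
        rw [this]; exact one_mem H
      have hbinv : b⁻¹ ∈ actKer S (K ⊓ S) := by
        refine ⟨inv_mem hbS, ?_⟩
        intro ρ hρ
        have h1 := (h.2 hρ).2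
        have e : b⁻¹ * ρ * b⁻¹⁻¹ * ρ⁻¹ = b⁻¹ * ρ * b * ρ⁻¹ := by group
        rw [e]
        refine mem_inf.mpr ⟨h1, ?_⟩
        exact S.mul_mem (conj_inv_mem_of_mem_normalizer hbS hρ) (S.inv_mem hρ)
      have hzp : zpowers b ≤ actKer S (K ⊓ S) := by
        rw [zpowers_le]
        have := inv_mem hbinv
        rwa [inv_inv] at this
      have hcomm : ⁅S, zpowers b⁆ ≤ K := by
        rw [commutator_le]
        intro ρ hρ β hβ
        have h1 := (hzp hβ).2 ρ⁻¹ (S.inv_mem hρ)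
        have h2 : ρ * (β * ρ⁻¹ * β⁻¹ * ρ⁻¹⁻¹) = (β * ρ⁻¹ * β⁻¹ * ρ⁻¹⁻¹) * ρ :=
          d.hSc ρ hρ _ (mem_inf.mp h1).2
        have e : ⁅ρ, β⁆ = ρ * (β * ρ⁻¹ * β⁻¹ * ρ⁻¹⁻¹) * ρ⁻¹ := by
          rw [commutatorElement_def]; group
        rw [e, h2, mul_inv_cancel_right]
        exact (mem_inf.mp h1).1
      intro σ hσ
      have hcop : (Nat.card (zpowers b)).Coprime (Nat.card S) := by
        rw [Nat.card_zpowers]
        have h1 : orderOf b ∣ 3 := orderOf_dvd_of_pow_eq_one hrel.b_pow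
        have h2 : (Nat.card S).Coprime 3 :=
          Nat.Coprime.coprime_dvd_right (by norm_num : 3 ∣ 6) hS6
        exact (Nat.Coprime.coprime_dvd_right h1 h2).symm
      obtain ⟨n, hn, c', hc', rfl⟩ := Cfsg.Agent.Helper52.exists_commutator_mul_centralizer S
        (zpowers b) ((zpowers_le).mpr hbS) hcop (Or.inl (isSolvable_zpowers b)) σ hσ
      have hc'S : c' ∈ S := (mem_inf.mp hc').1
      have hc'b : b * c' = c' * b := mem_centralizer_zpowers_iff.mp (mem_inf.mp hc').2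
      have h1 : b * c' * b⁻¹ * c'⁻¹ ∈ S ⊓ centralizer (T : Set Γ) := by
        have : b * c' * b⁻¹ * c'⁻¹ = 1 := by rw [hc'b]; group
        rw [this]; exact one_mem _
      exact K.mul_mem (hcomm hn) (hS₀K c' (hb c' hc'S h1))
    · exact hinvol a d.c.invM (hfin a haS h.1 h.2)
    · exact hinvol (a * b) d.c.swap.invM (hfin (a * b) habS h.1 h.2)
    · exact hinvol (a * b * b) d.c.swap.swap.invM (hfin (a * b * b) habbS h.1 h.2)
  apply hTb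
  intro τ hτ hbτ
  exact d.eq_one_of_mem_all hτ (fun H hH hVH => key H hH hVH τ hτ hbτ)

end CtxII

/-- **The case `M = T ⋊ S`.** -/
theorem caseII [Finite Γ] {r t s : ℕ} [hr : Fact r.Prime] [ht : Fact t.Prime] [hs : Fact s.Prime]
    {V M : Subgroup Γ} {a b : Γ} (c : Ctx V M a b r) (T S : Subgroup Γ)
    (hTM : T ≤ M) (hSM : S ≤ M) (hMT : M ≤ normalizer (T : Set Γ))
    (haT : a ∈ normalizer (T : Set Γ)) (hbT : b ∈ normalizer (T : Set Γ))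
    (haS : a ∈ normalizer (S : Set Γ)) (hbS : b ∈ normalizer (S : Set Γ))
    (hTc : ∀ x ∈ T, ∀ y ∈ T, x * y = y * x) (hSc : ∀ x ∈ S, ∀ y ∈ S, x * y = y * x)
    (hTt : IsPGroup t T) (hSs : IsPGroup s S) (hst : s ≠ t) (hrt : r ≠ t)
    (hTS : T ⊔ S = M)
    (hmin : ∀ M₀ : Subgroup Γ, M₀ ≤ M → M₀ ≠ M → a ∈ normalizer (M₀ : Set Γ) →
      b ∈ normalizer (M₀ : Set Γ) → ∀ x ∈ M₀, ∀ y ∈ M₀, x * y = y * x)
    (hnc : ¬ ∀ τ ∈ T, ∀ σ ∈ S, σ * τ = τ * σ) : False := by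
  have hrel := c.rel
  have hST : S ≤ normalizer (T : Set Γ) := hSM.trans hMT
  obtain ⟨k, hk⟩ := IsPGroup.iff_card.mp hTt
  obtain ⟨l, hl⟩ := IsPGroup.iff_card.mp hSs
  have hcop : (Nat.card S).Coprime (Nat.card T) := by
    rw [hk, hl]
    apply Nat.Coprime.pow
    exact (Nat.coprime_primes hs.out ht.out).mpr hst
  have hdisj : T ⊓ S = ⊥ := (disjoint_of_coprime_natCard hcop.symm).eq_bot
  have hsolvS : Group.IsSolvable S :=
    Group.isSolvable_of_comm (fun x y => Subtype.ext (hSc x x.2 y y.2))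
  have hdich : ∀ T₁ S₁ : Subgroup Γ, T₁ ≤ M → S₁ ≤ M → a ∈ normalizer (T₁ : Set Γ) →
      b ∈ normalizer (T₁ : Set Γ) → a ∈ normalizer (S₁ : Set Γ) → b ∈ normalizer (S₁ : Set Γ) →
      T₁ ⊔ S₁ = M ∨ ∀ x ∈ T₁, ∀ y ∈ S₁, y * x = x * y := by
    intro T₁ S₁ hT₁ hS₁ haT₁ hbT₁ haS₁ hbS₁
    by_cases h : T₁ ⊔ S₁ = M
    · exact Or.inl h
    · right
      have := hmin (T₁ ⊔ S₁) (sup_le hT₁ hS₁) h (mem_normalizer_sup haT₁ haS₁)
        (mem_normalizer_sup hbT₁ hbS₁)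
      intro x hx y hy
      exact this y (mem_sup_right hy) x (mem_sup_left hx)
  -- `T = [T, S]`
  have hcomm : T ≤ ⁅T, S⁆ := by
    have hT₁T : ⁅T, S⁆ ≤ T := Cfsg.Agent.Helper24.commutator_le_of_le_normalizer T S hST
    have hSN : S ≤ normalizer ((⁅T, S⁆ : Subgroup Γ) : Set Γ) :=
      fun σ hσ => mem_normalizer_commutator (hST hσ) (le_normalizer hσ)
    rcases hdich ⁅T, S⁆ S (hT₁T.trans hTM) hSM (mem_normalizer_commutator haT haS)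
      (mem_normalizer_commutator hbT hbS) haS hbS with h | h
    · exact (le_of_le_sup hdisj hT₁T le_rfl hSN (by rw [h]; exact hTM)
        (by rw [h]; exact hSM)).1
    · exfalso
      have h1 : ⁅⁅T, S⁆, S⁆ = ⊥ := by
        rw [commutator_eq_bot_iff_le_centralizer]
        intro x hx
        rw [mem_centralizer_iff]
        intro y hy
        exact h x hx y hy
      rw [Cfsg.Agent.Helper52.commutator_commutator_eq T S hST hcop (Or.inl hsolvS)] at h1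
      rw [commutator_eq_bot_iff_le_centralizer] at h1
      apply hnc
      intro τ hτ σ hσ
      exact (mem_centralizer_iff.mp (h1 hτ)) σ hσ
  -- `C_T(S) = 1`
  have hfixS : ∀ τ ∈ T, (∀ σ ∈ S, σ * τ = τ * σ) → τ = 1 := by
    intro τ hτ hcen
    have : IsMulCommutative T := ⟨⟨fun x y => Subtype.ext (hTc x x.2 y y.2)⟩⟩
    have h1 := Cfsg.Agent.Helper1.ZCoprime.commutator_inf_centralizer_eq_bot S T hST hcop
    have h2 : τ ∈ ⁅T, S⁆ ⊓ centralizer (S : Set Γ) := by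
      refine mem_inf.mpr ⟨hcomm hτ, ?_⟩
      rw [mem_centralizer_iff]
      exact hcen
    rw [h1, mem_bot] at h2
    exact h2
  -- `T` has exponent `t`
  have hTexp : ∀ x ∈ T, x ^ t = 1 := by
    let Ω : Subgroup Γ :=
      { carrier := {x | x ∈ T ∧ x ^ t = 1}
        one_mem' := ⟨one_mem T, one_pow t⟩
        mul_mem' := by
          rintro x y ⟨hx, hxt⟩ ⟨hy, hyt⟩
          refine ⟨T.mul_mem hx hy, ?_⟩
          have hc : Commute x y := hTc x hx y hy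
          rw [hc.mul_pow, hxt, hyt, one_mul]
        inv_mem' := by
          rintro x ⟨hx, hxt⟩
          exact ⟨T.inv_mem hx, by rw [inv_pow, hxt, inv_one]⟩ }
    have hΩT : Ω ≤ T := fun x hx => hx.1
    have hΩN : ∀ g : Γ, g ∈ normalizer (T : Set Γ) → g ∈ normalizer (Ω : Set Γ) := by
      intro g hg
      apply mem_normalizer_of_conj_mem
      rintro x ⟨hx, hxt⟩
      refine ⟨conj_mem_of_mem_normalizer hg hx, ?_⟩
      rw [conj_pow, hxt, mul_one, mul_inv_cancel]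
    rcases hdich Ω S (hΩT.trans hTM) hSM (hΩN a haT) (hΩN b hbT) haS hbS with h | h
    · have h1 := (le_of_le_sup hdisj hΩT le_rfl (fun σ hσ => hΩN σ (hST hσ))
        (by rw [h]; exact hTM) (by rw [h]; exact hSM)).1
      intro x hx
      exact (h1 hx).2
    · exfalso
      apply hnc
      intro τ hτ σ hσ
      have hσn : σ ^ Nat.card S = 1 := by
        have := pow_card_eq_one' (G := S) (x := ⟨σ, hσ⟩)
        have h2 := congrArg Subtype.val this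
        rw [Subgroup.coe_pow, Subgroup.coe_one] at h2
        exact h2
      have hn : (Nat.card S).Coprime t := by
        rw [hl]
        apply Nat.Coprime.pow_left
        exact (Nat.coprime_primes hs.out ht.out).mpr hst
      have hτk : τ ^ (t ^ k) = 1 := by
        have := pow_card_eq_one' (G := T) (x := ⟨τ, hτ⟩)
        have h2 := congrArg Subtype.val this
        rw [Subgroup.coe_pow, Subgroup.coe_one, hk] at h2
        exact h2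
      exact centralizes_of_centralizes_omega hTc (hST hσ) hσn hn
        (fun τ' hτ' hτ't => h τ' ⟨hτ', hτ't⟩ σ hσ) k τ hτ hτk
  -- the context
  have d : CtxII V M T S a b r t s :=
    { c := c, hTM := hTM, hSM := hSM, hMT := hMT, haT := haT, hbT := hbT, haS := haS, hbS := hbS
      hTc := hTc, hSc := hSc, hTexp := hTexp, hSs := hSs, hst := hst, hrt := hrt, hTS := hTS
      hmin := hmin, hcomm := hcomm, hfixS := hfixS, hnc := hnc }
  -- the fixed points of `b` modulo `C_S(T)`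
  set S₀ : Subgroup Γ := S ⊓ centralizer (T : Set Γ) with hS₀
  have haS₀ : a ∈ normalizer (S₀ : Set Γ) := mem_normalizer_fix haS haT
  have hbS₀ : b ∈ normalizer (S₀ : Set Γ) := mem_normalizer_fix hbS hbT
  let P : Subgroup Γ :=
    { carrier := {σ | σ ∈ S ∧ b * σ * b⁻¹ * σ⁻¹ ∈ S₀}
      one_mem' := by
        refine ⟨one_mem S, ?_⟩
        have : b * 1 * b⁻¹ * (1 : Γ)⁻¹ = 1 := by group
        rw [this]; exact one_mem S₀
      mul_mem' := by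
        rintro y z ⟨hy, hyH⟩ ⟨hz, hzH⟩
        refine ⟨S.mul_mem hy hz, ?_⟩
        have hgz : b * z * b⁻¹ ∈ S := conj_mem_of_mem_normalizer hbS hz
        have h1 : (b * z * b⁻¹ * z⁻¹) * y⁻¹ = y⁻¹ * (b * z * b⁻¹ * z⁻¹) :=
          hSc _ (S.mul_mem hgz (S.inv_mem hz)) _ (S.inv_mem hy)
        have e : b * (y * z) * b⁻¹ * (y * z)⁻¹ =
            (b * y * b⁻¹) * ((b * z * b⁻¹ * z⁻¹) * y⁻¹) := by group
        rw [e, h1]
        have e2 : (b * y * b⁻¹) * (y⁻¹ * (b * z * b⁻¹ * z⁻¹)) =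
            (b * y * b⁻¹ * y⁻¹) * (b * z * b⁻¹ * z⁻¹) := by group
        rw [e2]
        exact S₀.mul_mem hyH hzH
      inv_mem' := by
        rintro y ⟨hy, hyH⟩
        refine ⟨S.inv_mem hy, ?_⟩
        have hgy : b * y * b⁻¹ ∈ S := conj_mem_of_mem_normalizer hbS hy
        have h1 : (b * y * b⁻¹)⁻¹ * y = y * (b * y * b⁻¹)⁻¹ := hSc _ (S.inv_mem hgy) _ hy
        have e : b * y⁻¹ * b⁻¹ * y⁻¹⁻¹ = (b * y * b⁻¹)⁻¹ * y := by group
        rw [e, h1]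
        have e2 : y * (b * y * b⁻¹)⁻¹ = (b * y * b⁻¹ * y⁻¹)⁻¹ := by group
        rw [e2]
        exact S₀.inv_mem hyH }
  have hPS : P ≤ S := fun σ hσ => hσ.1
  have haP : a ∈ normalizer (P : Set Γ) := by
    apply mem_normalizer_of_conj_mem
    rintro σ ⟨hσ, hσH⟩
    refine ⟨conj_mem_of_mem_normalizer haS hσ, ?_⟩
    -- `b⁻¹ σ b σ⁻¹ ∈ S₀`
    have h1 : b⁻¹ * (b * σ * b⁻¹ * σ⁻¹) * b ∈ S₀ := conj_inv_mem_of_mem_normalizer hbS₀ hσH
    have h2 : b⁻¹ * σ * b * σ⁻¹ ∈ S₀ := by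
      have e : b⁻¹ * σ * b * σ⁻¹ = (b⁻¹ * (b * σ * b⁻¹ * σ⁻¹) * b)⁻¹ := by group
      rw [e]; exact S₀.inv_mem h1
    have h3 := conj_mem_of_mem_normalizer haS₀ h2
    have hba : a⁻¹ * b * a = b⁻¹ := by
      rw [hrel.inv_conj]; exact hrel.rel
    have e : b * (a * σ * a⁻¹) * b⁻¹ * (a * σ * a⁻¹)⁻¹ =
        a * ((a⁻¹ * b * a) * σ * (a⁻¹ * b * a)⁻¹ * σ⁻¹) * a⁻¹ := by group
    rw [e, hba]
    have e2 : a * (b⁻¹ * σ * b⁻¹⁻¹ * σ⁻¹) * a⁻¹ = a * (b⁻¹ * σ * b * σ⁻¹) * a⁻¹ := by group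
    rw [e2]
    exact h3
  have hbP : b ∈ normalizer (P : Set Γ) := by
    apply mem_normalizer_of_conj_mem
    rintro σ ⟨hσ, hσH⟩
    refine ⟨conj_mem_of_mem_normalizer hbS hσ, ?_⟩
    have h1 := conj_mem_of_mem_normalizer hbS₀ hσH
    have e : b * (b * σ * b⁻¹) * b⁻¹ * (b * σ * b⁻¹)⁻¹ = b * (b * σ * b⁻¹ * σ⁻¹) * b⁻¹ := by
      group
    rw [e]
    exact h1
  rcases hdich T P hTM (hPS.trans hSM) haT hbT haP hbP with h | h
  · -- subcase (a)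
    have h1 := (le_of_le_sup hdisj le_rfl hPS (hPS.trans hST) (by rw [h]; exact hTM)
      (by rw [h]; exact hSM)).2
    exact d.false_a (fun σ hσ => (h1 hσ).2)
  · -- subcase (b)
    apply d.false_b
    intro σ hσ hσH
    refine mem_inf.mpr ⟨hσ, ?_⟩
    rw [mem_centralizer_iff]
    intro τ hτ
    exact (h τ hτ σ ⟨hσ, hσH⟩).symm

end Cfsg.Agent.Helper52.S3
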