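import Mathlib
import Cfsg.Agent.Lib.Helper52.FixedPointFree

/-!
# Fixed-point-free action of `S₃`: fixed points in quotients, minimal invariant normal subgroups
-/

set_option autoImplicit false

namespace Cfsg.Agent.Helper52.S3

open Subgroup
open scoped commutatorElement

universe u

variable {G : Type u} [Group G]

/-- an automorphism of prime order `p` fixing a coset of a `p'`-subgroup fixes a point of it -/
theorem exists_fixed_in_coset [Finite G] (φ : G ≃* G) (p : ℕ) [hp : Fact p.Prime]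
    (hφ : ∀ g, (⇑φ)^[p] g = g) (K : Subgroup G) (hK : ∀ k ∈ K, φ k ∈ K)
    (hpK : ¬ p ∣ Nat.card K) (x : G) (hx : x⁻¹ * φ x ∈ K) : ∃ k ∈ K, φ (x * k) = x * k := by
  classical
  have : Fintype K := Fintype.ofFinite K
  have hmem : ∀ k : K, x⁻¹ * φ (x * k) ∈ K := by
    intro k
    have e : x⁻¹ * φ (x * k) = (x⁻¹ * φ x) * φ k := by rw [map_mul]; group
    rw [e]
    exact K.mul_mem hx (hK k k.2)
  let f : Function.End K := fun k => ⟨x⁻¹ * φ (x * k), hmem k⟩
  have hiter : ∀ (j : ℕ) (k : K), ((f^[j] k : K) : G) = x⁻¹ * (⇑φ)^[j] (x * k) := by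
    intro j
    induction j with
    | zero =>
      intro k
      rw [Function.iterate_zero_apply, Function.iterate_zero_apply]
      group
    | succ j ih =>
      intro k
      rw [Function.iterate_succ_apply', Function.iterate_succ_apply']
      change x⁻¹ * φ (x * ((f^[j] k : K) : G)) = _
      rw [ih k]
      congr 2
      group
  have hf : f ^ p ^ 1 = 1 := by
    rw [pow_one]
    funext k
    apply Subtype.ext
    change ((f^[p] k : K) : G) = k
    rw [hiter, hφ]
    group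
  have hmod := Equiv.Perm.card_fixedPoints_modEq (f := f) (p := p) (n := 1) hf
  have hne : Nonempty (Function.fixedPoints f) := by
    by_contra hempty
    rw [not_nonempty_iff] at hempty
    have h0 : Fintype.card (Function.fixedPoints f) = 0 := Fintype.card_eq_zero
    rw [h0] at hmod
    apply hpK
    rw [Nat.card_eq_fintype_card]
    exact (Nat.modEq_zero_iff_dvd).mp hmod
  obtain ⟨⟨k, hk⟩⟩ := hne
  refine ⟨k, k.2, ?_⟩
  have h1 : x⁻¹ * φ (x * k) = k := congrArg Subtype.val hk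
  calc φ (x * k) = x * (x⁻¹ * φ (x * k)) := by group
    _ = x * k := by rw [h1]

/-- **Fixed points of a fixed-point-free pair lift trivially to quotients.** -/
theorem mem_of_fpf_pair [Finite G] (α β : G ≃* G) (h1 : ∀ x, α (α x) = x)
    (h2 : ∀ x, β (β (β x)) = x) (h3 : ∀ x, β (α (β x)) = α x)
    (hfpf : ∀ x, α x = x → β x = x → x = 1) (N : Subgroup G)
    (hNα : ∀ x ∈ N, α x ∈ N) (hNβ : ∀ x ∈ N, β x ∈ N) (hN : (Nat.card N).Coprime 6)
    (x : G) (hxα : x⁻¹ * α x ∈ N) (hxβ : x⁻¹ * β x ∈ N) : x ∈ N := by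
  have hp3 : Fact (Nat.Prime 3) := ⟨by norm_num⟩
  have hp2 : Fact (Nat.Prime 2) := ⟨by norm_num⟩
  have h3N : ¬ 3 ∣ Nat.card N := by
    intro h
    have : (3 : ℕ) ∣ Nat.gcd (Nat.card N) 6 := Nat.dvd_gcd h (by norm_num)
    rw [hN] at this
    omega
  obtain ⟨k₁, hk₁, hy⟩ := exists_fixed_in_coset β 3 (fun g => by
    simp only [Function.iterate_succ, Function.iterate_zero, Function.comp_apply, id_eq]
    exact h2 g) N hNβ h3N x hxβ
  obtain ⟨y, hydef⟩ : ∃ y, y = x * k₁ := ⟨_, rfl⟩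
  rw [← hydef] at hy
  have hyα : y⁻¹ * α y ∈ N := by
    have e : y⁻¹ * α y = k₁⁻¹ * (x⁻¹ * α x) * α k₁ := by
      rw [hydef, map_mul]; group
    rw [e]
    exact N.mul_mem (N.mul_mem (N.inv_mem hk₁) hxα) (hNα k₁ hk₁)
  -- the fixed points of `β`
  let F : Subgroup G :=
    { carrier := {g | β g = g}
      one_mem' := map_one β
      mul_mem' := by
        intro a b ha hb
        change β (a * b) = a * b
        rw [map_mul, ha, hb]
      inv_mem' := by
        intro a ha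
        change β a⁻¹ = a⁻¹
        rw [map_inv, ha] }
  have hFα : ∀ g ∈ F, α g ∈ F := by
    intro g hg
    change β (α g) = α g
    have := h3 g
    rw [show β g = g from hg] at this
    exact this
  have hK : ∀ k ∈ N ⊓ F, α k ∈ N ⊓ F := by
    intro k hk
    exact mem_inf.mpr ⟨hNα k (mem_inf.mp hk).1, hFα k (mem_inf.mp hk).2⟩
  have h2K : ¬ 2 ∣ Nat.card (N ⊓ F : Subgroup G) := by
    intro h
    have h' : 2 ∣ Nat.card N := dvd_trans h (card_dvd_of_le inf_le_left)
    have : (2 : ℕ) ∣ Nat.gcd (Nat.card N) 6 := Nat.dvd_gcd h' (by norm_num)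
    rw [hN] at this
    omega
  have hyF : y ∈ F := hy
  have hyK : y⁻¹ * α y ∈ N ⊓ F :=
    mem_inf.mpr ⟨hyα, F.mul_mem (F.inv_mem hyF) (hFα y hyF)⟩
  obtain ⟨k₂, hk₂, hz⟩ := exists_fixed_in_coset α 2 (fun g => by
    simp only [Function.iterate_succ, Function.iterate_zero, Function.comp_apply, id_eq]
    exact h1 g) (N ⊓ F) hK h2K y hyK
  have hzβ : β (y * k₂) = y * k₂ := F.mul_mem hyF (mem_inf.mp hk₂).2
  have hz1 : y * k₂ = 1 := hfpf _ hz hzβ
  have hx : x = (k₁ * k₂)⁻¹ := by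
    rw [hydef] at hz1
    calc x = (x * k₁ * k₂) * (k₁ * k₂)⁻¹ := by group
      _ = (k₁ * k₂)⁻¹ := by rw [hz1, one_mul]
  rw [hx]
  exact N.inv_mem (N.mul_mem hk₁ (mem_inf.mp hk₂).1)

section MinNormal

variable [Finite G]

/-- A minimal nontrivial normal subgroup invariant under `α` and `β`. -/
theorem exists_min_invariant_normal₂ (α β : G ≃* G) (h : ¬ Subsingleton G) :
    ∃ V : Subgroup G, V.Normal ∧ (∀ x ∈ V, α x ∈ V) ∧ (∀ x ∈ V, β x ∈ V) ∧ V ≠ ⊥ ∧
      ∀ N : Subgroup G, N.Normal → (∀ x ∈ N, α x ∈ N) → (∀ x ∈ N, β x ∈ N) → N ≠ ⊥ → N ≤ V →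
        N = V := by
  classical
  let P : ℕ → Prop := fun k => ∃ N : Subgroup G, N.Normal ∧ (∀ x ∈ N, α x ∈ N) ∧
    (∀ x ∈ N, β x ∈ N) ∧ N ≠ ⊥ ∧ Nat.card N = k
  have hex : ∃ k, P k := by
    refine ⟨Nat.card (⊤ : Subgroup G), ⊤, inferInstance, fun x _ => mem_top _,
      fun x _ => mem_top _, ?_, rfl⟩
    intro hcon
    apply h
    rw [← Subgroup.subsingleton_iff]
    exact ⟨fun a b => by
      have ha : a = ⊥ := by
        rw [eq_bot_iff, ← hcon]; exact le_top
      have hb : b = ⊥ := by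
        rw [eq_bot_iff, ← hcon]; exact le_top
      rw [ha, hb]⟩
  obtain ⟨V, hVn, hVα, hVβ, hVne, hVc⟩ := Nat.find_spec hex
  refine ⟨V, hVn, hVα, hVβ, hVne, ?_⟩
  intro N hNn hNα hNβ hNne hle
  apply Subgroup.eq_of_le_of_card_ge hle
  rw [hVc]
  exact Nat.find_min' hex ⟨N, hNn, hNα, hNβ, hNne, rfl⟩

variable (α β : G ≃* G) (V : Subgroup G)

/-- A minimal invariant normal subgroup of a solvable group is abelian. -/
theorem commute_of_min_invariant_normal₂ [hsol : Group.IsSolvable G] (hVn : V.Normal)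
    (hVα : ∀ x ∈ V, α x ∈ V) (hVβ : ∀ x ∈ V, β x ∈ V) (hVne : V ≠ ⊥)
    (hVmin : ∀ N : Subgroup G, N.Normal → (∀ x ∈ N, α x ∈ N) → (∀ x ∈ N, β x ∈ N) → N ≠ ⊥ →
      N ≤ V → N = V) :
    ∀ a ∈ V, ∀ b ∈ V, a * b = b * a := by
  have hmapα : V.map (α : G →* G) = V := map_eq_of_invariant α V hVα
  have hmapβ : V.map (β : G →* G) = V := map_eq_of_invariant β V hVβ
  have h1 : ⁅V, V⁆ = ⊥ := by
    by_contra hne
    have h2 : ⁅V, V⁆ = V := by
      apply hVmin _ inferInstance _ _ hne V.commutator_le_self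
      · intro x hx
        have h3 : α x ∈ (⁅V, V⁆).map (α : G →* G) := ⟨x, hx, rfl⟩
        rwa [map_commutator, hmapα] at h3
      · intro x hx
        have h3 : β x ∈ (⁅V, V⁆).map (β : G →* G) := ⟨x, hx, rfl⟩
        rwa [map_commutator, hmapβ] at h3
    have h4 : Nontrivial V := by
      rw [Subgroup.nontrivial_iff_ne_bot]
      exact hVne
    have h5 := Group.IsSolvable.commutator_lt_top_of_nontrivial V
    have h6 : (_root_.commutator V).map V.subtype = ⁅V, V⁆ := map_subtype_commutator V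
    rw [h2] at h6
    have h7 : _root_.commutator V = ⊤ := by
      apply map_injective V.subtype_injective
      rw [h6, ← MonoidHom.range_eq_map, Subgroup.range_subtype]
    exact h5.ne h7
  rw [commutator_eq_bot_iff_le_centralizer] at h1
  intro a ha b hb
  have h2 := h1 ha
  rw [mem_centralizer_iff] at h2
  exact (h2 b hb).symm

/-- A minimal invariant normal subgroup of a solvable group has prime exponent. -/
theorem exists_prime_exponent_of_min_invariant_normal₂ [hsol : Group.IsSolvable G] (hVn : V.Normal)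
    (hVα : ∀ x ∈ V, α x ∈ V) (hVβ : ∀ x ∈ V, β x ∈ V) (hVne : V ≠ ⊥)
    (hVmin : ∀ N : Subgroup G, N.Normal → (∀ x ∈ N, α x ∈ N) → (∀ x ∈ N, β x ∈ N) → N ≠ ⊥ →
      N ≤ V → N = V) :
    ∃ p : ℕ, p.Prime ∧ p ∣ Nat.card G ∧ ∀ v ∈ V, v ^ p = 1 := by
  have hab := commute_of_min_invariant_normal₂ α β V hVn hVα hVβ hVne hVmin
  have hcard : Nat.card V ≠ 1 := by
    intro hcon
    exact hVne ((Subgroup.card_eq_one).mp hcon)
  obtain ⟨p, hp, hpd⟩ := Nat.exists_prime_and_dvd hcard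
  have : Fact p.Prime := ⟨hp⟩
  refine ⟨p, hp, dvd_trans hpd (card_subgroup_dvd_card V), ?_⟩
  let Ω : Subgroup G :=
    { carrier := {v | v ∈ V ∧ v ^ p = 1}
      one_mem' := ⟨one_mem V, one_pow p⟩
      mul_mem' := by
        rintro a b ⟨ha, hap⟩ ⟨hb, hbp⟩
        refine ⟨mul_mem ha hb, ?_⟩
        have hc : Commute a b := hab a ha b hb
        rw [hc.mul_pow, hap, hbp, one_mul]
      inv_mem' := by
        rintro a ⟨ha, hap⟩
        exact ⟨inv_mem ha, by rw [inv_pow, hap, inv_one]⟩ }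
  have hΩn : Ω.Normal := by
    refine ⟨fun v hv g => ?_⟩
    refine ⟨hVn.conj_mem v hv.1 g, ?_⟩
    rw [conj_pow, hv.2, mul_one, mul_inv_cancel]
  have hΩα : ∀ x ∈ Ω, α x ∈ Ω := by
    intro x hx
    exact ⟨hVα x hx.1, by rw [← map_pow, hx.2, map_one]⟩
  have hΩβ : ∀ x ∈ Ω, β x ∈ Ω := by
    intro x hx
    exact ⟨hVβ x hx.1, by rw [← map_pow, hx.2, map_one]⟩
  have hΩne : Ω ≠ ⊥ := by
    obtain ⟨x, hx⟩ := exists_prime_orderOf_dvd_card' (G := V) p hpd
    intro hcon
    have h1 : (x : G) ∈ Ω := by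
      refine ⟨x.2, ?_⟩
      have h2 : x ^ p = 1 := by rw [← hx]; exact pow_orderOf_eq_one x
      have h3 := congrArg Subtype.val h2
      simpa using h3
    rw [hcon, mem_bot] at h1
    have h4 : x = 1 := Subtype.ext h1
    rw [h4, orderOf_one] at hx
    exact hp.one_lt.ne hx
  have hΩV : Ω = V := hVmin Ω hΩn hΩα hΩβ hΩne (fun v hv => hv.1)
  intro v hv
  rw [← hΩV] at hv
  exact hv.2

end MinNormal

end Cfsg.Agent.Helper52.S3
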