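import Mathlib
import Cfsg.Agent.Lib.Helper52.FpfS3CaseII
import Cfsg.Agent.Lib.Helper53.PGroupFix

/-!
# Fixed-point-free action of `S₃`: the module lemma

In the module context `Ctx V M a b r`, if `M` is solvable with nilpotent derived subgroup and the
derived subgroups of the proper invariant subgroups of `M` are `r`-groups, then `M` is commutative.
-/

set_option autoImplicit false

namespace Cfsg.Agent.Helper52.S3

open Subgroup
open scoped commutatorElement

variable {Γ : Type*} [Group Γ]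

/-- a subgroup containing a Sylow subgroup for each prime is everything -/
theorem eq_of_forall_sylCard [Finite Γ] {K M : Subgroup Γ} (hKM : K ≤ M)
    (h : ∀ p : ℕ, p.Prime → ∃ Q : Subgroup Γ, Q ≤ K ∧ Nat.card Q = sylCard p M) : K = M := by
  have hdvd : Nat.card M ∣ Nat.card K := by
    rw [← Nat.factorization_prime_le_iff_dvd (Nat.card_pos.ne') (Nat.card_pos.ne')]
    intro p hp
    obtain ⟨Q, hQK, hQ⟩ := h p hp
    have h1 : Nat.card Q ∣ Nat.card K := Subgroup.card_dvd_of_le hQK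
    rw [hQ, sylCard] at h1
    exact (hp.pow_dvd_iff_le_factorization Nat.card_pos.ne').mp h1
  have h2 : Nat.card K = Nat.card M := Nat.dvd_antisymm (Subgroup.card_dvd_of_le hKM) hdvd
  exact Subgroup.eq_of_le_of_card_ge hKM h2.ge

/-- class two: `[x, y] ^ n = 1` if `x ^ n = 1` and `[x, y]` commutes with `x` -/
theorem comm_pow_eq_one_left {x y : Γ} {n : ℕ} (hx : Commute x (x * y * x⁻¹ * y⁻¹))
    (hxn : x ^ n = 1) : (x * y * x⁻¹ * y⁻¹) ^ n = 1 := by
  obtain ⟨w, hw⟩ : ∃ w, w = x * y * x⁻¹ * y⁻¹ := ⟨_, rfl⟩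
  rw [← hw] at hx ⊢
  have key : ∀ k : ℕ, x ^ k * y * (x ^ k)⁻¹ = w ^ k * y := by
    intro k
    induction k with
    | zero => simp
    | succ k ih =>
      have h1 : x * w ^ k = w ^ k * x := (hx.pow_right k).eq
      calc x ^ (k + 1) * y * (x ^ (k + 1))⁻¹ = x * (x ^ k * y * (x ^ k)⁻¹) * x⁻¹ := by
            rw [pow_succ']; group
        _ = x * (w ^ k * y) * x⁻¹ := by rw [ih]
        _ = (x * w ^ k) * y * x⁻¹ := by group
        _ = w ^ k * x * y * x⁻¹ := by rw [h1]
        _ = w ^ k * (x * y * x⁻¹ * y⁻¹) * y := by group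
        _ = w ^ (k + 1) * y := by rw [← hw, pow_succ]
  have h := key n
  rw [hxn] at h
  have h' : y = w ^ n * y := by simpa using h
  have h'' : w ^ n * y = 1 * y := by rw [one_mul]; exact h'.symm
  exact mul_right_cancel h''

/-- class two: `[x, y] ^ n = 1` if `y ^ n = 1` and `[x, y]` commutes with `y` -/
theorem comm_pow_eq_one_right {x y : Γ} {n : ℕ} (hy : Commute (x * y * x⁻¹ * y⁻¹) y)
    (hyn : y ^ n = 1) : (x * y * x⁻¹ * y⁻¹) ^ n = 1 := by
  obtain ⟨w, hw⟩ : ∃ w, w = x * y * x⁻¹ * y⁻¹ := ⟨_, rfl⟩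
  rw [← hw] at hy ⊢
  have h1 : x * y * x⁻¹ = w * y := by rw [hw]; group
  have h2 : (x * y * x⁻¹) ^ n = x * y ^ n * x⁻¹ := conj_pow
  rw [h1, hy.mul_pow, hyn] at h2
  simpa using h2

theorem commute_of_comm_central {x y : Γ} (hx : Commute x (x * y * x⁻¹ * y⁻¹))
    (hy : Commute (x * y * x⁻¹ * y⁻¹) y) {m n : ℕ} (hxm : x ^ m = 1) (hyn : y ^ n = 1)
    (hmn : m.Coprime n) : x * y = y * x := by
  have h1 := comm_pow_eq_one_left hx hxm
  have h2 := comm_pow_eq_one_right hy hyn
  have h3 := eq_one_of_pow_coprime h1 h2 hmn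
  calc x * y = (x * y * x⁻¹ * y⁻¹) * (y * x) := by group
    _ = y * x := by rw [h3, one_mul]

/-- the `t`-primary part of a commutative subgroup -/
def primaryPart (A : Subgroup Γ) (t : ℕ) (hA : ∀ x ∈ A, ∀ y ∈ A, x * y = y * x) : Subgroup Γ where
  carrier := {x | x ∈ A ∧ ∃ k : ℕ, x ^ (t ^ k) = 1}
  one_mem' := ⟨A.one_mem, 0, one_pow _⟩
  mul_mem' := by
    rintro x y ⟨hx, k, hk⟩ ⟨hy, l, hl⟩
    refine ⟨A.mul_mem hx hy, k + l, ?_⟩
    have hc : Commute x y := hA x hx y hy
    rw [hc.mul_pow, pow_add, pow_mul, hk, one_pow, mul_comm (t ^ k), pow_mul, hl, one_pow, one_mul]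
  inv_mem' := by
    rintro x ⟨hx, k, hk⟩
    exact ⟨A.inv_mem hx, k, by rw [inv_pow, hk, inv_one]⟩

theorem primaryPart_le (A : Subgroup Γ) (t : ℕ) (hA : ∀ x ∈ A, ∀ y ∈ A, x * y = y * x) :
    primaryPart A t hA ≤ A := fun _ hx => hx.1

theorem isPGroup_primaryPart (A : Subgroup Γ) (t : ℕ) (hA : ∀ x ∈ A, ∀ y ∈ A, x * y = y * x) :
    IsPGroup t (primaryPart A t hA) := by
  intro g
  obtain ⟨k, hk⟩ := g.2.2
  exact ⟨k, Subtype.ext (by simpa using hk)⟩

theorem mem_normalizer_primaryPart [Finite Γ] {A : Subgroup Γ} {t : ℕ}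
    (hA : ∀ x ∈ A, ∀ y ∈ A, x * y = y * x) {g : Γ} (hg : g ∈ normalizer (A : Set Γ)) :
    g ∈ normalizer ((primaryPart A t hA : Subgroup Γ) : Set Γ) := by
  apply mem_normalizer_of_conj_mem
  rintro x ⟨hx, k, hk⟩
  refine ⟨conj_mem_of_mem_normalizer hg hx, k, ?_⟩
  rw [conj_pow, hk, mul_one, mul_inv_cancel]

theorem le_primaryPart_of_isPGroup {A Q : Subgroup Γ} {t : ℕ}
    (hA : ∀ x ∈ A, ∀ y ∈ A, x * y = y * x) (hQA : Q ≤ A) (hQ : IsPGroup t Q) :
    Q ≤ primaryPart A t hA := by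
  intro x hx
  obtain ⟨k, hk⟩ := hQ ⟨x, hx⟩
  refine ⟨hQA hx, k, ?_⟩
  have := congrArg Subtype.val hk
  simpa using this

namespace Ctx

variable {V M : Subgroup Γ} {a b : Γ} {r : ℕ}

/-- an invariant normal `r`-subgroup of `M` is trivial -/
theorem eq_bot_of_isPGroup [Finite Γ] [hr : Fact r.Prime] (c : Ctx V M a b r) (R : Subgroup Γ)
    (hRM : R ≤ M) (hMR : M ≤ normalizer (R : Set Γ)) (haR : a ∈ normalizer (R : Set Γ))
    (hbR : b ∈ normalizer (R : Set Γ)) (hR : IsPGroup r R) : R = ⊥ := by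
  rcases c.fix_eq_bot R hRM hMR haR hbR with h | h
  · exfalso
    have hVp : IsPGroup r V := isPGroup_of_exponent c.Vr
    obtain ⟨u, huV, hu1, hu⟩ := Cfsg.Agent.Helper53.exists_fixed_of_normalizes V R hVp hR
      (fun x _ => c.normV x) c.Vne
    have h2 : u ∈ V ⊓ centralizer (R : Set Γ) :=
      mem_inf.mpr ⟨huV, mem_centralizer_iff.mpr (fun x hx => hu x hx)⟩
    rw [h, mem_bot] at h2
    exact hu1 h2
  · exact h

/-- the derived subgroup of `M` is an `r'`-group if it is nilpotent -/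
theorem not_dvd_card_commutator [Finite Γ] [hr : Fact r.Prime] (c : Ctx V M a b r)
    (hnil : Group.IsNilpotent (⁅M, M⁆ : Subgroup Γ)) :
    ¬ r ∣ Nat.card (⁅M, M⁆ : Subgroup Γ) := by
  intro hdvd
  have hDM : ⁅M, M⁆ ≤ M := commutator_le_self M
  have hMD : M ≤ normalizer ((⁅M, M⁆ : Subgroup Γ) : Set Γ) :=
    fun m hm => mem_normalizer_commutator (le_normalizer hm) (le_normalizer hm)
  have haD : a ∈ normalizer ((⁅M, M⁆ : Subgroup Γ) : Set Γ) := mem_normalizer_commutator c.aM c.aM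
  have hbD : b ∈ normalizer ((⁅M, M⁆ : Subgroup Γ) : Set Γ) := mem_normalizer_commutator c.bM c.bM
  obtain ⟨D, hD⟩ : ∃ D : Subgroup Γ, D = ⁅M, M⁆ := ⟨_, rfl⟩
  rw [← hD] at hdvd hnil hDM hMD haD hbD
  obtain ⟨P₀⟩ : Nonempty (Sylow r D) := inferInstance
  have hP₀n : (P₀ : Subgroup D).Normal := inferInstance
  obtain ⟨Q, hQ⟩ : ∃ Q : Subgroup Γ, Q = (P₀ : Subgroup D).map D.subtype := ⟨_, rfl⟩
  have hQD : Q ≤ D := by rw [hQ]; exact map_subtype_le _
  have hQcard : Nat.card Q = sylCard r D := by rw [hQ]; exact card_sylow_map r D P₀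
  have hDQ : D ≤ normalizer (Q : Set Γ) := by
    intro d hd
    apply mem_normalizer_of_conj_mem
    intro x hx
    rw [hQ] at hx ⊢
    obtain ⟨y, hy, rfl⟩ := hx
    exact ⟨⟨d, hd⟩ * y * ⟨d, hd⟩⁻¹, hP₀n.conj_mem y hy ⟨d, hd⟩, rfl⟩
  have hinv : ∀ g : Γ, g ∈ normalizer (D : Set Γ) → g ∈ normalizer (Q : Set Γ) := by
    intro g hg
    apply mem_normalizer_of_map_conj_eq
    obtain ⟨l, hl, hQl⟩ := exists_conj_of_card r D Q (Q.map (MulAut.conj g).toMonoidHom) hQD
      (map_conj_le_of_le_normalizer hQD hg) hQcard ((card_map_conj g Q).trans hQcard)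
    rw [hQl]
    exact map_conj_eq_of_mem_normalizer (hDQ hl)
  have hQr : IsPGroup r Q := by
    rw [sylCard] at hQcard
    exact IsPGroup.of_card hQcard
  have hQbot := c.eq_bot_of_isPGroup Q (hQD.trans hDM) (fun m hm => hinv m (hMD hm))
    (hinv a haD) (hinv b hbD) hQr
  rw [hQbot, card_bot, sylCard] at hQcard
  have h0 : (Nat.card D).factorization r = 0 := by
    by_contra h
    have : 1 < r ^ (Nat.card D).factorization r := Nat.one_lt_pow h hr.out.one_lt
    omega
  have h1 := (hr.out.dvd_iff_one_le_factorization Nat.card_pos.ne').mp hdvd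
  omega

end Ctx

/-- **The module lemma.** -/
theorem module_lemma [Finite Γ] {r : ℕ} [hr : Fact r.Prime] {V M : Subgroup Γ} {a b : Γ}
    (c : Ctx V M a b r) (hsolv : Group.IsSolvable M)
    (hnil : Group.IsNilpotent (⁅M, M⁆ : Subgroup Γ))
    (hmin0 : ∀ M₀ : Subgroup Γ, M₀ ≤ M → M₀ ≠ M → a ∈ normalizer (M₀ : Set Γ) →
      b ∈ normalizer (M₀ : Set Γ) → IsPGroup r (⁅M₀, M₀⁆ : Subgroup Γ)) :
    ∀ x ∈ M, ∀ y ∈ M, x * y = y * x := by
  by_contra hcomm
  have hDr : ¬ r ∣ Nat.card (⁅M, M⁆ : Subgroup Γ) := c.not_dvd_card_commutator hnil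
  have hDM : ⁅M, M⁆ ≤ M := commutator_le_self M
  have hMD : M ≤ normalizer ((⁅M, M⁆ : Subgroup Γ) : Set Γ) :=
    fun m hm => mem_normalizer_commutator (le_normalizer hm) (le_normalizer hm)
  have haD : a ∈ normalizer ((⁅M, M⁆ : Subgroup Γ) : Set Γ) := mem_normalizer_commutator c.aM c.aM
  have hbD : b ∈ normalizer ((⁅M, M⁆ : Subgroup Γ) : Set Γ) := mem_normalizer_commutator c.bM c.bM
  -- proper invariant subgroups are commutative
  have hmin : ∀ M₀ : Subgroup Γ, M₀ ≤ M → M₀ ≠ M → a ∈ normalizer (M₀ : Set Γ) →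
      b ∈ normalizer (M₀ : Set Γ) → ∀ x ∈ M₀, ∀ y ∈ M₀, x * y = y * x := by
    intro M₀ h1 h2 h3 h4
    have h5 := hmin0 M₀ h1 h2 h3 h4
    have h6 : ⁅M₀, M₀⁆ ≤ ⁅M, M⁆ := commutator_mono h1 h1
    have h7 : ⁅M₀, M₀⁆ = ⊥ := by
      obtain ⟨k, hk⟩ := IsPGroup.iff_card.mp h5
      have h8 : Nat.card (⁅M₀, M₀⁆ : Subgroup Γ) ∣ Nat.card (⁅M, M⁆ : Subgroup Γ) :=
        card_dvd_of_le h6
      rcases Nat.eq_zero_or_pos k with hk0 | hkpos
      · rw [hk0, pow_zero] at hk
        exact card_eq_one.mp hk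
      · exfalso
        apply hDr
        refine dvd_trans ?_ h8
        rw [hk]
        exact dvd_pow_self r hkpos.ne'
    intro x hx y hy
    have h9 : ⁅x, y⁆ ∈ ⁅M₀, M₀⁆ := commutator_mem_commutator hx hy
    rw [h7, mem_bot, commutatorElement_def] at h9
    calc x * y = (x * y * x⁻¹ * y⁻¹) * (y * x) := by group
      _ = y * x := by rw [h9, one_mul]
  have hMne : M ≠ ⊥ := by
    intro h
    apply hcomm
    intro x hx y hy
    rw [h, mem_bot] at hx hy
    rw [hx, hy]
  -- the derived subgroup is proper, hence commutative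
  have hDneM : ⁅M, M⁆ ≠ M := by
    have : Nontrivial M := (nontrivial_iff_ne_bot M).mpr hMne
    have h1 := Group.IsSolvable.commutator_lt_top_of_nontrivial M
    intro h
    have h2 : (commutator M).map M.subtype = M := by rw [map_subtype_commutator]; exact h
    have h3 : commutator M = ⊤ := by
      apply Subgroup.map_injective M.subtype_injective
      rw [h2, ← MonoidHom.range_eq_map, M.range_subtype]
    exact h1.ne h3
  have hDc : ∀ x ∈ (⁅M, M⁆ : Subgroup Γ), ∀ y ∈ (⁅M, M⁆ : Subgroup Γ), x * y = y * x :=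
    hmin ⁅M, M⁆ hDM hDneM haD hbD
  obtain ⟨D, hD⟩ : ∃ D : Subgroup Γ, D = ⁅M, M⁆ := ⟨_, rfl⟩
  rw [← hD] at hDM hMD haD hbD hDc
  -- `M` is not of prime power order
  have hnotp : ∀ t : ℕ, t.Prime → ¬ IsPGroup t M := by
    intro t ht hMt
    have : Fact t.Prime := ⟨ht⟩
    by_cases hrt : r = t
    · subst hrt
      exact hMne (c.eq_bot_of_isPGroup M le_rfl le_normalizer c.aM c.bM hMt)
    · exact hcomm (caseI hrt c hMt)
  -- invariant Sylow subgroups
  have hsyl : ∀ p : ℕ, p.Prime → ∃ Q : Subgroup Γ, Q ≤ M ∧ Nat.card Q = sylCard p M ∧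
      A6 a b ≤ normalizer (Q : Set Γ) := by
    intro p hp
    have : Fact p.Prime := ⟨hp⟩
    exact exists_invariant_sylow (A6 a b) M (A6_le_normalizer c.aM c.bM)
      (card_A6_coprime c.rel c.M6) (Or.inr hsolv) p
  choose S hSM hScard hSA using hsyl
  have hSp : ∀ p hp, IsPGroup p (S p hp) := fun p hp => by
    have : Fact p.Prime := ⟨hp⟩
    have h := hScard p hp
    rw [sylCard] at h
    exact IsPGroup.of_card h
  have hSne : ∀ p hp, S p hp ≠ M := by
    intro p hp h
    apply hnotp p hp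
    rw [← h]
    exact hSp p hp
  have hSc : ∀ p hp, ∀ x ∈ S p hp, ∀ y ∈ S p hp, x * y = y * x := fun p hp =>
    hmin _ (hSM p hp) (hSne p hp) (hSA p hp (mem_A6_a a b)) (hSA p hp (mem_A6_b a b))
  have hpowS : ∀ p hp, ∀ x ∈ S p hp, x ^ Nat.card (S p hp) = 1 := by
    intro p hp x hx
    have h : (⟨x, hx⟩ : S p hp) ^ Nat.card (S p hp) = 1 := pow_card_eq_one'
    have h' := congrArg Subtype.val h
    rwa [SubgroupClass.coe_pow, OneMemClass.coe_one] at h'
  by_cases hcen : ∀ z ∈ D, ∀ m ∈ M, z * m = m * z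
  · -- class two
    have hpair : ∀ p hp q hq, ∀ x ∈ S p hp, ∀ y ∈ S q hq, x * y = y * x := by
      intro p hp q hq x hx y hy
      by_cases hpq : p = q
      · subst hpq
        exact hSc p hp x hx y hy
      · have hw : x * y * x⁻¹ * y⁻¹ ∈ D := by
          have h := commutator_mem_commutator (hSM p hp hx) (hSM q hq hy)
          rw [commutatorElement_def] at h
          rw [hD]; exact h
        have h1 : Commute x (x * y * x⁻¹ * y⁻¹) := (hcen _ hw x (hSM p hp hx)).symm
        have h2 : Commute (x * y * x⁻¹ * y⁻¹) y := hcen _ hw y (hSM q hq hy)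
        refine commute_of_comm_central h1 h2 (hpowS p hp x hx) (hpowS q hq y hy) ?_
        rw [hScard p hp, hScard q hq, sylCard, sylCard]
        apply Nat.Coprime.pow
        exact (Nat.coprime_primes hp hq).mpr hpq
    have hZ : ∀ p hp, ∀ x ∈ S p hp, ∀ m ∈ M, x * m = m * x := by
      intro p hp x hx
      have h1 : M ⊓ centralizer ({x} : Set Γ) = M := by
        apply eq_of_forall_sylCard inf_le_left
        intro q hq
        refine ⟨S q hq, le_inf (hSM q hq) ?_, hScard q hq⟩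
        intro y hy
        rw [mem_centralizer_iff]
        intro h hh
        rw [Set.mem_singleton_iff] at hh
        rw [hh]
        exact hpair p hp q hq x hx y hy
      intro m hm
      rw [← h1] at hm
      exact mem_centralizer_iff.mp (mem_inf.mp hm).2 x (Set.mem_singleton x)
    apply hcomm
    have h1 : M ⊓ centralizer (M : Set Γ) = M := by
      apply eq_of_forall_sylCard inf_le_left
      intro q hq
      refine ⟨S q hq, le_inf (hSM q hq) ?_, hScard q hq⟩
      intro y hy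
      rw [mem_centralizer_iff]
      intro m hm
      exact (hZ q hq y hy m hm).symm
    intro x hx y hy
    rw [← h1] at hx
    exact (mem_centralizer_iff.mp (mem_inf.mp hx).2 y hy).symm
  · -- some primary part of `D` is not central
    have hex : ∃ t : ℕ, ∃ _ : t.Prime, ¬ ∀ τ ∈ primaryPart D t hDc, ∀ m ∈ M, τ * m = m * τ := by
      by_contra hall
      push Not at hall
      apply hcen
      have h1 : D ⊓ centralizer (M : Set Γ) = D := by
        apply eq_of_forall_sylCard inf_le_left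
        intro q hq
        have : Fact q.Prime := ⟨hq⟩
        obtain ⟨P₀⟩ : Nonempty (Sylow q D) := inferInstance
        have hPD : (P₀ : Subgroup D).map D.subtype ≤ D := map_subtype_le _
        have hPp : IsPGroup q ((P₀ : Subgroup D).map D.subtype) := P₀.isPGroup'.map _
        have hle := le_primaryPart_of_isPGroup hDc hPD hPp
        refine ⟨(P₀ : Subgroup D).map D.subtype, ?_, card_sylow_map q D P₀⟩
        intro x hx
        refine mem_inf.mpr ⟨hPD hx, ?_⟩
        rw [mem_centralizer_iff]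
        intro m hm
        exact (hall q hq x (hle hx) m hm).symm
      intro z hz m hm
      rw [← h1] at hz
      exact (mem_centralizer_iff.mp (mem_inf.mp hz).2 m hm).symm
    obtain ⟨t, ht, hT⟩ := hex
    have : Fact t.Prime := ⟨ht⟩
    obtain ⟨T, hTdef⟩ : ∃ T : Subgroup Γ, T = primaryPart D t hDc := ⟨_, rfl⟩
    rw [← hTdef] at hT
    have hTD : T ≤ D := by rw [hTdef]; exact primaryPart_le D t hDc
    have hTM : T ≤ M := hTD.trans hDM
    have hMT : M ≤ normalizer (T : Set Γ) := by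
      intro m hm
      rw [hTdef]
      exact mem_normalizer_primaryPart hDc (hMD hm)
    have haT : a ∈ normalizer (T : Set Γ) := by
      rw [hTdef]; exact mem_normalizer_primaryPart hDc haD
    have hbT : b ∈ normalizer (T : Set Γ) := by
      rw [hTdef]; exact mem_normalizer_primaryPart hDc hbD
    have hTt : IsPGroup t T := by rw [hTdef]; exact isPGroup_primaryPart D t hDc
    have hTc : ∀ x ∈ T, ∀ y ∈ T, x * y = y * x := fun x hx y hy => hDc x (hTD hx) y (hTD hy)
    have hrt : r ≠ t := by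
      intro hrt
      subst hrt
      have h1 := c.eq_bot_of_isPGroup T hTM hMT haT hbT hTt
      apply hT
      intro τ hτ m _
      rw [h1, mem_bot] at hτ
      rw [hτ, one_mul, mul_one]
    have hCne : M ⊓ centralizer (T : Set Γ) ≠ M := by
      intro h
      apply hT
      intro τ hτ m hm
      rw [← h] at hm
      exact mem_centralizer_iff.mp (mem_inf.mp hm).2 τ hτ
    have hexs : ∃ s : ℕ, ∃ hs : s.Prime, ¬ S s hs ≤ M ⊓ centralizer (T : Set Γ) := by
      by_contra hall
      push Not at hall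
      apply hCne
      apply eq_of_forall_sylCard inf_le_left
      intro q hq
      exact ⟨S q hq, hall q hq, hScard q hq⟩
    obtain ⟨s, hs, hSs⟩ := hexs
    have : Fact s.Prime := ⟨hs⟩
    have hst : s ≠ t := by
      intro hst
      apply hSs
      have e : sylCard s M = sylCard t M := by rw [hst]
      have hTS : T ≤ S s hs := le_of_card_sylCard t T M (S s hs) hTM hMT hTt (hSM s hs)
        ((hScard s hs).trans e)
      refine le_inf (hSM s hs) ?_
      intro y hy
      rw [mem_centralizer_iff]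
      intro τ hτ
      exact hSc s hs τ (hTS hτ) y hy
    have hnc : ¬ ∀ τ ∈ T, ∀ σ ∈ S s hs, σ * τ = τ * σ := by
      intro h
      apply hSs
      refine le_inf (hSM s hs) ?_
      intro σ hσ
      rw [mem_centralizer_iff]
      intro τ hτ
      exact (h τ hτ σ hσ).symm
    have haS : a ∈ normalizer ((S s hs : Subgroup Γ) : Set Γ) := hSA s hs (mem_A6_a a b)
    have hbS : b ∈ normalizer ((S s hs : Subgroup Γ) : Set Γ) := hSA s hs (mem_A6_b a b)
    have hTS : T ⊔ S s hs = M := by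
      by_contra hne
      apply hnc
      have h1 := hmin (T ⊔ S s hs) (sup_le hTM (hSM s hs)) hne (mem_normalizer_sup haT haS)
        (mem_normalizer_sup hbT hbS)
      intro τ hτ σ hσ
      exact h1 σ (mem_sup_right hσ) τ (mem_sup_left hτ)
    exact caseII c T (S s hs) hTM (hSM s hs) hMT haT hbT haS hbS hTc (hSc s hs) hTt (hSp s hs)
      hst hrt hTS hmin hnc

end Cfsg.Agent.Helper52.S3
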