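import Mathlib
import Cfsg.Agent.Lib.Helper52.FpfS3Module
import Cfsg.Agent.Lib.Helper52.FpfS3Lift
import Cfsg.Agent.Lib.Helper52.FpfFourMain
import Cfsg.Agent.Lib.Helper70.PSection
import Cfsg.Agent.S3939

/-!
# Fixed-point-free action of `S₃`: the main theorem

A finite solvable group of order prime to `6` with two automorphisms `α`, `β` satisfying the
relations of `S₃` and without common nontrivial fixed points has nilpotent derived subgroup.
-/

set_option autoImplicit false

namespace Cfsg.Agent.Helper52.S3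

open Subgroup
open scoped commutatorElement

universe u

section Holomorph

variable {G : Type u} [Group G] (V : Subgroup G) [hVn : V.Normal]

/-- the holomorph of `V` -/
abbrev Hol : Type u := ↥V ⋊[MonoidHom.id (MulAut ↥V)] MulAut ↥V

theorem finite_hol [Finite G] : Finite (Hol V) :=
  Finite.of_equiv _ SemidirectProduct.equivProd.symm

/-- `G → Hol V` by conjugation -/
def toHol : G →* Hol V := SemidirectProduct.inr.comp (MulAut.conjNormal (H := V))

theorem toHol_apply (g : G) : toHol V g = SemidirectProduct.inr (MulAut.conjNormal g) := rfl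

theorem inr_conj_inl (σ : MulAut V) (v : V) :
    (SemidirectProduct.inr σ : Hol V) * SemidirectProduct.inl v * (SemidirectProduct.inr σ)⁻¹ =
      SemidirectProduct.inl (σ v) := by
  rw [← map_inv]
  exact (SemidirectProduct.inl_aut (φ := MonoidHom.id (MulAut ↥V)) σ v).symm

theorem toHol_conj_inl (g : G) (v : V) :
    toHol V g * SemidirectProduct.inl v * (toHol V g)⁻¹ =
      SemidirectProduct.inl (MulAut.conjNormal g v) :=
  inr_conj_inl V _ v

variable [Finite G]

theorem restrict_conj (α : G ≃* G) (hVα : ∀ x ∈ V, α x ∈ V) (g : G) :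
    (restrictEquiv α V hVα : MulAut V) * MulAut.conjNormal g * (restrictEquiv α V hVα : MulAut V)⁻¹ =
      MulAut.conjNormal (α g) := by
  apply MulEquiv.ext
  intro v
  apply Subtype.ext
  have h : α (((restrictEquiv α V hVα : MulAut V)⁻¹ v : V) : G) = v := by
    rw [← restrictEquiv_apply α V hVα]
    exact congrArg Subtype.val (MulAut.apply_inv_self _ _ v)
  rw [MulAut.mul_apply, MulAut.mul_apply, restrictEquiv_apply, MulAut.conjNormal_apply,
    MulAut.conjNormal_apply, map_mul, map_mul, map_inv, h]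

theorem inr_conj_toHol (α : G ≃* G) (hVα : ∀ x ∈ V, α x ∈ V) (g : G) :
    (SemidirectProduct.inr (restrictEquiv α V hVα : MulAut V) : Hol V) * toHol V g *
      (SemidirectProduct.inr (restrictEquiv α V hVα : MulAut V))⁻¹ = toHol V (α g) := by
  rw [toHol_apply, toHol_apply, ← map_inv, ← map_mul, ← map_mul, restrict_conj]

theorem toHol_eq_one_iff (g : G) : toHol V g = 1 ↔ g ∈ centralizer (V : Set G) := by
  rw [toHol_apply, ← map_one (SemidirectProduct.inr : MulAut V →* Hol V),
    SemidirectProduct.inr_inj, mem_centralizer_iff]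
  constructor
  · intro h v hv
    have h1 := congrArg Subtype.val (DFunLike.congr_fun h ⟨v, hv⟩)
    rw [MulAut.conjNormal_apply, MulAut.one_apply] at h1
    change g * v * g⁻¹ = v at h1
    calc v * g = g * v * g⁻¹ * g := by rw [h1]
      _ = g * v := by group
  · intro h
    apply MulEquiv.ext
    intro v
    apply Subtype.ext
    rw [MulAut.conjNormal_apply, MulAut.one_apply, ← h v v.2]
    group

/-- the module context in the holomorph of a minimal invariant normal subgroup -/
theorem ctx_of_min (α β : G ≃* G) (h1 : ∀ x, α (α x) = x) (h2 : ∀ x, β (β (β x)) = x)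
    (h3 : ∀ x, β (α (β x)) = α x) (hfpf : ∀ x, α x = x → β x = x → x = 1)
    (hG6 : (Nat.card G).Coprime 6)
    (hVα : ∀ x ∈ V, α x ∈ V) (hVβ : ∀ x ∈ V, β x ∈ V) (hVne : V ≠ ⊥)
    (hVmin : ∀ N : Subgroup G, N.Normal → (∀ x ∈ N, α x ∈ N) → (∀ x ∈ N, β x ∈ N) → N ≠ ⊥ →
      N ≤ V → N = V)
    (r : ℕ) (hr6 : r.Coprime 6) (hVc : ∀ x ∈ V, ∀ y ∈ V, x * y = y * x)
    (hVr : ∀ v ∈ V, v ^ r = 1) :
    Ctx (SemidirectProduct.inl : V →* Hol V).range (toHol V).range
      (SemidirectProduct.inr (restrictEquiv α V hVα : MulAut V))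
      (SemidirectProduct.inr (restrictEquiv β V hVβ : MulAut V)) r := by
  have hfin : Finite (Hol V) := finite_hol V
  obtain ⟨α', hα'⟩ : ∃ α' : MulAut V, α' = restrictEquiv α V hVα := ⟨_, rfl⟩
  obtain ⟨β', hβ'⟩ : ∃ β' : MulAut V, β' = restrictEquiv β V hVβ := ⟨_, rfl⟩
  have hα'v : ∀ v : V, ((α' v : V) : G) = α v := by
    intro v; rw [hα']; exact restrictEquiv_apply α V hVα v
  have hβ'v : ∀ v : V, ((β' v : V) : G) = β v := by
    intro v; rw [hβ']; exact restrictEquiv_apply β V hVβ v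
  obtain ⟨a, ha⟩ : ∃ a : Hol V, a = SemidirectProduct.inr α' := ⟨_, rfl⟩
  obtain ⟨b, hb⟩ : ∃ b : Hol V, b = SemidirectProduct.inr β' := ⟨_, rfl⟩
  rw [← hα', ← hβ', ← ha, ← hb]
  have haψ : ∀ g, a * toHol V g * a⁻¹ = toHol V (α g) := by
    intro g; rw [ha, hα']; exact inr_conj_toHol V α hVα g
  have hbψ : ∀ g, b * toHol V g * b⁻¹ = toHol V (β g) := by
    intro g; rw [hb, hβ']; exact inr_conj_toHol V β hVβ g
  have hav : ∀ v : V, a * SemidirectProduct.inl v * a⁻¹ = SemidirectProduct.inl (α' v) := by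
    intro v; rw [ha]; exact inr_conj_inl V _ v
  have hbv : ∀ v : V, b * SemidirectProduct.inl v * b⁻¹ = SemidirectProduct.inl (β' v) := by
    intro v; rw [hb]; exact inr_conj_inl V _ v
  have hconj : ∀ {x y : Hol V}, x * y = y * x → x * y * x⁻¹ = y := by
    intro x y h; rw [h]; group
  have hrel : Rel a b := by
    have r1 : α' * α' = 1 := by
      apply MulEquiv.ext; intro v; apply Subtype.ext
      rw [MulAut.mul_apply, hα'v, hα'v, h1, MulAut.one_apply]
    have r2 : β' * β' * β' = 1 := by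
      apply MulEquiv.ext; intro v; apply Subtype.ext
      rw [MulAut.mul_apply, MulAut.mul_apply, hβ'v, hβ'v, hβ'v, h2, MulAut.one_apply]
    have r3 : β' * α' * β' = α' := by
      apply MulEquiv.ext; intro v; apply Subtype.ext
      rw [MulAut.mul_apply, MulAut.mul_apply, hβ'v, hα'v, hβ'v, h3, hα'v]
    have r3' : b * a * b = a := by rw [ha, hb, ← map_mul, ← map_mul, r3]
    refine ⟨?_, ?_, ?_⟩
    · rw [ha, ← map_mul, r1, map_one]
    · rw [hb, ← map_mul, ← map_mul, r2, map_one]
    · calc a * b * a⁻¹ = b⁻¹ * (b * a * b) * a⁻¹ := by group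
        _ = b⁻¹ := by rw [r3']; group
  -- the centralizer of `V`
  have hCα : ∀ x ∈ centralizer (V : Set G), α x ∈ centralizer (V : Set G) := by
    intro x hx
    rw [← toHol_eq_one_iff] at hx ⊢
    rw [← haψ, hx]; group
  have hCβ : ∀ x ∈ centralizer (V : Set G), β x ∈ centralizer (V : Set G) := by
    intro x hx
    rw [← toHol_eq_one_iff] at hx ⊢
    rw [← hbψ, hx]; group
  have hC6 : (Nat.card (centralizer (V : Set G))).Coprime 6 :=
    Nat.Coprime.coprime_dvd_left (card_subgroup_dvd_card _) hG6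
  refine
    { rel := hrel
      Vn := ?_
      Vc := ?_
      Vr := ?_
      Vne := ?_
      r6 := hr6
      aM := ?_
      bM := ?_
      M6 := Nat.Coprime.coprime_dvd_left (card_range_dvd _) hG6
      faith := ?_
      fixM := ?_
      fixV := ?_
      irr := ?_ }
  · rw [SemidirectProduct.range_inl_eq_ker_rightHom]
    infer_instance
  · rintro _ ⟨v, rfl⟩ _ ⟨w, rfl⟩
    rw [← map_mul, ← map_mul]
    congr 1
    exact Subtype.ext (hVc v v.2 w w.2)
  · rintro _ ⟨v, rfl⟩
    rw [← map_pow]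
    have : v ^ r = 1 := Subtype.ext (by rw [SubgroupClass.coe_pow]; exact hVr v v.2)
    rw [this, map_one]
  · intro hbot
    obtain ⟨v, hv⟩ := (Subgroup.ne_bot_iff_exists_ne_one).mp hVne
    apply hv
    have h : (SemidirectProduct.inl v : Hol V) ∈ (SemidirectProduct.inl : V →* Hol V).range :=
      ⟨v, rfl⟩
    rw [hbot, mem_bot] at h
    apply SemidirectProduct.inl_injective (φ := MonoidHom.id (MulAut ↥V))
    rw [h, map_one]
  · apply mem_normalizer_of_conj_mem
    rintro _ ⟨g, rfl⟩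
    exact ⟨α g, (haψ g).symm⟩
  · apply mem_normalizer_of_conj_mem
    rintro _ ⟨g, rfl⟩
    exact ⟨β g, (hbψ g).symm⟩
  · rintro _ ⟨g, rfl⟩ h
    rw [toHol_eq_one_iff, mem_centralizer_iff]
    intro v hv
    have h4 := hconj (h (SemidirectProduct.inl ⟨v, hv⟩) ⟨_, rfl⟩)
    rw [toHol_conj_inl] at h4
    have h5 := congrArg Subtype.val
      (SemidirectProduct.inl_injective (φ := MonoidHom.id (MulAut ↥V)) h4)
    rw [MulAut.conjNormal_apply] at h5
    change g * v * g⁻¹ = v at h5
    calc v * g = g * v * g⁻¹ * g := by rw [h5]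
      _ = g * v := by group
  · rintro _ ⟨g, rfl⟩ hag hbg
    rw [toHol_eq_one_iff]
    apply mem_of_fpf_pair α β h1 h2 h3 hfpf _ hCα hCβ hC6
    · rw [← toHol_eq_one_iff, map_mul, map_inv, ← haψ, hconj hag]; group
    · rw [← toHol_eq_one_iff, map_mul, map_inv, ← hbψ, hconj hbg]; group
  · rintro _ ⟨v, rfl⟩ hav' hbv'
    have h4 := hconj hav'
    rw [hav] at h4
    have h5 := congrArg Subtype.val
      (SemidirectProduct.inl_injective (φ := MonoidHom.id (MulAut ↥V)) h4)
    rw [hα'v] at h5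
    have h6 := hconj hbv'
    rw [hbv] at h6
    have h7 := congrArg Subtype.val
      (SemidirectProduct.inl_injective (φ := MonoidHom.id (MulAut ↥V)) h6)
    rw [hβ'v] at h7
    have h8 : (v : G) = 1 := hfpf _ h5 h7
    have h9 : v = 1 := Subtype.ext h8
    rw [h9, map_one]
  · intro W hW hMW haW hbW
    obtain ⟨W₀, hW₀⟩ : ∃ W₀ : Subgroup G,
      W₀ = (W.comap (SemidirectProduct.inl : V →* Hol V)).map V.subtype := ⟨_, rfl⟩
    have hmemW₀ : ∀ x, x ∈ W₀ ↔ ∃ w : V, (SemidirectProduct.inl w : Hol V) ∈ W ∧ (w : G) = x := by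
      intro x
      rw [hW₀]
      constructor
      · rintro ⟨w, hw, rfl⟩
        exact ⟨w, hw, rfl⟩
      · rintro ⟨w, hw, rfl⟩
        exact ⟨w, hw, rfl⟩
    have hW₀V : W₀ ≤ V := by
      intro x hx
      obtain ⟨w, _, rfl⟩ := (hmemW₀ x).mp hx
      exact w.2
    have hW₀n : W₀.Normal := by
      refine ⟨fun x hx g => ?_⟩
      obtain ⟨w, hw, rfl⟩ := (hmemW₀ x).mp hx
      rw [hmemW₀]
      refine ⟨MulAut.conjNormal g w, ?_, MulAut.conjNormal_apply g w⟩
      rw [← toHol_conj_inl]
      exact conj_mem_of_mem_normalizer (hMW ⟨g, rfl⟩) hw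
    have hW₀α : ∀ x ∈ W₀, α x ∈ W₀ := by
      intro x hx
      obtain ⟨w, hw, rfl⟩ := (hmemW₀ x).mp hx
      rw [hmemW₀]
      refine ⟨α' w, ?_, hα'v w⟩
      rw [← hav]
      exact conj_mem_of_mem_normalizer haW hw
    have hW₀β : ∀ x ∈ W₀, β x ∈ W₀ := by
      intro x hx
      obtain ⟨w, hw, rfl⟩ := (hmemW₀ x).mp hx
      rw [hmemW₀]
      refine ⟨β' w, ?_, hβ'v w⟩
      rw [← hbv]
      exact conj_mem_of_mem_normalizer hbW hw
    by_cases hbot : W₀ = ⊥
    · left
      rw [eq_bot_iff]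
      intro x hx
      obtain ⟨v, rfl⟩ := hW hx
      have h4 : (v : G) ∈ W₀ := (hmemW₀ _).mpr ⟨v, hx, rfl⟩
      rw [hbot, mem_bot] at h4
      have h5 : v = 1 := Subtype.ext h4
      rw [h5, map_one]
      exact mem_bot.mpr rfl
    · right
      have h4 := hVmin W₀ hW₀n hW₀α hW₀β hbot hW₀V
      apply le_antisymm hW
      rintro _ ⟨v, rfl⟩
      have h5 : (v : G) ∈ W₀ := by rw [h4]; exact v.2
      obtain ⟨w, hw, hwv⟩ := (hmemW₀ _).mp h5
      have h6 : w = v := Subtype.ext hwv
      rw [← h6]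
      exact hw

end Holomorph

/-- elements of the nilpotent derived subgroup of a subgroup containing `V` act as `r`-elements
on `V` -/
theorem exists_pow_mem_centralizer {G : Type u} [Group G] [Finite G] (V : Subgroup G)
    [hVn : V.Normal] {r : ℕ} (hr : r.Prime) (hVr : ∀ v ∈ V, v ^ r = 1) (G₀ : Subgroup G)
    (hVG₀ : V ≤ G₀) (hnil : Group.IsNilpotent (⁅G₀, G₀⁆ : Subgroup G)) :
    ∀ x ∈ (⁅G₀, G₀⁆ : Subgroup G), ∃ k : ℕ, x ^ (r ^ k) ∈ centralizer (V : Set G) := by
  intro x hx
  have hox : orderOf x ≠ 0 := (orderOf_pos x).ne'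
  obtain ⟨k, m, hm, hkm⟩ := Nat.exists_eq_pow_mul_and_not_dvd hox r hr.ne_one
  refine ⟨k, ?_⟩
  obtain ⟨y, hy⟩ : ∃ y, y = x ^ (r ^ k) := ⟨_, rfl⟩
  rw [← hy]
  have hyD : y ∈ (⁅G₀, G₀⁆ : Subgroup G) := by rw [hy]; exact pow_mem hx _
  have hym : y ^ m = 1 := by rw [hy, ← pow_mul, ← hkm, pow_orderOf_eq_one]
  have hyo : (orderOf y).Coprime r := by
    have h1 : orderOf y ∣ m := orderOf_dvd_of_pow_eq_one hym
    exact Nat.Coprime.coprime_dvd_left h1 ((Nat.Prime.coprime_iff_not_dvd hr).mpr hm).symm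
  rw [mem_centralizer_iff]
  intro v hv
  have hwV : y * v * y⁻¹ * v⁻¹ ∈ V := V.mul_mem (hVn.conj_mem v hv y) (V.inv_mem hv)
  have hwD : y * v * y⁻¹ * v⁻¹ ∈ (⁅G₀, G₀⁆ : Subgroup G) := by
    have h1 := commutator_mem_commutator (commutator_le_self G₀ hyD) (hVG₀ hv)
    rwa [commutatorElement_def] at h1
  have hwr : (y * v * y⁻¹ * v⁻¹) ^ r = 1 := hVr _ hwV
  have hcomm : (y * v * y⁻¹ * v⁻¹) * y = y * (y * v * y⁻¹ * v⁻¹) := by
    have hcop : (orderOf (⟨_, hwD⟩ : (⁅G₀, G₀⁆ : Subgroup G))).Coprime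
        (orderOf (⟨y, hyD⟩ : (⁅G₀, G₀⁆ : Subgroup G))) := by
      rw [Subgroup.orderOf_mk, Subgroup.orderOf_mk]
      have h1 : orderOf (y * v * y⁻¹ * v⁻¹) ∣ r := orderOf_dvd_of_pow_eq_one hwr
      exact Nat.Coprime.coprime_dvd_left h1 hyo.symm
    have h2 := Cfsg.Agent.S3939.commute_of_coprime (⁅G₀, G₀⁆ : Subgroup G) ⟨_, hwD⟩ ⟨y, hyD⟩ hcop
    exact congrArg Subtype.val h2
  have h1 := Cfsg.Agent.Helper70.commutator_eq_one_of_commute_of_coprime y v hyo hcomm
    ⟨1, by rw [pow_one]; exact hwr⟩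
  calc v * y = (y * v * y⁻¹ * v⁻¹)⁻¹ * (y * v) := by group
    _ = y * v := by rw [h1]; group

/-- **Fixed-point-free action of `S₃`.** A finite solvable group of order prime to `6` with
automorphisms `α`, `β` satisfying the relations of `S₃` and having no common nontrivial fixed point
has nilpotent derived subgroup. -/
theorem commutator_isNilpotent_of_fpf_S3 : ∀ (n : ℕ) (G : Type u) [Group G] [Finite G],
    Nat.card G = n → Group.IsSolvable G → (Nat.card G).Coprime 6 → ∀ α β : G ≃* G,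
    (∀ x, α (α x) = x) → (∀ x, β (β (β x)) = x) → (∀ x, β (α (β x)) = α x) →
    (∀ x, α x = x → β x = x → x = 1) → Group.IsNilpotent (commutator G) := by
  intro n
  induction n using Nat.strong_induction_on with
  | _ n ih =>
  intro G _ _ hn hsol hG6 α β h1 h2 h3 hfpf
  classical
  by_cases htriv : Subsingleton G
  · infer_instance
  have := hsol
  obtain ⟨V, hVn, hVα, hVβ, hVne, hVmin⟩ := exists_min_invariant_normal₂ α β htriv
  have := hVn
  have hVc := commute_of_min_invariant_normal₂ α β V hVn hVα hVβ hVne hVmin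
  obtain ⟨r, hr, hrG, hVr⟩ :=
    exists_prime_exponent_of_min_invariant_normal₂ α β V hVn hVα hVβ hVne hVmin
  have : Fact r.Prime := ⟨hr⟩
  have hr6 : r.Coprime 6 := Nat.Coprime.coprime_dvd_left hrG hG6
  have hfin : Finite (Hol V) := finite_hol V
  have c := ctx_of_min V α β h1 h2 h3 hfpf hG6 hVα hVβ hVne hVmin r hr6 hVc hVr
  -- the induction hypothesis for quotients
  have hquot : ∀ N : Subgroup G, ∀ hNn : N.Normal, (∀ x ∈ N, α x ∈ N) → (∀ x ∈ N, β x ∈ N) →
      N ≠ ⊥ → Group.IsNilpotent (commutator (G ⧸ N)) := by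
    intro N hNn hNα hNβ hNne
    have hlt : Nat.card (G ⧸ N) < n := hn ▸ card_quotient_lt_of_ne_bot' N hNne
    have hQsol : Group.IsSolvable (G ⧸ N) :=
      Group.isSolvable_of_surjective (f := QuotientGroup.mk' N) (QuotientGroup.mk'_surjective N)
    have hQ6 : (Nat.card (G ⧸ N)).Coprime 6 :=
      Nat.Coprime.coprime_dvd_left (card_quotient_dvd_card N) hG6
    have hN6 : (Nat.card N).Coprime 6 :=
      Nat.Coprime.coprime_dvd_left (card_subgroup_dvd_card N) hG6
    refine ih _ hlt (G ⧸ N) rfl hQsol hQ6 (quotEquiv α N hNα) (quotEquiv β N hNβ) ?_ ?_ ?_ ?_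
    · intro x
      obtain ⟨g, rfl⟩ := QuotientGroup.mk_surjective x
      rw [quotEquiv_mk, quotEquiv_mk, h1]
    · intro x
      obtain ⟨g, rfl⟩ := QuotientGroup.mk_surjective x
      rw [quotEquiv_mk, quotEquiv_mk, quotEquiv_mk, h2]
    · intro x
      obtain ⟨g, rfl⟩ := QuotientGroup.mk_surjective x
      rw [quotEquiv_mk, quotEquiv_mk, quotEquiv_mk, h3, quotEquiv_mk]
    · intro x hxα hxβ
      obtain ⟨g, rfl⟩ := QuotientGroup.mk_surjective x
      rw [quotEquiv_mk] at hxα hxβ
      rw [QuotientGroup.eq_one_iff]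
      apply mem_of_fpf_pair α β h1 h2 h3 hfpf N hNα hNβ hN6 g
      · exact QuotientGroup.eq.mp hxα.symm
      · exact QuotientGroup.eq.mp hxβ.symm
  -- the centralizer of `V`
  have hVC : V ≤ centralizer (V : Set G) := by
    intro v hv
    rw [mem_centralizer_iff]
    intro w hw
    exact hVc w hw v hv
  have hCne : centralizer (V : Set G) ≠ ⊥ := fun hcon => hVne (eq_bot_iff.mpr (hcon ▸ hVC))
  have hCα : ∀ x ∈ centralizer (V : Set G), α x ∈ centralizer (V : Set G) := by
    intro x hx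
    rw [← toHol_eq_one_iff] at hx ⊢
    rw [← inr_conj_toHol V α hVα, hx]; group
  have hCβ : ∀ x ∈ centralizer (V : Set G), β x ∈ centralizer (V : Set G) := by
    intro x hx
    rw [← toHol_eq_one_iff] at hx ⊢
    rw [← inr_conj_toHol V β hVβ, hx]; group
  have hMsolv : Group.IsSolvable (toHol V).range :=
    Group.isSolvable_of_surjective (f := (toHol V).rangeRestrict) (toHol V).rangeRestrict_surjective
  have hMnil : Group.IsNilpotent (⁅(toHol V).range, (toHol V).range⁆ : Subgroup (Hol V)) := by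
    have hqn := hquot (centralizer (V : Set G)) inferInstance hCα hCβ hCne
    have hker : centralizer (V : Set G) ≤ (toHol V).ker :=
      fun x hx => (MonoidHom.mem_ker).mpr ((toHol_eq_one_iff V x).mpr hx)
    obtain ⟨θ, hθdef⟩ : ∃ θ : G ⧸ centralizer (V : Set G) →* Hol V,
      θ = QuotientGroup.lift (centralizer (V : Set G)) (toHol V) hker := ⟨_, rfl⟩
    have hθmk : ∀ g : G, θ (g : G ⧸ centralizer (V : Set G)) = toHol V g := by
      intro g; rw [hθdef]; rfl
    have hθ : (commutator (G ⧸ centralizer (V : Set G))).map θ =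
        ⁅(toHol V).range, (toHol V).range⁆ := by
      rw [_root_.commutator_def, map_commutator]
      have h4 : (⊤ : Subgroup (G ⧸ centralizer (V : Set G))).map θ = (toHol V).range := by
        rw [← MonoidHom.range_eq_map]
        ext x
        constructor
        · rintro ⟨q, rfl⟩
          obtain ⟨g, rfl⟩ := QuotientGroup.mk_surjective q
          exact ⟨g, (hθmk g).symm⟩
        · rintro ⟨g, rfl⟩
          exact ⟨(g : G ⧸ centralizer (V : Set G)), hθmk g⟩
      rw [h4]
    rw [← hθ]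
    exact Group.nilpotent_of_surjective (θ.subgroupMap (commutator (G ⧸ centralizer (V : Set G))))
      (θ.subgroupMap_surjective _)
  -- proper invariant subgroups
  have hmin0 : ∀ M₀ : Subgroup (Hol V), M₀ ≤ (toHol V).range → M₀ ≠ (toHol V).range →
      (SemidirectProduct.inr (restrictEquiv α V hVα : MulAut V) : Hol V) ∈
        normalizer (M₀ : Set (Hol V)) →
      (SemidirectProduct.inr (restrictEquiv β V hVβ : MulAut V) : Hol V) ∈
        normalizer (M₀ : Set (Hol V)) →
      IsPGroup r (⁅M₀, M₀⁆ : Subgroup (Hol V)) := by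
    intro M₀ hM₀ hne haM₀ hbM₀
    obtain ⟨G₀, hG₀⟩ : ∃ G₀ : Subgroup G, G₀ = M₀.comap (toHol V) := ⟨_, rfl⟩
    have hmemG₀ : ∀ x, x ∈ G₀ ↔ toHol V x ∈ M₀ := by
      intro x; rw [hG₀, mem_comap]
    have hG₀α : ∀ x ∈ G₀, α x ∈ G₀ := by
      intro x hx
      rw [hmemG₀] at hx ⊢
      rw [← inr_conj_toHol V α hVα]
      exact conj_mem_of_mem_normalizer haM₀ hx
    have hG₀β : ∀ x ∈ G₀, β x ∈ G₀ := by
      intro x hx
      rw [hmemG₀] at hx ⊢
      rw [← inr_conj_toHol V β hVβ]
      exact conj_mem_of_mem_normalizer hbM₀ hx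
    have hG₀ne : G₀ ≠ ⊤ := by
      intro h
      apply hne
      apply le_antisymm hM₀
      rintro _ ⟨g, rfl⟩
      have h4 : g ∈ G₀ := h ▸ mem_top g
      exact (hmemG₀ g).mp h4
    have hVG₀ : V ≤ G₀ := by
      intro v hv
      rw [hmemG₀]
      have h4 : toHol V v = 1 := (toHol_eq_one_iff V v).mpr (hVC hv)
      rw [h4]
      exact one_mem _
    have hlt : Nat.card G₀ < n := by
      rw [← hn]
      exact lt_of_le_of_ne (Subgroup.card_le_card_group G₀)
        (fun h => hG₀ne (Subgroup.eq_top_of_card_eq G₀ h))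
    have hG₀6 : (Nat.card G₀).Coprime 6 :=
      Nat.Coprime.coprime_dvd_left (card_subgroup_dvd_card G₀) hG6
    have hnil₀ : Group.IsNilpotent (commutator G₀) := by
      refine ih _ hlt G₀ rfl inferInstance hG₀6 (restrictEquiv α G₀ hG₀α)
        (restrictEquiv β G₀ hG₀β) ?_ ?_ ?_ ?_
      · intro x
        apply Subtype.ext
        rw [restrictEquiv_apply, restrictEquiv_apply, h1]
      · intro x
        apply Subtype.ext
        rw [restrictEquiv_apply, restrictEquiv_apply, restrictEquiv_apply, h2]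
      · intro x
        apply Subtype.ext
        rw [restrictEquiv_apply, restrictEquiv_apply, restrictEquiv_apply, h3, restrictEquiv_apply]
      · intro x hxα hxβ
        apply Subtype.ext
        apply hfpf
        · exact congrArg Subtype.val hxα
        · exact congrArg Subtype.val hxβ
    have hnil₀' : Group.IsNilpotent (⁅G₀, G₀⁆ : Subgroup G) := by
      rw [← map_subtype_commutator]
      exact Group.nilpotent_of_surjective (G₀.subtype.subgroupMap (commutator G₀))
        (G₀.subtype.subgroupMap_surjective _)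
    have hpow := exists_pow_mem_centralizer V hr hVr G₀ hVG₀ hnil₀'
    have hmap : (⁅G₀, G₀⁆ : Subgroup G).map (toHol V) = ⁅M₀, M₀⁆ := by
      rw [map_commutator, hG₀, Subgroup.map_comap_eq_self hM₀]
    intro m
    have hm : (m : Hol V) ∈ (⁅G₀, G₀⁆ : Subgroup G).map (toHol V) := by rw [hmap]; exact m.2
    obtain ⟨x, hx, hxm⟩ := hm
    obtain ⟨k, hk⟩ := hpow x hx
    refine ⟨k, ?_⟩
    apply Subtype.ext
    rw [SubgroupClass.coe_pow, ← hxm, ← map_pow, OneMemClass.coe_one]
    exact (toHol_eq_one_iff V _).mpr hk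
  have hMc := module_lemma c hMsolv hMnil hmin0
  -- the derived subgroup centralizes `V`
  have hKC : commutator G ≤ centralizer (V : Set G) := by
    rw [commutator_eq_closure, closure_le]
    rintro _ ⟨g, h, rfl⟩
    change ⁅g, h⁆ ∈ centralizer (V : Set G)
    rw [← toHol_eq_one_iff, map_commutatorElement, commutatorElement_eq_one_iff_commute]
    exact hMc _ ⟨g, rfl⟩ _ ⟨h, rfl⟩
  -- induction hypothesis for `G ⧸ V`
  have hQnil : Group.IsNilpotent (commutator (G ⧸ V)) := hquot V hVn hVα hVβ hVne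
  -- central extension
  have hmem : ∀ k : commutator G, (QuotientGroup.mk' V) (k : G) ∈ commutator (G ⧸ V) := by
    intro k
    have h4 : (commutator G).map (QuotientGroup.mk' V) = commutator (G ⧸ V) := by
      rw [_root_.commutator_def, _root_.commutator_def, map_commutator,
        Subgroup.map_top_of_surjective _ (QuotientGroup.mk'_surjective V)]
    rw [← h4]
    exact ⟨k, k.2, rfl⟩
  let f : commutator G →* commutator (G ⧸ V) :=
    ((QuotientGroup.mk' V).comp (commutator G).subtype).codRestrict _ hmem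
  apply Subgroup.isNilpotent_of_ker_le_center f
  intro k hk
  rw [Subgroup.mem_center_iff]
  intro k'
  have h4 : ((k : G) : G ⧸ V) = 1 := by
    have := congrArg Subtype.val (MonoidHom.mem_ker.mp hk)
    exact this
  have h5 : (k : G) ∈ V := (QuotientGroup.eq_one_iff _).mp h4
  have h6 : (k' : G) ∈ centralizer (V : Set G) := hKC k'.2
  apply Subtype.ext
  change (k' : G) * k = k * k'
  exact ((mem_centralizer_iff.mp h6) k h5).symm

end Cfsg.Agent.Helper52.S3
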