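import Mathlib
import Cfsg.Agent.Lib.Helper31.SGFin3
import Cfsg.Agent.Lib.Helper31.G2Defs
import Cfsg.Agent.Lib.Helper52.SGBlkPlus

set_option autoImplicit false
set_option maxHeartbeats 1600000

/-!
# (FIN2) of helper31's G2 server (S3795, Gross `p = 2`): in the minimal faithful irreducible
configuration `ρ x` has every eigenvalue `ζ` with `ζ ^ 2 ^ (n+1) = 1`, `ζ ^ 2 ^ (n-1) ≠ 1`.
-/

namespace Cfsg.Agent.Helper52.G2

open Module Subgroup Finset
open Cfsg.Agent.Helper31.HH Cfsg.Agent.Helper31.SG Cfsg.Agent.Helper31.G2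

universe uG uK uV

/-- General `p`: in the minimal configuration of `SG.FinalStmt` there are `j`, `m` with `n = j + m`,
`1 < p ^ (m+1) - 1`, and every `ζ` with `ζ ^ p ^ (n+1) = 1`, `ζ ^ p ^ j ≠ 1` is an eigenvalue of
`ρ x`. -/
theorem top_final_aux {K : Type uK} [Field K] [IsAlgClosed K] (p q r : ℕ) [hp : Fact p.Prime]
    [hq : Fact q.Prime] [hr : Fact r.Prime] (hpq : p ≠ q) (hqr : q ≠ r)
    (hpr : p ≠ r) [CharP K r]
    (V : Type uV) [AddCommGroup V] [Module K V] [FiniteDimensional K V] [Nontrivial V]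
    (G : Type uG) [Group G] [Finite G] (ρ : Representation K G V) (hfaith : Function.Injective ρ)
    (Q : Subgroup G) [hQn : Q.Normal] (hQ : IsPGroup q Q) (x : G) (n : ℕ)
    (hgen : Q ⊔ zpowers x = ⊤)
    (hx : orderOf x = p ^ (n + 1)) (hNC : ∃ g ∈ Q, g * x ^ p ^ n ≠ x ^ p ^ n * g)
    (hminQ : ∀ Q₁ : Subgroup G, Q₁ ≤ Q → Q₁ ≠ Q → (∀ g ∈ Q₁, x * g * x⁻¹ ∈ Q₁) →
      ∀ g ∈ Q₁, g * x ^ p ^ n = x ^ p ^ n * g)
    (hirrG : ∀ U : Submodule K V, Cfsg.Agent.Helper31.HH.Inv ρ U → U = ⊥ ∨ U = ⊤)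
    (hfixV : ∀ v : V, ρ x v = v → v = 0) (hfixQ : ∀ g ∈ Q, x * g * x⁻¹ = g → g = 1) :
    ∃ j m : ℕ, n = j + m ∧ 1 < p ^ (m + 1) - 1 ∧
      ∀ ζ : K, ζ ^ p ^ (n + 1) = 1 → ζ ^ p ^ j ≠ 1 → ∃ v : V, v ≠ 0 ∧ ρ x v = ζ • v := by
  classical
  have hxP : x ^ p ^ (n + 1) = 1 := by rw [← hx, pow_orderOf_eq_one]
  set y := x ^ p ^ n with hy
  have hxy : x * y = y * x := by rw [hy, ← pow_succ', ← pow_succ]
  have hyp : y ^ p = 1 := by rw [hy, ← pow_mul, ← pow_succ, hxP]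
  have hC := centralizer_le_center_of_minimal hpq Q hQ x y hxy hyp hNC hminQ
  have hqK : (q : K) ≠ 0 := by
    intro h0
    have h1 := (CharP.cast_eq_zero_iff K r q).mp h0
    exact hqr ((Nat.prime_dvd_prime_iff_eq hr.out hq.out).mp h1).symm
  have hpK : (p : K) ≠ 0 := by
    intro h0
    have h1 := (CharP.cast_eq_zero_iff K r p).mp h0
    exact hpr ((Nat.prime_dvd_prime_iff_eq hr.out hp.out).mp h1).symm
  have hQx : ∀ g ∈ Q, x * g * x⁻¹ ∈ Q := fun g hg => hQn.conj_mem g hg x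
  -- commutators are centralised by `y`
  have hcommY : ∀ a ∈ Q, ∀ b ∈ Q, (a * b * a⁻¹ * b⁻¹) * y = y * (a * b * a⁻¹ * b⁻¹) := by
    have hQne : Q ≠ ⊥ := by
      obtain ⟨g, hg, hgne⟩ := hNC
      intro h
      rw [h, mem_bot] at hg
      apply hgne
      rw [hg, one_mul, mul_one]
    haveI : Nontrivial Q := (Subgroup.nontrivial_iff_ne_bot Q).mpr hQne
    haveI : Group.IsNilpotent Q := hQ.isNilpotent
    have hlt : commutator Q < ⊤ := IsSolvable.commutator_lt_top_of_nontrivial Q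
    have hD : ⁅Q, Q⁆ ≠ Q := by
      intro h
      have h1 := Subgroup.map_subtype_commutator Q
      rw [h] at h1
      have : commutator Q = ⊤ := by
        apply Subgroup.map_injective Q.subtype_injective
        rw [h1, ← MonoidHom.range_eq_map, Subgroup.range_subtype]
      exact hlt.ne this
    have hDle : ⁅Q, Q⁆ ≤ Q := Subgroup.commutator_le_self Q
    have hDx : ∀ g ∈ ⁅Q, Q⁆, x * g * x⁻¹ ∈ ⁅Q, Q⁆ :=
      fun g hg => (Subgroup.commutator_normal Q Q).conj_mem g hg x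
    intro a ha b hb
    have hmem : a * b * a⁻¹ * b⁻¹ ∈ ⁅Q, Q⁆ := Subgroup.commutator_mem_commutator ha hb
    exact hminQ _ hDle hD hDx _ hmem
  -- the Clifford tower
  set τ : Representation K Q V := ρ.comp Q.subtype with hτ
  set A : End K V := ρ x with hA
  set Ai : End K V := ρ x⁻¹ with hAi
  set α : Equiv.Perm Q := (MulAut.conjNormal x : MulAut Q).toEquiv with hα
  have hTw : Twist τ A Ai α := by
    refine ⟨?_, ?_, ?_⟩
    · rw [hA, hAi, ← map_mul, mul_inv_cancel, map_one]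
    · rw [hA, hAi, ← map_mul, inv_mul_cancel, map_one]
    · intro g
      show ρ x * ρ (g : G) = ρ ((α g : Q) : G) * ρ x
      rw [← map_mul, ← map_mul]
      congr 1
      have : ((α g : Q) : G) = x * g * x⁻¹ := MulAut.conjNormal_apply x g
      rw [this]
      group
  have hAP : A ^ (p ^ (n + 1)) = 1 := by rw [hA, ← map_pow, hxP, map_one]
  have hirr' : ∀ U : Submodule K V, Inv τ U → (∀ u ∈ U, A u ∈ U) → U = ⊥ ∨ U = ⊤ := by
    intro U hU hAU
    apply hirrG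
    exact inv_of_gen ρ Q x hgen U (fun g hg u hu => hU ⟨g, hg⟩ u hu) hAU
  obtain ⟨j, hj, V₀, hV₀, hV₀A, hsup, hdim⟩ :=
    Cfsg.Agent.Helper31.SGP.sg_clifford_tower p hp.out (n + 1) V Q τ A Ai α hTw hAP hirr'
  set J := p ^ j with hJ
  have hJpos : 0 < J := pow_pos hp.out.pos j
  have hinj := block_inj A V₀ J hJpos hsup hdim
  have hfixV₀ : ∀ v ∈ V₀, (A ^ J) v = v → v = 0 := by
    intro v hv hfix
    apply hinj v hv
    apply hfixV
    exact sum_pow_fixed A J v hfix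
  have hjn : j ≤ n := by
    by_contra hcon
    have hj' : j = n + 1 := by omega
    obtain ⟨v, hv, hvne⟩ := (Submodule.ne_bot_iff V₀).mp hV₀.2.1
    apply hvne
    apply hfixV₀ v hv
    rw [hJ, hj', hAP]
    rfl
  obtain ⟨m, hm⟩ : ∃ m, n = j + m := ⟨n - j, by omega⟩
  set y' := x ^ J with hy'
  have hy'ord : orderOf y' = p ^ (m + 1) := by
    rw [hy', orderOf_pow_of_dvd hJpos.ne' (by rw [hx, hJ]; exact pow_dvd_pow p (by omega)), hx, hJ,
      Nat.pow_div (by omega) hp.out.pos]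
    congr 1
    omega
  have hy'y : y' ^ p ^ m = y := by
    rw [hy', hy, ← pow_mul, hJ, ← pow_add, hm]
  have hρy' : ρ y' = A ^ J := by rw [hy', map_pow]
  -- the blocks
  have hApowinj : ∀ i : ℕ, ∀ v : V, (A ^ i) v = 0 → v = 0 := by
    intro i v hv
    have := (hTw.pow i).inv_apply v
    rw [hv, map_zero] at this
    exact this.symm
  have hAiJ : ∀ i : ℕ, ∀ v : V, (A ^ J) ((A ^ i) v) = (A ^ i) ((A ^ J) v) := by
    intro i v
    rw [← Module.End.mul_apply, ← Module.End.mul_apply, ← pow_add, ← pow_add, add_comm]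
  have hBQ : ∀ i : ℕ, ∀ g ∈ Q, ∀ u ∈ V₀.map (A ^ i), ρ g u ∈ V₀.map (A ^ i) :=
    fun i g hg u hu => ((hTw.pow i).inv_map hV₀.1) ⟨g, hg⟩ u hu
  have hBy : ∀ i : ℕ, ∀ u ∈ V₀.map (A ^ i), ρ y' u ∈ V₀.map (A ^ i) := by
    rintro i _ ⟨v, hv, rfl⟩
    rw [hρy', hAiJ]
    exact ⟨_, hV₀A v hv, rfl⟩
  have hBirr : ∀ i : ℕ, ∀ U' : Submodule K V, U' ≤ V₀.map (A ^ i) →
      (∀ g ∈ Q, ∀ u ∈ U', ρ g u ∈ U') → U' = ⊥ ∨ U' = V₀.map (A ^ i) := by
    intro i U' hle hinv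
    exact ((hTw.pow i).simple_map hV₀).2.2 U' (fun g s hs => hinv g.1 g.2 s hs) hle
  have hBfix : ∀ i : ℕ, ∀ u ∈ V₀.map (A ^ i), ρ y' u = u → u = 0 := by
    rintro i _ ⟨v, hv, rfl⟩ hfix
    rw [hρy', hAiJ] at hfix
    have h1 : (A ^ i) ((A ^ J) v - v) = 0 := by rw [map_sub, hfix, sub_self]
    have h2 := hApowinj i _ h1
    have h3 := hfixV₀ v hv (sub_eq_zero.mp h2)
    rw [h3, map_zero]
  have hBdim : ∀ i : ℕ, finrank K (V₀.map (A ^ i)) = finrank K V₀ := by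
    intro i
    have hinj' : Function.Injective (A ^ i) := by
      intro v w hvw
      have := hApowinj i (v - w) (by rw [map_sub, hvw, sub_self])
      exact sub_eq_zero.mp this
    exact (Submodule.equivMapOfInjective (A ^ i) hinj' V₀).finrank_eq.symm
  have hV₀y' : ∀ v ∈ V₀, ρ y' v ∈ V₀ := by
    intro v hv
    rw [hρy']
    exact hV₀A v hv
  have hV₀y : ∀ v ∈ V₀, ρ y v ∈ V₀ := by
    intro v hv
    rw [← hy'y, map_pow]
    have : ∀ k : ℕ, ∀ v ∈ V₀, ((ρ y') ^ k) v ∈ V₀ := by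
      intro k
      induction k with
      | zero => intro v hv; simpa using hv
      | succ k ih =>
        intro v hv
        rw [pow_succ', Module.End.mul_apply]
        exact hV₀y' _ (ih v hv)
    exact this _ v hv
  have hQxi : ∀ i : ℕ, ∀ g ∈ Q, (x ^ i)⁻¹ * g * x ^ i ∈ Q := by
    intro i g hg
    have := hQn.conj_mem g hg (x ^ i)⁻¹
    simpa using this
  have hF3 : ∃ g ∈ Q, ∃ v ∈ V₀, ρ g (ρ y v) ≠ ρ y (ρ g v) := by
    by_contra hcon
    push Not at hcon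
    obtain ⟨g, hg, hgne⟩ := hNC
    apply hgne
    apply hfaith
    rw [map_mul, map_mul]
    exact commute_of_commute_on_induced ρ Q x y J hxy hQxi V₀ hsup hcon g hg
  have hd : 1 < finrank K V₀ := by
    by_contra hcon
    have hpos : 0 < finrank K V₀ := by
      rw [Module.finrank_pos_iff]
      exact (Submodule.nontrivial_iff_ne_bot).mpr hV₀.2.1
    have h1 : finrank K V₀ = 1 := by omega
    obtain ⟨g, hg, v, hv, hne⟩ := hF3
    exact hne (commute_of_finrank_one V₀ h1 (ρ g) (ρ y) (fun u hu => hV₀.1 ⟨g, hg⟩ u hu)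
      hV₀y v hv)
  have hcen' : ∀ g ∈ Q, g * y' ^ p ^ m = y' ^ p ^ m * g → ∀ h ∈ Q, g * h = h * g := by
    rw [hy'y]
    exact hC
  have hcomm' : ∀ a ∈ Q, ∀ b ∈ Q,
      (a * b * a⁻¹ * b⁻¹) * y' ^ p ^ m = y' ^ p ^ m * (a * b * a⁻¹ * b⁻¹) := by
    rw [hy'y]
    exact hcommY
  have hblk := fun i : ℕ => blk_G ρ Q hpq hQ hqK hpK y' m hy'ord (V₀.map (A ^ i)) (hBQ i) (hBy i)
    (hBirr i) hcen' hcomm' (hBfix i) (by rw [hBdim i]; exact hd)
  set d := finrank K V₀ with hd_def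
  have hd1 : d + 1 = p ^ (m + 1) := by
    have := (hblk 0).1
    rwa [hBdim 0] at this
  have hV₀0 : V₀.map (A ^ 0) = V₀ := by
    rw [pow_zero]
    exact Submodule.map_id V₀
  have hplus := Cfsg.Agent.Helper52.SG2.blk_G_plus ρ Q hpq hQ hqK hpK y' m hy'ord (V₀.map (A ^ 0))
    (hBQ 0) (hBy 0) (hBirr 0) hcen' hcomm' (hBfix 0) (by rw [hBdim 0]; exact hd)
  refine ⟨j, m, hm, by omega, ?_⟩
  intro ζ hζP hζJ
  have hζ0 : ζ ≠ 0 := by
    intro h0
    rw [h0, zero_pow (pow_pos hp.out.pos _).ne'] at hζP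
    exact zero_ne_one hζP
  have hηP : (ζ ^ J) ^ p ^ (m + 1) = 1 := by
    rw [← pow_mul, hJ, ← pow_add, show j + (m + 1) = n + 1 by omega, hζP]
  obtain ⟨v₀, hv₀mem, hv₀ne, hv₀⟩ := hplus (ζ ^ J) hηP hζJ
  rw [hV₀0] at hv₀mem
  rw [hρy'] at hv₀
  -- the twisted operator
  set B : End K V := ζ⁻¹ • A with hB
  have hBpow : ∀ i : ℕ, B ^ i = (ζ⁻¹) ^ i • A ^ i := by
    intro i
    rw [hB, smul_pow]
  have hBJ : (B ^ J) v₀ = v₀ := by
    rw [hBpow, LinearMap.smul_apply, hv₀, smul_smul, inv_pow, inv_mul_cancel₀ (pow_ne_zero _ hζ0),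
      one_smul]
  have hmapB : ∀ i : ℕ, V₀.map (B ^ i) = V₀.map (A ^ i) := by
    intro i
    rw [hBpow]
    exact Submodule.map_smul (A ^ i) V₀ ((ζ⁻¹) ^ i) (pow_ne_zero _ (inv_ne_zero hζ0))
  have hsupB : (⨆ i ∈ range J, V₀.map (B ^ i)) = ⊤ := by
    rw [← hsup]
    congr 1
    funext i
    rw [hmapB i]
  have hinjB := block_inj B V₀ J hJpos hsupB hdim
  refine ⟨∑ i ∈ range J, (B ^ i) v₀, ?_, ?_⟩
  · intro h0
    exact hv₀ne (hinjB v₀ hv₀mem h0)
  · have h1 := sum_pow_fixed B J v₀ hBJ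
    rw [hB, LinearMap.smul_apply] at h1
    have h2 := congrArg (fun w => ζ • w) h1
    simp only [smul_smul, mul_inv_cancel₀ hζ0, one_smul] at h2
    rw [← hB] at h2
    exact h2

/-- (FIN2) the minimal configuration. -/
theorem g2_top_final {K : Type uK} [Field K] [IsAlgClosed K] (q r : ℕ) [hq : Fact q.Prime]
    [hr : Fact r.Prime] (hq2 : q ≠ 2) (hr2 : r ≠ 2) (hqr : q ≠ r) [CharP K r] :
    TopFinal.{uG, uK, uV} K q := by
  intro V _ _ _ _ G _ _ ρ hfaith Q hQn hQ x n hn1 hgen hx hNC hminQ hirrG hfixV hfixQ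
  haveI : Fact (Nat.Prime 2) := ⟨Nat.prime_two⟩
  obtain ⟨j, m, hnjm, hdm, hall⟩ := top_final_aux 2 q r (Ne.symm hq2) hqr (Ne.symm hr2) V G ρ hfaith
    Q hQ x n hgen hx hNC hminQ hirrG hfixV hfixQ
  have hm1 : 1 ≤ m := by
    by_contra hcon
    have hm0 : m = 0 := by omega
    rw [hm0] at hdm
    norm_num at hdm
  intro ζ hζP hζn
  apply hall ζ hζP
  intro hζJ
  apply hζn
  have : n - 1 = j + (m - 1) := by omega
  rw [this, pow_add, pow_mul, hζJ, one_pow]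

end Cfsg.Agent.Helper52.G2
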