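-- helper52: general tools for S3117 (restriction / quotient of automorphism groups, perfect subgroups).
import Mathlib

set_option autoImplicit false

namespace Cfsg.Agent.Helper52.Konv

variable {X : Type*} [Group X]

/-- Restriction of a group of automorphisms to an invariant subgroup. -/
def resAut (B : Subgroup (MulAut X)) (Y : Subgroup X)
    (hY : ∀ b ∈ B, ∀ y ∈ Y, b y ∈ Y) : ↥B →* MulAut ↥Y where
  toFun b :=
    { toFun := fun y => ⟨b.1 y.1, hY b.1 b.2 y.1 y.2⟩
      invFun := fun y => ⟨(b.1⁻¹) y.1, hY b.1⁻¹ (B.inv_mem b.2) y.1 y.2⟩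
      left_inv := fun y => by ext; simp
      right_inv := fun y => by ext; simp
      map_mul' := fun y z => by ext; simp }
  map_one' := by ext; simp
  map_mul' := fun a b => by ext; simp

@[simp] theorem resAut_apply (B : Subgroup (MulAut X)) (Y : Subgroup X)
    (hY : ∀ b ∈ B, ∀ y ∈ Y, b y ∈ Y) (b : ↥B) (y : ↥Y) :
    ((resAut B Y hY b) y : X) = b.1 y.1 := rfl

/-- The induced action on the quotient by an invariant normal subgroup. -/
def quoAut (B : Subgroup (MulAut X)) (N : Subgroup X) [N.Normal]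
    (hN : ∀ b ∈ B, ∀ n ∈ N, b n ∈ N) : ↥B →* MulAut (X ⧸ N) where
  toFun b := MonoidHom.toMulEquiv
      (QuotientGroup.map N N (b.1 : X ≃* X).toMonoidHom (fun n hn => hN b.1 b.2 n hn))
      (QuotientGroup.map N N (b.1⁻¹ : X ≃* X).toMonoidHom
        (fun n hn => hN b.1⁻¹ (B.inv_mem b.2) n hn))
      (by
        apply QuotientGroup.monoidHom_ext
        ext x
        simp)
      (by
        apply QuotientGroup.monoidHom_ext
        ext x
        simp)
  map_one' := by
    ext x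
    induction x using QuotientGroup.induction_on with
    | H x => simp
  map_mul' := fun a b => by
    ext x
    induction x using QuotientGroup.induction_on with
    | H x => simp

@[simp] theorem quoAut_mk (B : Subgroup (MulAut X)) (N : Subgroup X) [N.Normal]
    (hN : ∀ b ∈ B, ∀ n ∈ N, b n ∈ N) (b : ↥B) (x : X) :
    (quoAut B N hN b) (QuotientGroup.mk x : X ⧸ N) = QuotientGroup.mk (b.1 x) := rfl

/-- If `b` fixes every `b x * x⁻¹`, then `b ^ |X| = 1`. -/
theorem pow_card_eq_one_of_fix [Finite X] (b : MulAut X)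
    (h : ∀ x, b (b x * x⁻¹) = b x * x⁻¹) : b ^ Nat.card X = 1 := by
  have key : ∀ (n : ℕ) (x : X), (b ^ n) x = (b x * x⁻¹) ^ n * x := by
    intro n
    induction n with
    | zero => intro x; simp
    | succ n ih =>
      intro x
      rw [pow_succ', MulAut.mul_apply, ih x, map_mul, map_pow, h x, pow_succ]
      group
  ext x
  rw [key, pow_card_eq_one', one_mul, MulAut.one_apply]

theorem top_perfect_of_perfect {A : Type*} [Group A] (B : Subgroup A) (hperf : ⁅B, B⁆ = B) :
    ⁅(⊤ : Subgroup ↥B), (⊤ : Subgroup ↥B)⁆ = (⊤ : Subgroup ↥B) := by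
  have h1 : (⊤ : Subgroup ↥B).map B.subtype = B := by
    rw [← MonoidHom.range_eq_map, Subgroup.range_subtype]
  apply Subgroup.map_injective B.subtype_injective
  rw [Subgroup.map_commutator, h1, hperf]

theorem eq_bot_of_perfect_of_solvable {A : Type*} [Group A] (B : Subgroup A)
    (hperf : ⁅B, B⁆ = B) (hs : Group.IsSolvable ↥B) : B = ⊥ := by
  obtain ⟨n, hn⟩ := hs
  have hT := top_perfect_of_perfect B hperf
  have key : ∀ n, derivedSeries ↥B n = ⊤ := by
    intro n
    induction n with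
    | zero => rfl
    | succ n ih => rw [derivedSeries_succ, ih, hT]
  rw [key n] at hn
  rw [eq_bot_iff]
  intro b hb
  have : (⟨b, hb⟩ : ↥B) ∈ (⊤ : Subgroup ↥B) := Subgroup.mem_top _
  rw [hn, Subgroup.mem_bot] at this
  rw [Subgroup.mem_bot]
  exact congrArg Subtype.val this

theorem range_perfect {A C : Type*} [Group A] [Group C] (B : Subgroup A) (hperf : ⁅B, B⁆ = B)
    (f : ↥B →* C) : ⁅f.range, f.range⁆ = f.range := by
  rw [MonoidHom.range_eq_map, ← Subgroup.map_commutator, top_perfect_of_perfect B hperf]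

/-- A perfect group of automorphisms acts trivially through any homomorphism to a solvable group. -/
theorem hom_trivial_of_perfect {A C : Type*} [Group A] [Group C] (B : Subgroup A)
    (hperf : ⁅B, B⁆ = B) (f : ↥B →* C) (hC : Group.IsSolvable ↥f.range) (b : ↥B) : f b = 1 := by
  have h1 := eq_bot_of_perfect_of_solvable f.range (range_perfect B hperf f) hC
  have : f b ∈ f.range := ⟨b, rfl⟩
  rw [h1, Subgroup.mem_bot] at this
  exact this

end Cfsg.Agent.Helper52.Konv

namespace Cfsg.Agent.Helper52.Konv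

theorem exists_three_primes {n : ℕ} (hn : 1 < n)
    (h : ∀ p q a b : ℕ, p.Prime → q.Prime → n ≠ p ^ a * q ^ b) :
    ∃ p q r : ℕ, p.Prime ∧ q.Prime ∧ r.Prime ∧ p ≠ q ∧ p ≠ r ∧ q ≠ r ∧ p ∣ n ∧ q ∣ n ∧ r ∣ n := by
  have hn0 : n ≠ 0 := by omega
  obtain ⟨p, hpp, hpn⟩ : ∃ p, p.Prime ∧ p ∣ n :=
    ⟨n.minFac, Nat.minFac_prime (by omega), Nat.minFac_dvd n⟩
  obtain ⟨a, m, hpm, hnm⟩ := Nat.exists_eq_pow_mul_and_not_dvd hn0 p hpp.ne_one
  have hm1 : m ≠ 1 := by
    rintro rfl
    exact h p 2 a 0 hpp Nat.prime_two (by rw [hnm]; simp)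
  have hm0 : m ≠ 0 := by
    rintro rfl
    apply hn0
    rw [hnm, mul_zero]
  obtain ⟨q, hqp, hqm'⟩ : ∃ q, q.Prime ∧ q ∣ m :=
    ⟨m.minFac, Nat.minFac_prime hm1, Nat.minFac_dvd m⟩
  obtain ⟨b, m', hqm, hmm⟩ := Nat.exists_eq_pow_mul_and_not_dvd hm0 q hqp.ne_one
  have hm'1 : m' ≠ 1 := by
    rintro rfl
    exact h p q a b hpp hqp (by rw [hnm, hmm, mul_one])
  obtain ⟨r, hrp, hrm'⟩ : ∃ r, r.Prime ∧ r ∣ m' :=
    ⟨m'.minFac, Nat.minFac_prime hm'1, Nat.minFac_dvd m'⟩
  have hm'm : m' ∣ m := ⟨q ^ b, by rw [hmm]; ring⟩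
  have hmn : m ∣ n := ⟨p ^ a, by rw [hnm]; ring⟩
  refine ⟨p, q, r, hpp, hqp, hrp, ?_, ?_, ?_, hpn, hqm'.trans hmn, (hrm'.trans hm'm).trans hmn⟩
  · rintro rfl; exact hpm hqm'
  · rintro rfl; exact hpm (hrm'.trans hm'm)
  · rintro rfl; exact hqm hrm'

/-- Among three distinct primes dividing `n` one is at least 5. -/
theorem exists_prime_ge_five {n : ℕ} (hn : 1 < n)
    (h : ∀ p q a b : ℕ, p.Prime → q.Prime → n ≠ p ^ a * q ^ b) :
    ∃ p : ℕ, p.Prime ∧ 5 ≤ p ∧ p ∣ n := by
  obtain ⟨p, q, r, hp, hq, hr, hpq, hpr, hqr, hpn, hqn, hrn⟩ := exists_three_primes hn h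
  by_contra hcon
  push Not at hcon
  have h23 : ∀ s : ℕ, s.Prime → s ∣ n → s = 2 ∨ s = 3 := by
    intro s hs hsn
    have h5 : s < 5 := by
      by_contra h5
      exact hcon s hs (by omega) hsn
    have h2 := hs.two_le
    interval_cases s
    · left; rfl
    · right; rfl
    · exact absurd hs (by decide)
  rcases h23 p hp hpn with rfl | rfl <;> rcases h23 q hq hqn with rfl | rfl <;>
    rcases h23 r hr hrn with rfl | rfl <;> simp_all

end Cfsg.Agent.Helper52.Konv
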