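-- helper52: (L2) a perfect group of isometries of an anisotropic quadratic map on <= 16 points is trivial.
import Cfsg.Agent.Lib.Helper52.KonvDefs
import Cfsg.Agent.Lib.Helper52.KonvTools
import Cfsg.Agent.Lib.Helper3.CharBurnside
import Cfsg.Agent.Lib.Helper42.KonvP1
import Cfsg.Agent.Lib.Helper77.KonvP3

set_option autoImplicit false
set_option linter.style.haveILetI false

namespace Cfsg.Agent.Helper52.Konv

variable {W T : Type*} [Group W] [Group T]

theorem L2 {q : W → T} (h : AQ q) [Finite W] (hW : Nat.card W ≤ 16) (B : Subgroup (MulAut W))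
    (hB : ∀ b ∈ B, ∀ w, q (b w) = q w) (hperf : ⁅B, B⁆ = B) : B = ⊥ := by
  classical
  by_contra hne
  haveI : Finite (MulAut W) := Finite.of_injective (fun e : MulAut W => (e : W → W))
    (fun a b hab => MulEquiv.ext (fun x => congrFun hab x))
  have hns : ¬ Group.IsSolvable ↥B := fun hs => hne (eq_bot_of_perfect_of_solvable B hperf hs)
  have hn1 : 1 < Nat.card ↥B := by
    by_contra hle
    have h1 : Nat.card ↥B = 1 := by
      have := Nat.card_pos (α := ↥B)
      omega
    exact hne (Subgroup.card_eq_one.mp h1)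
  obtain ⟨p, hp, hp5, hpB⟩ := exists_prime_ge_five hn1
    (fun p q a b hp hq hcard => hns (Cfsg.Agent.Helper3.burnside_paqb p q a b hp hq hcard))
  haveI := Fact.mk hp
  obtain ⟨σ, hσ⟩ := exists_prime_orderOf_dvd_card' p hpB
  have hσ' : orderOf (σ : MulAut W) = p := by rw [Subgroup.orderOf_coe]; exact hσ
  rcases Cfsg.Agent.Helper42.Konv.P1 h.W_sq hW (σ : MulAut W) p hp hp5 hσ' with ⟨rfl, h16, hfpf⟩ | ⟨rfl, U, hU, hinv, hfpf⟩
  · have h10 := Cfsg.Agent.Helper77.KonvP3.P3 h h16 B hB (σ : MulAut W) σ.2 hσ' hfpf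
    have hcases : Nat.card ↥B = 5 ∨ Nat.card ↥B = 10 := by
      obtain ⟨k, hk⟩ := hpB
      have hk0 : 0 < k := by
        rcases Nat.eq_zero_or_pos k with rfl | h0
        · omega
        · exact h0
      have : k ≤ 2 := by omega
      interval_cases k <;> omega
    rcases hcases with h5 | h10'
    · exact hns (Cfsg.Agent.Helper3.burnside_paqb 5 2 1 0 (by norm_num) (by norm_num)
        (by rw [h5]; norm_num))
    · exact hns (Cfsg.Agent.Helper3.burnside_paqb 5 2 1 1 (by norm_num) (by norm_num)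
        (by rw [h10']; norm_num))
  · have h7 : (σ : MulAut W) ^ 7 = 1 := by rw [← hσ']; exact pow_orderOf_eq_one _
    exact Cfsg.Agent.Helper42.Konv.P2 h (σ : MulAut W) h7 (hB _ σ.2) U hU hinv hfpf

end Cfsg.Agent.Helper52.Konv
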