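-- helper52: core of S3117: a perfect group of automorphisms fixing a central subgroup Z that contains
-- all squares and all involutions acts trivially on X/Z.
import Cfsg.Agent.Lib.Helper52.KonvL2
import Cfsg.Agent.Lib.Helper16.KonvL1

set_option autoImplicit false
set_option linter.style.haveILetI false

universe u

namespace Cfsg.Agent.Helper52.Konv

variable {X : Type u} [Group X]

theorem finite_mulAut [Finite X] : Finite (MulAut X) :=
  Finite.of_injective (fun e : MulAut X => (e : X → X))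
    (fun _ _ hab => MulEquiv.ext (fun x => congrFun hab x))

/-- A perfect group of automorphisms of a 2-group fixing every `b x * x⁻¹` is trivial. -/
theorem eq_bot_of_fix [Finite X] (h2 : IsPGroup 2 X) (B : Subgroup (MulAut X))
    (hperf : ⁅B, B⁆ = B) (hfix : ∀ b ∈ B, ∀ x : X, b (b x * x⁻¹) = b x * x⁻¹) : B = ⊥ := by
  haveI : Fact (Nat.Prime 2) := ⟨Nat.prime_two⟩
  obtain ⟨k, hk⟩ := (IsPGroup.iff_card).mp h2
  have hp : IsPGroup 2 ↥B := by
    intro b
    refine ⟨k, ?_⟩
    have := pow_card_eq_one_of_fix b.1 (hfix b.1 b.2)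
    rw [hk] at this
    exact Subtype.ext (by simpa using this)
  haveI : Finite (MulAut X) := finite_mulAut
  have hs : Group.IsSolvable ↥B := by
    haveI := hp.isNilpotent
    infer_instance
  exact eq_bot_of_perfect_of_solvable B hperf hs

/-- The core: a perfect group of automorphisms fixing a central subgroup `Z` containing all squares and
all involutions moves every element only inside its `Z`-coset. -/
theorem core [Finite X] (hinv : Nat.card {x : X // x ^ 2 = 1} ≤ 4)
    (B : Subgroup (MulAut X)) (hperf : ⁅B, B⁆ = B)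
    (Z : Subgroup X) (hZc : Z ≤ Subgroup.center X) (hsq : ∀ x : X, x ^ 2 ∈ Z)
    (hinvZ : ∀ x : X, x ^ 2 = 1 → x ∈ Z) (hfix : ∀ b ∈ B, ∀ z ∈ Z, b z = z) :
    ∀ b ∈ B, ∀ x : X, b x * x⁻¹ ∈ Z := by
  classical
  have hcomm : ∀ z ∈ Z, ∀ g : X, g * z = z * g := fun z hz g =>
    Subgroup.mem_center_iff.mp (hZc hz) g
  haveI hZn : Z.Normal := ⟨fun n hn g => by
    rw [hcomm n hn g, mul_inv_cancel_right]; exact hn⟩
  haveI : IsMulCommutative ↥Z := ⟨⟨fun a b => Subtype.ext (hcomm b.1 b.2 a.1)⟩⟩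
  let sq : ↥Z →* ↥Z := MonoidHom.mk' (fun z => z ^ 2) (fun a b => by
    have hab : Commute a b := Subtype.ext (hcomm b.1 b.2 a.1)
    exact hab.mul_pow 2)
  have hsq_apply : ∀ z : ↥Z, sq z = z ^ 2 := fun z => rfl
  -- the target group
  have hT_sq : ∀ t : ↥Z ⧸ sq.range, t * t = 1 := by
    intro t
    induction t using QuotientGroup.induction_on with
    | H z =>
      rw [← QuotientGroup.mk_mul, QuotientGroup.eq_one_iff]
      exact ⟨z, by rw [hsq_apply, pow_two]⟩
  have hTcard : Nat.card (↥Z ⧸ sq.range) ≤ 4 := by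
    have h1 : sq.range.index * Nat.card sq.range = Nat.card ↥Z := Subgroup.index_mul_card _
    have h2 : sq.ker.index * Nat.card sq.ker = Nat.card ↥Z := Subgroup.index_mul_card _
    have h3 : sq.ker.index = Nat.card sq.range := Subgroup.index_ker sq
    have hpos : 0 < Nat.card sq.range := Nat.card_pos
    have h4 : sq.range.index = Nat.card sq.ker := by
      have : sq.range.index * Nat.card sq.range = Nat.card sq.ker * Nat.card sq.range := by
        rw [h1, ← h2, h3, mul_comm]
      exact Nat.eq_of_mul_eq_mul_right hpos this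
    have h5 : Nat.card sq.ker ≤ Nat.card {x : X // x ^ 2 = 1} := by
      refine Nat.card_le_card_of_injective
        (fun z : sq.ker => (⟨z.1.1, by
          have := z.2
          rw [MonoidHom.mem_ker, hsq_apply] at this
          have := congrArg Subtype.val this
          simpa using this⟩ : {x : X // x ^ 2 = 1})) ?_
      intro a b hab
      have := congrArg Subtype.val hab
      exact Subtype.ext (Subtype.ext this)
    rw [← Subgroup.index_eq_card, h4]
    exact h5.trans hinv
  -- the quadratic map upstairs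
  let q0 : X → ↥Z ⧸ sq.range := fun x => QuotientGroup.mk ⟨x ^ 2, hsq x⟩
  have hq0_mul : ∀ x z : X, z ∈ Z → q0 (x * z) = q0 x := by
    intro x z hz
    show (QuotientGroup.mk ⟨(x * z) ^ 2, hsq _⟩ : ↥Z ⧸ sq.range) = QuotientGroup.mk ⟨x ^ 2, hsq _⟩
    rw [QuotientGroup.eq]
    refine ⟨⟨z⁻¹, Z.inv_mem hz⟩, ?_⟩
    apply Subtype.ext
    rw [hsq_apply]
    simp only [Subgroup.coe_pow, Subgroup.coe_mul, Subgroup.coe_inv]
    have hc : Commute x z := (hcomm z hz x)
    rw [hc.mul_pow]
    group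
  let qb : X ⧸ Z → ↥Z ⧸ sq.range := fun w => Quotient.liftOn' w q0 (fun a b hab => by
    rw [QuotientGroup.leftRel_apply] at hab
    have : b = a * (a⁻¹ * b) := by group
    rw [this, hq0_mul a _ hab])
  have hqb : ∀ x : X, qb (QuotientGroup.mk x) = q0 x := fun x => rfl
  -- the commutator form
  have hκ : ∀ x y : X, x⁻¹ * y * x * y⁻¹ ∈ Z := by
    intro x y
    have : x⁻¹ * y * x * y⁻¹ = (x⁻¹) ^ 2 * (x * y) ^ 2 * (y⁻¹) ^ 2 := by
      simp only [pow_two]; group
    rw [this]
    exact Z.mul_mem (Z.mul_mem (hsq _) (hsq _)) (hsq _)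
  let c : X → X → ↥Z ⧸ sq.range := fun x y => QuotientGroup.mk ⟨x⁻¹ * y * x * y⁻¹, hκ x y⟩
  have hTcomm : ∀ s t : ↥Z ⧸ sq.range, s * t = t * s := by
    intro s t
    induction s using QuotientGroup.induction_on with
    | H a =>
      induction t using QuotientGroup.induction_on with
      | H b =>
        rw [← QuotientGroup.mk_mul, ← QuotientGroup.mk_mul]
        congr 1
        exact Subtype.ext (hcomm b.1 b.2 a.1)
  have hq0xy : ∀ x y : X, q0 (x * y) = q0 x * q0 y * c x y := by
    intro x y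
    show (QuotientGroup.mk ⟨(x * y) ^ 2, hsq _⟩ : ↥Z ⧸ sq.range) =
      QuotientGroup.mk ⟨x ^ 2, hsq _⟩ * QuotientGroup.mk ⟨y ^ 2, hsq _⟩ *
        QuotientGroup.mk ⟨x⁻¹ * y * x * y⁻¹, hκ x y⟩
    rw [← QuotientGroup.mk_mul, ← QuotientGroup.mk_mul]
    congr 1
    apply Subtype.ext
    simp only [Subgroup.coe_mul]
    have h1 : y ^ 2 * (x⁻¹ * y * x * y⁻¹) = (x⁻¹ * y * x * y⁻¹) * y ^ 2 :=
      hcomm _ (hκ x y) _
    rw [mul_assoc, h1]
    simp only [pow_two]; group
  have hpol : ∀ x y : X, pol qb (QuotientGroup.mk x) (QuotientGroup.mk y) = c x y := by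
    intro x y
    unfold pol
    rw [← QuotientGroup.mk_mul, hqb, hqb, hqb, hq0xy]
    calc q0 x * q0 y * c x y * q0 x * q0 y
        = c x y * (q0 x * q0 y) * q0 x * q0 y := by rw [hTcomm (q0 x * q0 y) (c x y)]
      _ = c x y * ((q0 x * q0 y) * (q0 x * q0 y)) := by simp only [mul_assoc]
      _ = c x y := by rw [hT_sq, mul_one]
  have hc_mul : ∀ x y z : X, c x (y * z) = c x y * c x z := by
    intro x y z
    show (QuotientGroup.mk ⟨x⁻¹ * (y * z) * x * (y * z)⁻¹, hκ _ _⟩ : ↥Z ⧸ sq.range) =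
      QuotientGroup.mk ⟨x⁻¹ * y * x * y⁻¹, hκ _ _⟩ * QuotientGroup.mk ⟨x⁻¹ * z * x * z⁻¹, hκ _ _⟩
    rw [← QuotientGroup.mk_mul]
    congr 1
    apply Subtype.ext
    simp only [Subgroup.coe_mul]
    have h1 : y⁻¹ * (x⁻¹ * z * x * z⁻¹) = (x⁻¹ * z * x * z⁻¹) * y⁻¹ := hcomm _ (hκ x z) _
    calc x⁻¹ * (y * z) * x * (y * z)⁻¹ = x⁻¹ * y * x * ((x⁻¹ * z * x * z⁻¹) * y⁻¹) := by group
      _ = x⁻¹ * y * x * (y⁻¹ * (x⁻¹ * z * x * z⁻¹)) := by rw [h1]
      _ = x⁻¹ * y * x * y⁻¹ * (x⁻¹ * z * x * z⁻¹) := by group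
  have hAQ : AQ qb := by
    refine ⟨?_, hT_sq, ?_, ?_⟩
    · intro w
      induction w using QuotientGroup.induction_on with
      | H x =>
        rw [← QuotientGroup.mk_mul, QuotientGroup.eq_one_iff, ← pow_two]
        exact hsq x
    · intro u v w
      induction u using QuotientGroup.induction_on with
      | H x =>
        induction v using QuotientGroup.induction_on with
        | H y =>
          induction w using QuotientGroup.induction_on with
          | H z => rw [← QuotientGroup.mk_mul, hpol, hpol, hpol, hc_mul]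
    · intro w
      induction w using QuotientGroup.induction_on with
      | H x =>
        intro hx
        rw [hqb] at hx
        have hx' : (⟨x ^ 2, hsq x⟩ : ↥Z) ∈ sq.range := (QuotientGroup.eq_one_iff _).mp hx
        obtain ⟨z, hz⟩ := hx'
        have hz' : (z : X) ^ 2 = x ^ 2 := by
          have := congrArg Subtype.val hz
          simpa [hsq_apply] using this
        have hxz : (x * (z : X)⁻¹) ^ 2 = 1 := by
          have hc : Commute x (z : X)⁻¹ := hcomm _ (Z.inv_mem z.2) x
          rw [hc.mul_pow, inv_pow, hz', mul_inv_cancel]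
        have h1 := hinvZ _ hxz
        have h2 : x = x * (z : X)⁻¹ * z := by group
        rw [QuotientGroup.eq_one_iff, h2]
        exact Z.mul_mem h1 z.2
  haveI : Finite (↥Z ⧸ sq.range) := inferInstance
  have h16 : Nat.card (X ⧸ Z) ≤ 16 := Cfsg.Agent.Helper16.Konv.L1 hAQ hTcard
  -- the induced action
  let ρ : ↥B →* MulAut (X ⧸ Z) := quoAut B Z (fun b hb n hn => by rw [hfix b hb n hn]; exact hn)
  have hρq : ∀ β ∈ ρ.range, ∀ w, qb (β w) = qb w := by
    rintro β ⟨b, rfl⟩ w
    induction w using QuotientGroup.induction_on with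
    | H x =>
      show qb (QuotientGroup.mk (b.1 x)) = qb (QuotientGroup.mk x)
      rw [hqb, hqb]
      show (QuotientGroup.mk ⟨(b.1 x) ^ 2, hsq _⟩ : ↥Z ⧸ sq.range) = QuotientGroup.mk ⟨x ^ 2, hsq _⟩
      congr 1
      apply Subtype.ext
      show (b.1 x) ^ 2 = x ^ 2
      rw [← map_pow, hfix b.1 b.2 _ (hsq x)]
  have hbot : ρ.range = ⊥ := L2 hAQ h16 ρ.range hρq (range_perfect B hperf ρ)
  intro b hb x
  have h1 : ρ ⟨b, hb⟩ = 1 := by
    have : ρ ⟨b, hb⟩ ∈ ρ.range := ⟨_, rfl⟩
    rw [hbot, Subgroup.mem_bot] at this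
    exact this
  have h2 : (QuotientGroup.mk (b x) : X ⧸ Z) = QuotientGroup.mk x := by
    have := congrArg (fun e : MulAut (X ⧸ Z) => e (QuotientGroup.mk x)) h1
    exact this
  rw [QuotientGroup.eq] at h2
  have h3 : b x * x⁻¹ = x * ((b x)⁻¹ * x)⁻¹ * x⁻¹ := by group
  rw [h3]
  exact hZn.conj_mem _ (Z.inv_mem h2) x

end Cfsg.Agent.Helper52.Konv
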