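-- helper52: S3117 main induction: a perfect group of automorphisms of a 2-group with at most three
-- involutions is trivial; hence the automorphism group is solvable.
import Cfsg.Agent.Lib.Helper52.KonvCore

set_option autoImplicit false
set_option linter.style.haveILetI false

universe u

namespace Cfsg.Agent.Helper52.Konv

/-- `Perm` of a type with at most four elements is solvable. -/
theorem perm_solvable_of_card_le_four {I : Type*} [Finite I] (h : Nat.card I ≤ 4) :
    Group.IsSolvable (Equiv.Perm I) := by
  have hc : Nat.card (Equiv.Perm I) = (Nat.card I).factorial := Nat.card_perm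
  have h0 : Nat.card I = 0 ∨ Nat.card I = 1 ∨ Nat.card I = 2 ∨ Nat.card I = 3 ∨ Nat.card I = 4 := by
    omega
  rcases h0 with h0 | h0 | h0 | h0 | h0 <;> rw [h0] at hc
  · exact Cfsg.Agent.Helper3.burnside_paqb 2 3 0 0 Nat.prime_two Nat.prime_three (by rw [hc]; rfl)
  · exact Cfsg.Agent.Helper3.burnside_paqb 2 3 0 0 Nat.prime_two Nat.prime_three (by rw [hc]; rfl)
  · exact Cfsg.Agent.Helper3.burnside_paqb 2 3 1 0 Nat.prime_two Nat.prime_three (by rw [hc]; rfl)
  · exact Cfsg.Agent.Helper3.burnside_paqb 2 3 1 1 Nat.prime_two Nat.prime_three (by rw [hc]; rfl)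
  · exact Cfsg.Agent.Helper3.burnside_paqb 2 3 3 1 Nat.prime_two Nat.prime_three (by rw [hc]; rfl)

variable {X : Type u} [Group X]

/-- The generators `b x * x⁻¹` of `[X, B]`. -/
def commSet (B : Subgroup (MulAut X)) : Set X := {s : X | ∃ b ∈ B, ∃ x : X, s = b x * x⁻¹}

theorem commSet_invariant (B : Subgroup (MulAut X)) :
    ∀ b ∈ B, ∀ y ∈ Subgroup.closure (commSet B), b y ∈ Subgroup.closure (commSet B) := by
  intro b hb y hy
  have : Subgroup.closure (commSet B) ≤ (Subgroup.closure (commSet B)).comap b.toMonoidHom := by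
    rw [Subgroup.closure_le]
    rintro s ⟨b', hb', x, rfl⟩
    rw [SetLike.mem_coe, Subgroup.mem_comap]
    apply Subgroup.subset_closure
    refine ⟨b * b' * b⁻¹, B.mul_mem (B.mul_mem hb hb') (B.inv_mem hb), b x, ?_⟩
    simp
  exact this hy

/-- If the `b x * x⁻¹` generate `X`, every normal subgroup fixed pointwise by `B` is central. -/
theorem le_center_of_fix (B : Subgroup (MulAut X)) (hgen : Subgroup.closure (commSet B) = ⊤)
    (N : Subgroup X) (hN : N.Normal) (hfix : ∀ b ∈ B, ∀ n ∈ N, b n = n) :
    N ≤ Subgroup.center X := by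
  intro n hn
  rw [Subgroup.mem_center_iff]
  intro g
  have hg : g ∈ Subgroup.closure (commSet B) := by rw [hgen]; trivial
  have hle : Subgroup.closure (commSet B) ≤ Subgroup.centralizer {n} := by
    rw [Subgroup.closure_le]
    rintro s ⟨b, hb, x, rfl⟩
    rw [SetLike.mem_coe, Subgroup.mem_centralizer_iff]
    intro m hm
    rw [Set.mem_singleton_iff] at hm
    subst hm
    have hmem : x⁻¹ * m * x ∈ N := by
      have := hN.conj_mem m hn x⁻¹
      simpa using this
    have e : b (x⁻¹ * m * x) = x⁻¹ * m * x := hfix b hb _ hmem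
    rw [map_mul, map_mul, map_inv, hfix b hb m hn] at e
    have e2 : m * b x = b x * (x⁻¹ * m * x) := by rw [← e]; group
    calc m * (b x * x⁻¹) = m * b x * x⁻¹ := by group
      _ = b x * (x⁻¹ * m * x) * x⁻¹ := by rw [e2]
      _ = b x * x⁻¹ * m := by group
  have := hle hg
  rw [Subgroup.mem_centralizer_iff] at this
  exact (this n rfl).symm

/-- The subgroup of points fixed by all of `B`. -/
def fixSub (B : Subgroup (MulAut X)) : Subgroup X where
  carrier := {x | ∀ b ∈ B, b x = x}
  mul_mem' := fun {a c} ha hc b hb => by rw [map_mul, ha b hb, hc b hb]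
  one_mem' := fun b _ => map_one b
  inv_mem' := fun {a} ha b hb => by rw [map_inv, ha b hb]

theorem mem_fixSub (B : Subgroup (MulAut X)) (x : X) : x ∈ fixSub B ↔ ∀ b ∈ B, b x = x := Iff.rfl

/-- The action of `B` on the elements of square one. -/
def invPerm (B : Subgroup (MulAut X)) : ↥B →* Equiv.Perm {x : X // x ^ 2 = 1} where
  toFun b :=
    { toFun := fun x => ⟨b.1 x.1, by rw [← map_pow, x.2, map_one]⟩
      invFun := fun x => ⟨b.1⁻¹ x.1, by rw [← map_pow, x.2, map_one]⟩
      left_inv := fun x => by apply Subtype.ext; simp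
      right_inv := fun x => by apply Subtype.ext; simp }
  map_one' := by ext x; simp
  map_mul' := fun a b => by ext x; simp

theorem invPerm_apply (B : Subgroup (MulAut X)) (b : ↥B) (x : {x : X // x ^ 2 = 1}) :
    ((invPerm B b) x : X) = b.1 x.1 := rfl

/-- The closure of a conjugation-invariant set is normal. -/
theorem closure_normal_of_conj {S : Set X} (hS : ∀ g s : X, s ∈ S → g * s * g⁻¹ ∈ S) :
    (Subgroup.closure S).Normal := by
  refine ⟨fun n hn g => ?_⟩
  have : Subgroup.closure S ≤ (Subgroup.closure S).comap (MulAut.conj g).toMonoidHom := by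
    rw [Subgroup.closure_le]
    intro s hs
    rw [SetLike.mem_coe, Subgroup.mem_comap]
    apply Subgroup.subset_closure
    simpa using hS g s hs
  simpa using this hn

theorem main_aux : ∀ n : ℕ, ∀ (X : Type u) [Group X] [Finite X], Nat.card X = n → IsPGroup 2 X →
    Nat.card {x : X // x ^ 2 = 1} ≤ 4 → ∀ B : Subgroup (MulAut X), ⁅B, B⁆ = B → B = ⊥ := by
  intro n
  induction n using Nat.strong_induction_on with
  | _ n ih =>
  intro X _ _ hcard h2 hinv B hperf
  classical
  by_contra hne
  -- Step 1: `B` centralizes every proper invariant subgroup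
  have step1 : ∀ Y : Subgroup X, Y ≠ ⊤ → (∀ b ∈ B, ∀ y ∈ Y, b y ∈ Y) →
      ∀ b ∈ B, ∀ y ∈ Y, b y = y := by
    intro Y hYt hY b hb y hy
    have hlt : Nat.card Y < n := by
      rw [← hcard]
      by_contra hge
      exact hYt (Subgroup.eq_top_of_le_card Y (not_lt.mp hge))
    have h2Y : IsPGroup 2 Y := h2.to_subgroup Y
    have hinvY : Nat.card {y : Y // y ^ 2 = 1} ≤ 4 := by
      refine le_trans (Nat.card_le_card_of_injective
        (fun y : {y : Y // y ^ 2 = 1} => (⟨y.1.1, by
          have := congrArg Subtype.val y.2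
          simpa using this⟩ : {x : X // x ^ 2 = 1})) ?_) hinv
      intro a c hac
      have := congrArg Subtype.val hac
      exact Subtype.ext (Subtype.ext this)
    have hbot := ih (Nat.card Y) hlt ↥Y rfl h2Y hinvY (resAut B Y hY).range
      (range_perfect B hperf _)
    have hb1 : resAut B Y hY ⟨b, hb⟩ = 1 := by
      have hm : resAut B Y hY ⟨b, hb⟩ ∈ (resAut B Y hY).range := ⟨_, rfl⟩
      rw [hbot, Subgroup.mem_bot] at hm
      exact hm
    have := congrArg (fun e : MulAut ↥Y => ((e ⟨y, hy⟩ : ↥Y) : X)) hb1
    simpa using this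
  -- Step 2: `X = [X, B]`
  have hgen : Subgroup.closure (commSet B) = ⊤ := by
    by_contra hY0
    have hfixY := step1 _ hY0 (commSet_invariant B)
    apply hne
    apply eq_bot_of_fix h2 B hperf
    intro b hb x
    exact hfixY b hb _ (Subgroup.subset_closure ⟨b, hb, x, rfl⟩)
  have hX : Nontrivial X := by
    by_contra hnt
    rw [not_nontrivial_iff_subsingleton] at hnt
    apply hne
    rw [eq_bot_iff]
    intro b _
    rw [Subgroup.mem_bot]
    ext x
    exact Subsingleton.elim _ _
  -- Step 3: squares are fixed and central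
  have hSq_inv : ∀ b ∈ B, ∀ y ∈ Subgroup.closure (Set.range fun x : X => x ^ 2),
      b y ∈ Subgroup.closure (Set.range fun x : X => x ^ 2) := by
    intro b hb y hy
    have : Subgroup.closure (Set.range fun x : X => x ^ 2) ≤
        (Subgroup.closure (Set.range fun x : X => x ^ 2)).comap b.toMonoidHom := by
      rw [Subgroup.closure_le]
      rintro s ⟨x, rfl⟩
      rw [SetLike.mem_coe, Subgroup.mem_comap]
      apply Subgroup.subset_closure
      exact ⟨b x, by simp⟩
    exact this hy
  have hSq_ne : Subgroup.closure (Set.range fun x : X => x ^ 2) ≠ ⊤ := by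
    haveI : Fact (Nat.Prime 2) := ⟨Nat.prime_two⟩
    obtain ⟨k, hk⟩ := (IsPGroup.iff_card).mp h2
    have hk0 : k ≠ 0 := by
      rintro rfl
      rw [pow_zero] at hk
      have : Subsingleton X := (Nat.card_eq_one_iff_unique.mp hk).1
      exact not_nontrivial X hX
    obtain ⟨k', rfl⟩ := Nat.exists_eq_succ_of_ne_zero hk0
    obtain ⟨M, hM⟩ := Sylow.exists_subgroup_card_pow_prime 2 (n := k')
      (by rw [hk]; exact pow_dvd_pow 2 (Nat.le_succ k'))
    have hidx : M.index = 2 := by
      have h1 := Subgroup.index_mul_card M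
      rw [hM, hk, pow_succ, mul_comm (2 ^ k') 2] at h1
      exact Nat.eq_of_mul_eq_mul_right (by positivity) h1
    intro htop
    have hle : Subgroup.closure (Set.range fun x : X => x ^ 2) ≤ M := by
      rw [Subgroup.closure_le]
      rintro s ⟨x, rfl⟩
      exact Subgroup.sq_mem_of_index_two hidx x
    rw [htop, top_le_iff] at hle
    rw [hle, Subgroup.index_top] at hidx
    omega
  have hSq_fix := step1 _ hSq_ne hSq_inv
  have hSq_normal : (Subgroup.closure (Set.range fun x : X => x ^ 2)).Normal := by
    apply closure_normal_of_conj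
    rintro g s ⟨x, rfl⟩
    exact ⟨g * x * g⁻¹, by simp [conj_pow]⟩
  have hSq_c := le_center_of_fix B hgen _ hSq_normal hSq_fix
  -- Step 4: involutions are fixed and central
  haveI : Finite (MulAut X) := finite_mulAut
  have hI_fix : ∀ b ∈ B, ∀ x : X, x ^ 2 = 1 → b x = x := by
    intro b hb x hx
    haveI := perm_solvable_of_card_le_four hinv
    have h1 := hom_trivial_of_perfect B hperf (invPerm B) inferInstance ⟨b, hb⟩
    have := congrArg (fun e : Equiv.Perm {x : X // x ^ 2 = 1} => ((e ⟨x, hx⟩ : _) : X)) h1
    simpa [invPerm_apply] using this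
  have hN1_fix : ∀ b ∈ B, ∀ y ∈ Subgroup.closure {x : X | x ^ 2 = 1}, b y = y := by
    intro b hb y hy
    have : Subgroup.closure {x : X | x ^ 2 = 1} ≤ fixSub B := by
      rw [Subgroup.closure_le]
      intro s hs b hb
      exact hI_fix b hb s hs
    exact this hy b hb
  have hN1_normal : (Subgroup.closure {x : X | x ^ 2 = 1}).Normal := by
    apply closure_normal_of_conj
    intro g s hs
    show (g * s * g⁻¹) ^ 2 = 1
    rw [conj_pow, show s ^ 2 = 1 from hs]
    simp
  have hN1_c := le_center_of_fix B hgen _ hN1_normal hN1_fix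
  -- Step 5: the core
  have hsqZ : ∀ x : X, x ^ 2 ∈ fixSub B ⊓ Subgroup.center X := by
    intro x
    have hx : x ^ 2 ∈ Subgroup.closure (Set.range fun x : X => x ^ 2) :=
      Subgroup.subset_closure ⟨x, rfl⟩
    exact ⟨fun b hb => hSq_fix b hb _ hx, hSq_c hx⟩
  have hinvZ : ∀ x : X, x ^ 2 = 1 → x ∈ fixSub B ⊓ Subgroup.center X := by
    intro x hx
    have hx' : x ∈ Subgroup.closure {x : X | x ^ 2 = 1} := Subgroup.subset_closure hx
    exact ⟨fun b hb => hI_fix b hb x hx, hN1_c hx'⟩
  have hcore := core hinv B hperf (fixSub B ⊓ Subgroup.center X) inf_le_right hsqZ hinvZ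
    (fun b hb z hz => hz.1 b hb)
  apply hne
  apply eq_bot_of_fix h2 B hperf
  intro b hb x
  exact (hcore b hb x).1 b hb

/-- **Konvisser**: the automorphism group of a 2-group with exactly three involutions is solvable. -/
theorem aut_solvable {X : Type u} [Group X] [Finite X] (h2 : IsPGroup 2 X)
    (h3 : Nat.card {x : X // orderOf x = 2} = 3) : Group.IsSolvable (MulAut X) := by
  classical
  haveI : Finite (MulAut X) := finite_mulAut
  have hinv : Nat.card {x : X // x ^ 2 = 1} ≤ 4 := by
    have e : {x : X // x ^ 2 = 1} ≃ Option {x : X // orderOf x = 2} :=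
      { toFun := fun x => if h : x.1 = 1 then none else
          some ⟨x.1, orderOf_eq_prime x.2 h⟩
        invFun := fun o => match o with
          | none => ⟨1, one_pow 2⟩
          | some y => ⟨y.1, by
              have := pow_orderOf_eq_one y.1
              rw [y.2] at this
              exact this⟩
        left_inv := fun x => by
          by_cases h : x.1 = 1
          · simp only [h, dite_true]; exact Subtype.ext h.symm
          · simp only [h, dite_false]
        right_inv := fun o => by
          cases o with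
          | none => simp
          | some y =>
            have hy : y.1 ≠ 1 := by
              intro h1
              have := y.2
              rw [h1, orderOf_one] at this
              omega
            simp [hy] }
    haveI : Finite {x : X // orderOf x = 2} := inferInstance
    rw [Nat.card_congr e, Finite.card_option, h3]
  rw [Group.isSolvable_iff_commutator_lt]
  intro H hH
  have hle : ⁅H, H⁆ ≤ H := Subgroup.commutator_le.mpr (fun g₁ h₁ g₂ h₂ =>
    H.mul_mem (H.mul_mem (H.mul_mem h₁ h₂) (H.inv_mem h₁)) (H.inv_mem h₂))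
  refine lt_of_le_of_ne hle (fun heq => hH ?_)
  exact main_aux (Nat.card X) X rfl h2 hinv H heq

end Cfsg.Agent.Helper52.Konv
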