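import Mathlib
import Cfsg.Agent.Lib.Helper52.Thompson
import Cfsg.Agent.Lib.Helper52.CoprimeSylow

/-!
# Groups with a nilpotent maximal subgroup of odd order are solvable

Proved relative to the Glauberman--Thompson normal `p`-complement theorem (`GlaubermanHyp`).
-/

set_option autoImplicit false
set_option linter.style.haveILetI false
set_option linter.unusedSectionVars false

namespace Cfsg.Agent.Helper52

open Subgroup

universe u

section NilpotentMaximal

variable {G : Type u} [Group G] [Finite G]

/-- If the maximal subgroup `M` is core-free, every nontrivial subgroup of `M` normalized by `M`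
has normalizer `M`. -/
theorem normalizer_eq_of_coatom (M : Subgroup G) (hmax : IsCoatom M) (hcore : M.normalCore = ⊥)
    (X : Subgroup G) (hX : X ≠ ⊥) (hXM : X ≤ M) (hMX : M ≤ normalizer (X : Set G)) :
    normalizer (X : Set G) = M := by
  have h1 : normalizer (X : Set G) ≠ ⊤ := by
    intro h
    haveI hXn : X.Normal := normalizer_eq_top_iff.mp h
    have h2 : X ≤ M.normalCore := Subgroup.normal_le_normalCore.mpr hXM
    rw [hcore, le_bot_iff] at h2
    exact hX h2
  by_contra hne
  exact h1 (hmax.2 _ (lt_of_le_of_ne hMX (Ne.symm hne)))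

/-- In the core-free case, `G` has a normal `p`-complement for every prime `p` dividing `|M|`. -/
theorem hasNormalPComplement_of_coatom (hGl : GlaubermanHyp.{u}) (M : Subgroup G)
    (hmax : IsCoatom M) [hnil : Group.IsNilpotent M] (hcore : M.normalCore = ⊥) (p : ℕ)
    [Fact p.Prime] (hp2 : p ≠ 2) (hpM : p ∣ Nat.card M) : Cfsg.HasNormalPComplement p G := by
  let PM : Sylow p M := default
  haveI hPMn : (PM : Subgroup M).Normal := inferInstance
  set P₀ : Subgroup G := (PM : Subgroup M).map M.subtype with hP₀
  have hP₀M : P₀ ≤ M := Subgroup.map_subtype_le _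
  have hP₀ne : P₀ ≠ ⊥ := by
    intro h
    have h1 : (PM : Subgroup M) = ⊥ :=
      (Subgroup.map_eq_bot_iff_of_injective _ M.subtype_injective).mp h
    exact PM.ne_bot_of_dvd_card hpM h1
  have hP₀p : IsPGroup p P₀ := PM.isPGroup'.map M.subtype
  have hMP₀ : M ≤ normalizer (P₀ : Set G) := by
    have h1 := Subgroup.le_normalizer_map (H := (PM : Subgroup M)) M.subtype
    rw [normalizer_eq_top_iff.mpr hPMn, ← MonoidHom.range_eq_map, Subgroup.range_subtype] at h1
    exact h1
  have hNP₀ : normalizer (P₀ : Set G) = M :=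
    normalizer_eq_of_coatom M hmax hcore P₀ hP₀ne hP₀M hMP₀
  obtain ⟨P, hP⟩ := hP₀p.exists_le_sylow
  have hPeq : P₀ = P := by
    by_contra hne
    have hlt : P₀ < P := lt_of_le_of_ne hP hne
    have h1 := Cfsg.Agent.Helper11.ZJ.lt_inf_normalizer P.isPGroup' hlt
    rw [hNP₀] at h1
    have h2 : IsPGroup p ((P : Subgroup G) ⊓ M : Subgroup G) := P.isPGroup'.to_le inf_le_left
    have h3 : IsPGroup p (((P : Subgroup G) ⊓ M).subgroupOf M) := h2.comap_subtype
    have h4 : (PM : Subgroup M) ≤ ((P : Subgroup G) ⊓ M).subgroupOf M := by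
      intro y hy
      rw [mem_subgroupOf]
      exact h1.le ⟨y, hy, rfl⟩
    have h5 := PM.is_maximal' h3 h4
    apply h1.ne
    rw [hP₀, ← h5, Subgroup.subgroupOf_map_subtype, inf_assoc, inf_idem]
  have hGood := Cfsg.Agent.Helper11.ZJ.goodAx_comm (G := G)
  set W : Subgroup G := Cfsg.centerThompsonAOf (P : Subgroup G) with hW
  have hWeq : W = Cfsg.Agent.Helper11.ZJ.W (fun A : Subgroup G => IsMulCommutative A)
      (P : Subgroup G) := Cfsg.Agent.Helper11.ZJ.centerThompsonAOf_eq_W _
  have hPne : (P : Subgroup G) ≠ ⊥ := by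
    rw [← hPeq]
    exact hP₀ne
  have hWne : W ≠ ⊥ := by
    rw [hWeq]
    exact Cfsg.Agent.Helper11.ZJ.ZJ_ne_bot P.isPGroup' hPne
  have hWP : W ≤ (P : Subgroup G) := by
    rw [hWeq]
    exact Cfsg.Agent.Helper11.ZJ.W_le hGood _
  have hPM : (P : Subgroup G) ≤ M := by
    rw [← hPeq]
    exact hP₀M
  have hNP : normalizer ((P : Subgroup G) : Set G) = M := by
    rw [← hPeq]
    exact hNP₀
  have hMW : M ≤ normalizer (W : Set G) := by
    rw [hWeq]
    have h1 := Cfsg.Agent.Helper11.ZJ.normalizer_le_normalizer_W hGood (P : Subgroup G)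
    rw [hNP] at h1
    exact h1
  have hNW : normalizer (W : Set G) = M :=
    normalizer_eq_of_coatom M hmax hcore W hWne (hWP.trans hPM) hMW
  apply hGl G p hp2 P
  haveI : Group.IsNilpotent ↥(normalizer (W : Set G)) := by
    rw [hNW]
    exact hnil
  exact hasNormalPComplement_of_isNilpotent p

/-- There is a homomorphism to a solvable group whose kernel has order prime to a given set of
prime divisors of `|M|`. -/
theorem exists_hom_solvable_coprime (M : Subgroup G)
    (hcompl : ∀ p : ℕ, p.Prime → p ∣ Nat.card M → Cfsg.HasNormalPComplement p G) :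
    ∀ T : Finset ℕ, (∀ p ∈ T, p.Prime ∧ p ∣ Nat.card M) →
      ∃ (X : Type u) (_ : Group X) (f : G →* X), Group.IsSolvable X ∧
        ∀ p ∈ T, (Nat.card f.ker).Coprime p := by
  intro T
  induction T using Finset.induction_on with
  | empty =>
    intro _
    exact ⟨PUnit, inferInstance, 1, inferInstance, fun p hp => absurd hp (Finset.notMem_empty p)⟩
  | insert p T hpT ih =>
    intro hT
    obtain ⟨X, hX, f, hsol, hcop⟩ := ih (fun q hq => hT q (Finset.mem_insert_of_mem hq))
    obtain ⟨hp, hpM⟩ := hT p (Finset.mem_insert_self p T)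
    haveI : Fact p.Prime := ⟨hp⟩
    obtain ⟨P, K, hKn, hKc⟩ := hcompl p hp hpM
    haveI := hKn
    have h4 : IsPGroup p (G ⧸ K) := by
      obtain ⟨a, ha⟩ := IsPGroup.iff_card.mp P.isPGroup'
      rw [IsPGroup.iff_card]
      refine ⟨a, ?_⟩
      rw [← ha, ← hKc.symm.index_eq_card]
      rfl
    haveI : Group.IsNilpotent (G ⧸ K) := h4.isNilpotent
    refine ⟨X × (G ⧸ K), inferInstance, f.prod (QuotientGroup.mk' K), inferInstance, ?_⟩
    intro q hq
    rw [MonoidHom.ker_prod, QuotientGroup.ker_mk']
    rcases Finset.mem_insert.mp hq with rfl | hq'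
    · have h1 : Nat.card (f.ker ⊓ K : Subgroup G) ∣ Nat.card K :=
        Subgroup.card_dvd_of_le inf_le_right
      have h2 : (Nat.card K).Coprime q := by
        rw [← hKc.index_eq_card]
        exact ((Nat.Prime.coprime_iff_not_dvd hp).mpr P.not_dvd_index).symm
      exact Nat.Coprime.coprime_dvd_left h1 h2
    · exact Nat.Coprime.coprime_dvd_left (Subgroup.card_dvd_of_le inf_le_left) (hcop q hq')

/-- A normal subgroup of order prime to `|M|`, for `M` a nilpotent maximal subgroup, is a
group of prime power order; in particular it is solvable. -/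
theorem solvable_of_coprime_normal_coatom (M K : Subgroup G) (hmax : IsCoatom M)
    [Group.IsNilpotent M] [K.Normal] (hcop : (Nat.card M).Coprime (Nat.card K)) :
    Group.IsSolvable K := by
  by_cases hK : K = ⊥
  · subst hK
    infer_instance
  have hcard : Nat.card K ≠ 1 := fun h => hK (Subgroup.card_eq_one.mp h)
  obtain ⟨q, hq, hqdvd⟩ := Nat.exists_prime_and_dvd hcard
  haveI : Fact q.Prime := ⟨hq⟩
  have hMK : M ≤ normalizer (K : Set G) := by
    rw [normalizer_eq_top_iff.mpr inferInstance]
    exact le_top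
  obtain ⟨Q, hQK, hQcard, hMQ⟩ := exists_invariant_sylow M K hMK hcop (Or.inl inferInstance) q
  have hfac : 0 < (Nat.card K).factorization q :=
    hq.factorization_pos_of_dvd Nat.card_pos.ne' hqdvd
  have hQne : Q ≠ ⊥ := by
    intro h
    rw [h, Subgroup.card_bot, sylCard] at hQcard
    have h1 : q ∣ q ^ (Nat.card K).factorization q := dvd_pow_self q hfac.ne'
    rw [← hQcard] at h1
    exact hq.one_lt.ne' (Nat.dvd_one.mp h1)
  have hcopQ : (Nat.card M).Coprime (Nat.card Q) :=
    Nat.Coprime.coprime_dvd_right (Subgroup.card_dvd_of_le hQK) hcop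
  have hQM : Q ⊓ M = ⊥ := disjoint_iff.mp (Subgroup.disjoint_of_coprime_natCard hcopQ.symm)
  have hlt : M < M ⊔ Q := by
    refine lt_of_le_of_ne le_sup_left ?_
    intro h
    have h1 : Q ≤ M := by
      rw [h]
      exact le_sup_right
    apply hQne
    rw [← hQM]
    exact le_antisymm (le_inf le_rfl h1) inf_le_left
  have htop : M ⊔ Q = ⊤ := hmax.2 _ hlt
  have hrel := relIndex_sup_eq_card Q M hMQ hQM
  rw [sup_comm, htop, Subgroup.relIndex_top_right] at hrel
  have hG : Nat.card G = Nat.card Q * Nat.card M := by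
    rw [← hrel]
    exact (Subgroup.card_mul_index Q).symm
  have h5 : Nat.card K ∣ Nat.card Q := by
    have h6 : Nat.card K ∣ Nat.card Q * Nat.card M := by
      rw [← hG]
      exact Subgroup.card_subgroup_dvd_card K
    exact Nat.Coprime.dvd_of_dvd_mul_right hcop.symm h6
  have hQeq : Q = K := Subgroup.eq_of_le_of_card_ge hQK (Nat.le_of_dvd Nat.card_pos h5)
  have hKq : IsPGroup q K := by
    rw [← hQeq]
    exact IsPGroup.of_card hQcard
  haveI := hKq.isNilpotent
  infer_instance

/-- Induction form. -/
theorem solvable_of_nilpotent_coatom_aux (hGl : GlaubermanHyp.{u}) :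
    ∀ (n : ℕ) (G : Type u) [Group G] [Finite G] (M : Subgroup G), Nat.card G = n → IsCoatom M →
      Group.IsNilpotent M → Odd (Nat.card M) → Group.IsSolvable G := by
  intro n
  induction n using Nat.strong_induction_on with
  | _ n ih =>
  intro G _ _ M hn hmax hnil hodd
  by_cases hcore : M.normalCore = ⊥
  · have hcompl : ∀ p : ℕ, p.Prime → p ∣ Nat.card M → Cfsg.HasNormalPComplement p G := by
      intro p hp hpM
      haveI : Fact p.Prime := ⟨hp⟩
      have hp2 : p ≠ 2 := by
        rintro rfl
        exact (Nat.not_even_iff_odd.mpr hodd) (even_iff_two_dvd.mpr hpM)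
      exact hasNormalPComplement_of_coatom hGl M hmax hcore p hp2 hpM
    obtain ⟨X, hX, f, hsol, hcop⟩ := exists_hom_solvable_coprime M hcompl
      (Nat.card M).primeFactors
      (fun p hp => ⟨Nat.prime_of_mem_primeFactors hp, Nat.dvd_of_mem_primeFactors hp⟩)
    have hcop' : (Nat.card M).Coprime (Nat.card f.ker) := by
      by_contra h
      obtain ⟨p, hp, h1, h2⟩ := Nat.Prime.not_coprime_iff_dvd.mp h
      have h3 := hcop p (Nat.mem_primeFactors.mpr ⟨hp, h1, Nat.card_pos.ne'⟩)
      exact hp.one_lt.ne' (Nat.Coprime.eq_one_of_dvd h3.symm h2)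
    haveI : Group.IsSolvable f.ker := solvable_of_coprime_normal_coatom M f.ker hmax hcop'
    exact Group.isSolvable_of_ker_le_range f.ker.subtype f (by rw [Subgroup.range_subtype])
  · set K₀ : Subgroup G := M.normalCore with hK₀
    haveI : K₀.Normal := Subgroup.normalCore_normal M
    have hK₀M : K₀ ≤ M := Subgroup.normalCore_le M
    have hlt : Nat.card (G ⧸ K₀) < n := by
      rw [← hn]
      exact card_quotient_lt_of_ne_bot K₀ hcore
    have hπ : Function.Surjective (QuotientGroup.mk' K₀) := QuotientGroup.mk'_surjective K₀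
    have hcomap : (M.map (QuotientGroup.mk' K₀)).comap (QuotientGroup.mk' K₀) = M := by
      rw [Subgroup.comap_map_eq, QuotientGroup.ker_mk', sup_eq_left.mpr hK₀M]
    have hmax' : IsCoatom (M.map (QuotientGroup.mk' K₀)) := by
      constructor
      · intro h
        apply hmax.1
        rw [← hcomap, h, Subgroup.comap_top]
      · intro B hB
        have h1 : M ≤ B.comap (QuotientGroup.mk' K₀) := by
          rw [← hcomap]
          exact Subgroup.comap_mono hB.le
        have h2 : M ≠ B.comap (QuotientGroup.mk' K₀) := by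
          intro h
          apply hB.ne
          rw [h, Subgroup.map_comap_eq_self_of_surjective hπ]
        have h3 := hmax.2 _ (lt_of_le_of_ne h1 h2)
        rw [← Subgroup.map_comap_eq_self_of_surjective hπ B, h3,
          Subgroup.map_top_of_surjective _ hπ]
    have hnil' : Group.IsNilpotent (M.map (QuotientGroup.mk' K₀)) :=
      Group.nilpotent_of_surjective ((QuotientGroup.mk' K₀).subgroupMap M)
        ((QuotientGroup.mk' K₀).subgroupMap_surjective M)
    have hodd' : Odd (Nat.card (M.map (QuotientGroup.mk' K₀))) :=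
      Odd.of_dvd_nat hodd (Subgroup.card_map_dvd _ _)
    haveI := ih _ hlt (G ⧸ K₀) (M.map (QuotientGroup.mk' K₀)) rfl hmax' hnil' hodd'
    haveI : Group.IsSolvable K₀ :=
      Group.isSolvable_of_isSolvable_injective (Subgroup.inclusion_injective hK₀M)
    exact Group.isSolvable_of_ker_le_range K₀.subtype (QuotientGroup.mk' K₀)
      (by rw [QuotientGroup.ker_mk', Subgroup.range_subtype])

/-- **Thompson**: a finite group with a nilpotent maximal subgroup of odd order is solvable
(relative to the Glauberman--Thompson normal `p`-complement theorem). -/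
theorem solvable_of_nilpotent_coatom (hGl : GlaubermanHyp.{u}) (M : Subgroup G) (hmax : IsCoatom M)
    (hnil : Group.IsNilpotent M) (hodd : Odd (Nat.card M)) : Group.IsSolvable G :=
  solvable_of_nilpotent_coatom_aux hGl _ G M rfl hmax hnil hodd

end NilpotentMaximal

end Cfsg.Agent.Helper52
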