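import Mathlib
import Cfsg.Agent.Lib.Helper56.SL25Mat

set_option autoImplicit false

/-! Concrete facts about `SL(2,5)` (finite checks on matrix entries) used to bound the index of
`D * C_G(D)` for a normal subgroup `D ≅ SL(2,5)`. -/

open Matrix

namespace Cfsg.Agent.Helper52.SL25Normal

open Cfsg.Agent.Helper56

abbrev S25 := Matrix.SpecialLinearGroup (Fin 2) (ZMod 5)

abbrev M25 := Matrix (Fin 2) (Fin 2) (ZMod 5)

/-- `diag(2,3)`: inverts `Y5`, has order `4`. -/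
def I5 : S25 := ⟨!![2, 0; 0, 3], by rw [det_fin_two_of]; decide⟩

/-- `[[0,1],[-1,0]]`. -/
def J5 : S25 := ⟨!![0, 1; 4, 0], by rw [det_fin_two_of]; decide⟩

/-- the inverse of `Y5`. -/
def Y5i : S25 := ⟨!![1, 4; 0, 1], by rw [det_fin_two_of]; decide⟩

lemma Y5_mul_Y5i : Y5 * Y5i = 1 := by
  apply Subtype.ext
  show (!![1, 1; 0, 1] : M25) * !![1, 4; 0, 1] = 1
  decide +kernel

lemma Y5i_eq : Y5i = Y5⁻¹ := eq_inv_of_mul_eq_one_right Y5_mul_Y5i

lemma I5_conj : I5 * Y5 = Y5i * I5 := by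
  apply Subtype.ext
  show (!![2, 0; 0, 3] : M25) * !![1, 1; 0, 1] = !![1, 4; 0, 1] * !![2, 0; 0, 3]
  decide +kernel

lemma I5_sq : I5 ^ 2 = -1 := by
  apply Subtype.ext
  show ((!![2, 0; 0, 3] : M25)) ^ 2 = -1
  decide +kernel

lemma J5_sq : J5 ^ 2 = -1 := by
  apply Subtype.ext
  show ((!![0, 1; 4, 0] : M25)) ^ 2 = -1
  decide +kernel

lemma J5_I5 : J5 * I5 = -(I5 * J5) := by
  apply Subtype.ext
  show (!![0, 1; 4, 0] : M25) * !![2, 0; 0, 3] = -(!![2, 0; 0, 3] * !![0, 1; 4, 0])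
  decide +kernel

/-- entry form of (F5). -/
lemma f5_entries : ∀ a b c d : ZMod 5,
    (!![a, b; c, d] : M25) ^ 3 = 1 →
    (!![a, b; c, d] : M25) ≠ 1 →
    ((!![a, b; c, d] : M25) * !![1, 1; 0, 1]) ^ 2 = -1 →
    ∃ t : Fin 5, (!![a, b; c, d] : M25) =
      !![1, 1; 0, 1] ^ (t : ℕ) * !![0, 4; 1, 4] * !![1, 4; 0, 1] ^ (t : ℕ) := by
  decide +kernel

/-- entry form of the centre computation. -/
lemma center_entries : ∀ a b c d : ZMod 5, a * d - b * c = 1 →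
    (!![a, b; c, d] : M25) * !![0, 4; 1, 4] = !![0, 4; 1, 4] * !![a, b; c, d] →
    (!![a, b; c, d] : M25) * !![1, 1; 0, 1] = !![1, 1; 0, 1] * !![a, b; c, d] →
    (!![a, b; c, d] : M25) = 1 ∨ (!![a, b; c, d] : M25) = -1 := by
  decide +kernel

end Cfsg.Agent.Helper52.SL25Normal
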