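import Mathlib
import Cfsg.Agent.Lib.Helper52.SL25Facts

set_option autoImplicit false

/-! The concrete facts of `SL25Facts`, lifted to the group `SL(2,5)`. -/

open Matrix

namespace Cfsg.Agent.Helper52.SL25Normal

open Cfsg.Agent.Helper56

lemma closure_X5_Y5 : Subgroup.closure ({X5, Y5} : Set S25) = ⊤ := by
  have h1 : Subgroup.closure ({gx, gy, gz} : Set P120) = ⊤ := closure_gens
  have h2 : (Subgroup.closure ({gx, gy, gz} : Set P120)).map φ5 = ⊤ := by
    rw [h1, ← MonoidHom.range_eq_map, MonoidHom.range_eq_top]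
    exact φ5_bijective.2
  rw [MonoidHom.map_closure] at h2
  have h3 : (φ5 '' ({gx, gy, gz} : Set P120)) = {X5, Y5, -1} := by
    simp only [Set.image_insert_eq, Set.image_singleton]
    rw [show φ5 gx = X5 from homOf_gx _ _ _ _ _ _ _ _ _, show φ5 gy = Y5 from homOf_gy _ _ _ _ _ _ _ _ _,
      show φ5 gz = -1 from homOf_gz _ _ _ _ _ _ _ _ _]
  rw [h3] at h2
  rw [eq_top_iff, ← h2, Subgroup.closure_le]
  rintro a (rfl | rfl | rfl)
  · exact Subgroup.subset_closure (by simp)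
  · exact Subgroup.subset_closure (by simp)
  · rw [SetLike.mem_coe, ← rels5.2.2.2.2.2]
    exact Subgroup.pow_mem _ (Subgroup.mul_mem _ (Subgroup.subset_closure (by simp))
      (Subgroup.subset_closure (by simp))) 2

lemma eta25 (A : M25) : A = !![A 0 0, A 0 1; A 1 0, A 1 1] := Matrix.eta_fin_two A

lemma Y5_pow_inv (t : ℕ) : (Y5 ^ t)⁻¹ = Y5i ^ t := by
  rw [Y5i_eq, inv_pow]

/-- the coercion to matrices as a monoid hom -/
abbrev cm : S25 →* M25 := coeHom (ZMod 5)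

lemma cm_X5 : cm X5 = !![0, 4; 1, 4] := rfl
lemma cm_Y5 : cm Y5 = !![1, 1; 0, 1] := rfl
lemma cm_Y5i : cm Y5i = !![1, 4; 0, 1] := rfl
lemma cm_neg_one : cm (-1) = -1 := by
  show ((-1 : S25) : M25) = -1
  simp

lemma cm_inj : Function.Injective cm := coeHom_injective (ZMod 5)

/-- (F5) -/
lemma f5 (a : S25) (h3 : a ^ 3 = 1) (hne : a ≠ 1) (h2 : (a * Y5) ^ 2 = -1) :
    ∃ t : ℕ, a = Y5 ^ t * X5 * (Y5 ^ t)⁻¹ := by
  have e1 : (cm a) ^ 3 = 1 := by
    rw [← map_pow, h3, map_one]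
  have e2 : cm a ≠ 1 := by
    intro h
    apply hne
    apply cm_inj
    rw [h, map_one]
  have e3 : (cm a * !![1, 1; 0, 1]) ^ 2 = -1 := by
    rw [← cm_Y5, ← map_mul, ← map_pow, h2, cm_neg_one]
  rw [eta25 (cm a)] at e1 e2 e3
  obtain ⟨t, ht⟩ := f5_entries _ _ _ _ e1 e2 e3
  refine ⟨(t : ℕ), ?_⟩
  apply cm_inj
  rw [Y5_pow_inv, map_mul, map_mul, map_pow, map_pow, cm_X5, cm_Y5, cm_Y5i, ← ht]
  exact eta25 (cm a)

lemma center25 (a : S25) (hx : a * X5 = X5 * a) (hy : a * Y5 = Y5 * a) : a = 1 ∨ a = -1 := by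
  have e0 : (cm a) 0 0 * (cm a) 1 1 - (cm a) 0 1 * (cm a) 1 0 = 1 := by
    have := a.2
    rw [Matrix.det_fin_two] at this
    exact this
  have e1 : cm a * !![0, 4; 1, 4] = !![0, 4; 1, 4] * cm a := by
    rw [← cm_X5, ← map_mul, ← map_mul, hx]
  have e2 : cm a * !![1, 1; 0, 1] = !![1, 1; 0, 1] * cm a := by
    rw [← cm_Y5, ← map_mul, ← map_mul, hy]
  have e1' := e1
  have e2' := e2
  rw [eta25 (cm a)] at e1' e2'
  rcases center_entries _ _ _ _ e0 e1' e2' with h | h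
  · left
    apply cm_inj
    rw [eta25 (cm a), h, map_one]
  · right
    apply cm_inj
    rw [eta25 (cm a), h, cm_neg_one]

end Cfsg.Agent.Helper52.SL25Normal
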