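import Mathlib
import Cfsg.Agent.Lib.Helper52.SL25FactsB

set_option autoImplicit false

/-! A normal subgroup `D ≅ SL(2,5)` of a finite group `G`: `D * C_G(D)` has index at most `2`
(no knowledge of `Aut(A5)` needed: Frattini on a Sylow `5`-subgroup + the concrete fact (F5)). -/

open Matrix

namespace Cfsg.Agent.Helper52.SL25Normal

open Cfsg.Agent.Helper56

lemma neg_one_ne_one25 : (-1 : S25) ≠ 1 := by
  intro h
  have h1 : cm (-1) = cm 1 := by rw [h]
  rw [cm_neg_one, map_one] at h1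
  revert h1
  decide +kernel

lemma X5_ne_one : X5 ≠ 1 := by
  intro h
  have h1 : cm X5 = cm 1 := by rw [h]
  rw [cm_X5, map_one] at h1
  revert h1
  decide +kernel

lemma Y5_ne_one : Y5 ≠ 1 := by
  intro h
  have h1 : cm Y5 = cm 1 := by rw [h]
  rw [cm_Y5, map_one] at h1
  revert h1
  decide +kernel

lemma neg_one_comm (s : S25) : (-1 : S25) * s = s * (-1) := by
  apply cm_inj
  rw [map_mul, map_mul, cm_neg_one]
  simp

lemma orderOf_Y5 : orderOf Y5 = 5 := by
  have : Fact (Nat.Prime 5) := ⟨by norm_num⟩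
  exact orderOf_eq_prime rels5.2.1 Y5_ne_one

/-- Sylow: every element of order `5` of `SL(2,5)` is conjugate to a power of `Y5`. -/
lemma conj_Y5 (b : S25) (hb5 : b ^ 5 = 1) (hb1 : b ≠ 1) :
    ∃ c : S25, ∃ k : ℕ, c * b * c⁻¹ = Y5 ^ k := by
  have : Fact (Nat.Prime 5) := ⟨by norm_num⟩
  have : Finite S25 := Nat.finite_of_card_ne_zero (by rw [card_SL25]; norm_num)
  have hob : orderOf b = 5 := orderOf_eq_prime hb5 hb1
  have hfac : (Nat.card S25).factorization 5 = 1 := by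
    rw [card_SL25, show (120 : ℕ) = 5 * 24 by norm_num,
      Nat.factorization_mul (by norm_num) (by norm_num)]
    simp only [Finsupp.coe_add, Pi.add_apply]
    rw [Nat.Prime.factorization_self (by norm_num),
      Nat.factorization_eq_zero_of_not_dvd (by norm_num)]
  have h1 : Nat.card (Subgroup.zpowers b) = 5 ^ (Nat.card S25).factorization 5 := by
    rw [hfac, pow_one, Nat.card_zpowers, hob]
  have h2 : Nat.card (Subgroup.zpowers Y5) = 5 ^ (Nat.card S25).factorization 5 := by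
    rw [hfac, pow_one, Nat.card_zpowers, orderOf_Y5]
  let Q1 : Sylow 5 S25 := Sylow.ofCard (Subgroup.zpowers b) h1
  let Q2 : Sylow 5 S25 := Sylow.ofCard (Subgroup.zpowers Y5) h2
  obtain ⟨c, hc⟩ := MulAction.exists_smul_eq S25 Q1 Q2
  have hb : b ∈ (Q1 : Subgroup S25) := Subgroup.mem_zpowers b
  have hcb : c * b * c⁻¹ ∈ (Q2 : Subgroup S25) := by
    rw [← hc, Sylow.coe_subgroup_smul]
    rw [Subgroup.mem_pointwise_smul_iff_inv_smul_mem]
    rw [MulAut.smul_def, ← map_inv, MulAut.conj_apply]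
    convert hb using 1
    group
  have hcb' : c * b * c⁻¹ ∈ Subgroup.zpowers Y5 := hcb
  rw [← mem_powers_iff_mem_zpowers] at hcb'
  obtain ⟨k, hk⟩ := hcb'
  exact ⟨c, k, hk.symm⟩


section main

variable {G : Type*} [Group G] (f : S25 →* G) (hf : Function.Injective f)
  (hN : f.range.Normal)

/-- `D * C_G(D)` -/
abbrev KK : Subgroup G := f.range ⊔ Subgroup.centralizer (f.range : Set G)

include hf hN in
lemma conj_z (g : G) : g * f (-1) * g⁻¹ = f (-1) := by
  obtain ⟨w, hw⟩ := hN.conj_mem (f (-1)) ⟨-1, rfl⟩ g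
  have hcomm : ∀ s : S25, w * s = s * w := by
    intro s
    apply hf
    rw [map_mul, map_mul, hw]
    obtain ⟨s', hs'⟩ := hN.conj_mem (f s) ⟨s, rfl⟩ g⁻¹
    rw [inv_inv] at hs'
    have h1 : f s = g * f s' * g⁻¹ := by rw [hs']; group
    have h2 : f (-1) * f s' = f s' * f (-1) := by
      rw [← map_mul, ← map_mul, neg_one_comm]
    rw [h1]
    calc g * f (-1) * g⁻¹ * (g * f s' * g⁻¹) = g * (f (-1) * f s') * g⁻¹ := by group
      _ = g * (f s' * f (-1)) * g⁻¹ := by rw [h2]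
      _ = g * f s' * g⁻¹ * (g * f (-1) * g⁻¹) := by group
  rcases center25 w (hcomm X5) (hcomm Y5) with h | h
  · exfalso
    rw [h, map_one] at hw
    have : f (-1) = 1 := by
      have : f (-1) = g⁻¹ * (g * f (-1) * g⁻¹) * g := by group
      rw [this, ← hw]; group
    exact neg_one_ne_one25 (hf (by rw [this, map_one]))
  · rw [← hw, h]

include hf hN in
/-- Step A: an element centralizing `y` lies in `D * C_G(D)`. -/
lemma mem_KK_of_comm (g : G) (hg : g * f Y5 * g⁻¹ = f Y5) : g ∈ KK f := by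
  obtain ⟨a, ha⟩ := hN.conj_mem (f X5) ⟨X5, rfl⟩ g
  have ha3 : a ^ 3 = 1 := by
    apply hf
    rw [map_pow, ha, map_one, conj_pow, ← map_pow, rels5.1, map_one]
    group
  have hane : a ≠ 1 := by
    intro h
    rw [h, map_one] at ha
    have : f X5 = 1 := by
      have : f X5 = g⁻¹ * (g * f X5 * g⁻¹) * g := by group
      rw [this, ← ha]; group
    exact X5_ne_one (hf (by rw [this, map_one]))
  have ha2 : (a * Y5) ^ 2 = -1 := by
    apply hf
    rw [map_pow, map_mul, ha]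
    nth_rewrite 1 [← hg]
    have : g * f X5 * g⁻¹ * (g * f Y5 * g⁻¹) = g * (f X5 * f Y5) * g⁻¹ := by group
    rw [this, conj_pow, ← map_mul, ← map_pow, rels5.2.2.2.2.2]
    exact conj_z f hf hN g
  obtain ⟨t, ht⟩ := f5 a ha3 hane ha2
  -- g' := (y^t)⁻¹ * g centralizes D
  have hx : (f (Y5 ^ t))⁻¹ * g * f X5 = f X5 * ((f (Y5 ^ t))⁻¹ * g) := by
    have h1 : g * f X5 = f a * g := by rw [ha]; group
    have h2 : f a = f (Y5 ^ t) * f X5 * (f (Y5 ^ t))⁻¹ := by
      rw [ht, map_mul, map_mul, map_inv]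
    calc (f (Y5 ^ t))⁻¹ * g * f X5 = (f (Y5 ^ t))⁻¹ * (g * f X5) := by group
      _ = (f (Y5 ^ t))⁻¹ * (f a * g) := by rw [h1]
      _ = (f (Y5 ^ t))⁻¹ * (f (Y5 ^ t) * f X5 * (f (Y5 ^ t))⁻¹ * g) := by rw [h2]
      _ = f X5 * ((f (Y5 ^ t))⁻¹ * g) := by group
  have hy : (f (Y5 ^ t))⁻¹ * g * f Y5 = f Y5 * ((f (Y5 ^ t))⁻¹ * g) := by
    have h1 : g * f Y5 = f Y5 * g := by
      nth_rewrite 2 [← hg]; group
    have h2 : (f (Y5 ^ t))⁻¹ * f Y5 = f Y5 * (f (Y5 ^ t))⁻¹ := by
      rw [← map_inv, ← map_mul, ← map_mul]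
      congr 1
      rw [← inv_pow]
      exact (Commute.pow_left (Commute.inv_left (Commute.refl Y5)) t).eq
    calc (f (Y5 ^ t))⁻¹ * g * f Y5 = (f (Y5 ^ t))⁻¹ * (g * f Y5) := by group
      _ = (f (Y5 ^ t))⁻¹ * (f Y5 * g) := by rw [h1]
      _ = ((f (Y5 ^ t))⁻¹ * f Y5) * g := by group
      _ = (f Y5 * (f (Y5 ^ t))⁻¹) * g := by rw [h2]
      _ = f Y5 * ((f (Y5 ^ t))⁻¹ * g) := by group
  have hcent : (f (Y5 ^ t))⁻¹ * g ∈ Subgroup.centralizer (f.range : Set G) := by
    have htop : (Subgroup.centralizer {(f (Y5 ^ t))⁻¹ * g}).comap f = ⊤ := by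
      rw [eq_top_iff, ← closure_X5_Y5, Subgroup.closure_le]
      rintro s (rfl | rfl)
      · rw [SetLike.mem_coe, Subgroup.mem_comap, Subgroup.mem_centralizer_singleton_iff]
        exact hx.symm
      · rw [SetLike.mem_coe, Subgroup.mem_comap, Subgroup.mem_centralizer_singleton_iff]
        exact hy.symm
    rw [Subgroup.mem_centralizer_iff]
    rintro _ ⟨s, rfl⟩
    have : s ∈ (Subgroup.centralizer {(f (Y5 ^ t))⁻¹ * g}).comap f := by rw [htop]; trivial
    rw [Subgroup.mem_comap, Subgroup.mem_centralizer_singleton_iff] at this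
    exact this
  have : g = f (Y5 ^ t) * ((f (Y5 ^ t))⁻¹ * g) := by group
  rw [this]
  exact Subgroup.mul_mem_sup ⟨_, rfl⟩ hcent

lemma y_pow5 : f Y5 ^ 5 = 1 := by rw [← map_pow, rels5.2.1, map_one]

include hf in
lemma y_ne_one : f Y5 ≠ 1 := fun h => Y5_ne_one (hf (by rw [h, map_one]))

lemma I5_conj_y : f I5 * f Y5 * (f I5)⁻¹ = (f Y5)⁻¹ := by
  rw [← map_mul, I5_conj, Y5i_eq, map_mul, map_inv]
  group

lemma conj_y_pow (u : G) (n : ℕ) : u * f Y5 ^ n * u⁻¹ = (u * f Y5 * u⁻¹) ^ n := by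
  rw [conj_pow]

/-- the second type of elements -/
def P2 (g : G) : Prop := ∃ u : G, u * g⁻¹ ∈ f.range ∧ u * f Y5 * u⁻¹ = f Y5 ^ 2

lemma inv_pow4 : ((f Y5)⁻¹) ^ 4 = f Y5 := by
  have h := y_pow5 f
  calc ((f Y5)⁻¹) ^ 4 = ((f Y5)⁻¹) ^ 4 * 1 := (mul_one _).symm
    _ = ((f Y5)⁻¹) ^ 4 * f Y5 ^ 5 := by rw [h]
    _ = f Y5 := by group

lemma inv_pow3 : ((f Y5)⁻¹) ^ 3 = f Y5 ^ 2 := by
  have h := y_pow5 f
  calc ((f Y5)⁻¹) ^ 3 = ((f Y5)⁻¹) ^ 3 * 1 := (mul_one _).symm
    _ = ((f Y5)⁻¹) ^ 3 * f Y5 ^ 5 := by rw [h]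
    _ = f Y5 ^ 2 := by group

include hf hN in
/-- Step C -/
lemma mem_KK_or_P2 (g : G) : g ∈ KK f ∨ P2 f g := by
  obtain ⟨b, hb⟩ := hN.conj_mem (f Y5) ⟨Y5, rfl⟩ g
  have hb5 : b ^ 5 = 1 := by
    apply hf
    rw [map_pow, hb, map_one, conj_pow, y_pow5]
    group
  have hb1 : b ≠ 1 := by
    intro h
    rw [h, map_one] at hb
    have : f Y5 = 1 := by
      have : f Y5 = g⁻¹ * (g * f Y5 * g⁻¹) * g := by group
      rw [this, ← hb]; group
    exact y_ne_one f hf this
  obtain ⟨c, k, hck⟩ := conj_Y5 b hb5 hb1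
  have hu : (f c * g) * f Y5 * (f c * g)⁻¹ = f Y5 ^ (k % 5) := by
    have h1 : (f c * g) * f Y5 * (f c * g)⁻¹ = f c * (g * f Y5 * g⁻¹) * (f c)⁻¹ := by group
    rw [h1, ← hb, ← map_inv, ← map_mul, ← map_mul, hck, map_pow]
    conv_lhs => rw [← Nat.div_add_mod k 5]
    rw [pow_add, pow_mul, y_pow5, one_pow, one_mul]
  have hc_mem : f c ∈ KK f := Subgroup.mem_sup_left ⟨c, rfl⟩
  have hI_mem : f I5 ∈ KK f := Subgroup.mem_sup_left ⟨I5, rfl⟩
  have hk5 : k % 5 < 5 := Nat.mod_lt _ (by norm_num)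
  have hg_of : ∀ v : G, v ∈ KK f → v * g ∈ KK f → g ∈ KK f := by
    intro v hv hvg
    have : g = v⁻¹ * (v * g) := by group
    rw [this]
    exact Subgroup.mul_mem _ (Subgroup.inv_mem _ hv) hvg
  interval_cases hk : k % 5
  · exfalso
    rw [pow_zero] at hu
    have : f Y5 = 1 := by
      have : f Y5 = (f c * g)⁻¹ * ((f c * g) * f Y5 * (f c * g)⁻¹) * (f c * g) := by group
      rw [this, hu]; group
    exact y_ne_one f hf this
  · left
    rw [pow_one] at hu
    exact hg_of (f c) hc_mem (mem_KK_of_comm f hf hN _ hu)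
  · right
    refine ⟨f c * g, ?_, hu⟩
    have : f c * g * g⁻¹ = f c := by group
    rw [this]
    exact ⟨c, rfl⟩
  · right
    refine ⟨f I5 * (f c * g), ?_, ?_⟩
    · have : f I5 * (f c * g) * g⁻¹ = f (I5 * c) := by rw [map_mul]; group
      rw [this]
      exact ⟨_, rfl⟩
    · have h1 : f I5 * (f c * g) * f Y5 * (f I5 * (f c * g))⁻¹ =
          f I5 * ((f c * g) * f Y5 * (f c * g)⁻¹) * (f I5)⁻¹ := by group
      rw [h1, hu, conj_y_pow, I5_conj_y, inv_pow3]
  · left
    have h2 : f I5 * (f c * g) ∈ KK f := by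
      apply mem_KK_of_comm f hf hN
      have h1 : f I5 * (f c * g) * f Y5 * (f I5 * (f c * g))⁻¹ =
          f I5 * ((f c * g) * f Y5 * (f c * g)⁻¹) * (f I5)⁻¹ := by group
      rw [h1, hu, conj_y_pow, I5_conj_y, inv_pow4]
    have h3 : f I5 * f c ∈ KK f := Subgroup.mul_mem _ hI_mem hc_mem
    apply hg_of (f I5 * f c) h3
    have : f I5 * f c * g = f I5 * (f c * g) := by group
    rw [this]
    exact h2

include hf hN in
/-- Step D -/
lemma inv_mul_mem_KK_of_P2 (g₁ g₂ : G) (h₁ : P2 f g₁) (h₂ : P2 f g₂) : g₁⁻¹ * g₂ ∈ KK f := by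
  obtain ⟨u₁, hr₁, hu₁⟩ := h₁
  obtain ⟨u₂, hr₂, hu₂⟩ := h₂
  have h5 := y_pow5 f
  -- u₁⁻¹ y u₁ = y^3
  have e1 : u₁⁻¹ * f Y5 * u₁ = f Y5 ^ 3 := by
    have h1 : u₁ * f Y5 ^ 3 * u₁⁻¹ = f Y5 := by
      rw [conj_y_pow, hu₁, ← pow_mul]
      have : f Y5 ^ (2 * 3) = f Y5 ^ 5 * f Y5 := by group
      rw [this, h5, one_mul]
    have : u₁⁻¹ * f Y5 * u₁ = u₁⁻¹ * (u₁ * f Y5 ^ 3 * u₁⁻¹) * u₁ := by rw [h1]
    rw [this]; group
  have e2 : (u₁⁻¹ * u₂) * f Y5 * (u₁⁻¹ * u₂)⁻¹ = f Y5 := by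
    have h1 : (u₁⁻¹ * u₂) * f Y5 * (u₁⁻¹ * u₂)⁻¹ = u₁⁻¹ * (u₂ * f Y5 * u₂⁻¹) * u₁ := by group
    rw [h1, hu₂]
    have h2 : u₁⁻¹ * f Y5 ^ 2 * u₁ = (u₁⁻¹ * f Y5 * u₁) ^ 2 := by
      have := conj_pow (a := u₁⁻¹) (b := f Y5) (i := 2)
      rw [inv_inv] at this
      rw [this]
    rw [h2, e1, ← pow_mul]
    have : f Y5 ^ (3 * 2) = f Y5 ^ 5 * f Y5 := by group
    rw [this, h5, one_mul]
  have hw := mem_KK_of_comm f hf hN _ e2
  -- g₁⁻¹ g₂ = (g₁⁻¹ r g₁) * (u₁⁻¹ u₂) with r in the range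
  have hr : (u₂ * g₂⁻¹)⁻¹ * (u₁ * g₁⁻¹) ∈ f.range :=
    Subgroup.mul_mem _ (Subgroup.inv_mem _ hr₂) hr₁
  have hr' : g₁⁻¹ * ((u₂ * g₂⁻¹)⁻¹ * (u₁ * g₁⁻¹)) * g₁⁻¹⁻¹ ∈ f.range :=
    hN.conj_mem _ hr g₁⁻¹
  have : g₁⁻¹ * g₂ = (g₁⁻¹ * ((u₂ * g₂⁻¹)⁻¹ * (u₁ * g₁⁻¹)) * g₁⁻¹⁻¹) * (u₁⁻¹ * u₂) := by group
  rw [this]
  exact Subgroup.mul_mem _ (Subgroup.mem_sup_left hr') hw

include hf hN in
/-- Step E: `D * C_G(D)` has index at most `2`. -/
theorem index_KK_le_two [Finite G] : (KK f).index ≤ 2 := by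
  by_cases hall : ∀ g : G, g ∈ KK f
  · have : KK f = ⊤ := by
      rw [eq_top_iff]; intro g _; exact hall g
    rw [this, Subgroup.index_top]
    norm_num
  · push Not at hall
    obtain ⟨g₀, hg₀⟩ := hall
    have hP0 : P2 f g₀ := (mem_KK_or_P2 f hf hN g₀).resolve_left hg₀
    let φ : Bool → G ⧸ KK f := fun b => if b then ((1 : G) : G ⧸ KK f) else ((g₀ : G) : G ⧸ KK f)
    have hφ : Function.Surjective φ := by
      intro q
      induction q using QuotientGroup.induction_on with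
      | H g =>
        rcases mem_KK_or_P2 f hf hN g with h | h
        · refine ⟨true, ?_⟩
          show ((1 : G) : G ⧸ KK f) = (g : G ⧸ KK f)
          rw [QuotientGroup.eq]
          simpa using h
        · refine ⟨false, ?_⟩
          show ((g₀ : G) : G ⧸ KK f) = (g : G ⧸ KK f)
          rw [QuotientGroup.eq]
          exact inv_mul_mem_KK_of_P2 f hf hN g₀ g hP0 h
    have h1 : Nat.card (G ⧸ KK f) ≤ Nat.card Bool := Nat.card_le_card_of_surjective φ hφ
    have h2 : Nat.card Bool = 2 := by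
      rw [Nat.card_eq_fintype_card, Fintype.card_bool]
    rw [h2] at h1
    rw [Subgroup.index_eq_card]
    exact h1

include hf in
lemma orderOf_z : orderOf (f (-1)) = 2 := by
  have : Fact (Nat.Prime 2) := ⟨by norm_num⟩
  apply orderOf_eq_prime
  · rw [← map_pow, rels5.2.2.1, map_one]
  · intro h
    exact neg_one_ne_one25 (hf (by rw [h, map_one]))

include hf in
lemma inf_centralizer_eq :
    f.range ⊓ Subgroup.centralizer (f.range : Set G) = Subgroup.zpowers (f (-1)) := by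
  apply le_antisymm
  · rintro a ⟨⟨w, rfl⟩, hc0⟩
    have hc : f w ∈ Subgroup.centralizer (f.range : Set G) := hc0
    rw [Subgroup.mem_centralizer_iff] at hc
    have hx : w * X5 = X5 * w := by
      apply hf
      rw [map_mul, map_mul]
      exact (hc (f X5) ⟨X5, rfl⟩).symm
    have hy : w * Y5 = Y5 * w := by
      apply hf
      rw [map_mul, map_mul]
      exact (hc (f Y5) ⟨Y5, rfl⟩).symm
    rcases center25 w hx hy with h | h
    · rw [h, map_one]; exact Subgroup.one_mem _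
    · rw [h]; exact Subgroup.mem_zpowers _
  · rw [Subgroup.zpowers_le]
    refine ⟨⟨-1, rfl⟩, ?_⟩
    show f (-1) ∈ Subgroup.centralizer (f.range : Set G)
    rw [Subgroup.mem_centralizer_iff]
    rintro _ ⟨s, rfl⟩
    rw [← map_mul, ← map_mul, neg_one_comm]

include hf in
theorem card_inf_centralizer_range :
    Nat.card ↥(f.range ⊓ Subgroup.centralizer (f.range : Set G)) = 2 := by
  rw [inf_centralizer_eq f hf, Nat.card_zpowers, orderOf_z f hf]

include hf in
lemma card_range : Nat.card f.range = 120 := by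
  rw [← card_SL25]
  exact (Nat.card_congr (MonoidHom.ofInjective hf).toEquiv).symm

include hf hN in
theorem card_KK [Finite G] :
    Nat.card ↥(KK f) = 60 * Nat.card ↥(Subgroup.centralizer (f.range : Set G)) := by
  have := hN
  have h1 : Nat.card f.range * f.range.relIndex (KK f) = Nat.card ↥(KK f) := by
    have := Subgroup.relIndex_mul_relIndex (⊥ : Subgroup G) f.range (KK f) bot_le le_sup_left
    rw [Subgroup.relIndex_bot_left, Subgroup.relIndex_bot_left] at this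
    exact this
  have h2 : f.range.relIndex (KK f) =
      f.range.relIndex (Subgroup.centralizer (f.range : Set G)) :=
    Subgroup.relIndex_sup_left _ _
  have h3 : Nat.card ↥(f.range ⊓ Subgroup.centralizer (f.range : Set G)) *
      (f.range ⊓ Subgroup.centralizer (f.range : Set G)).relIndex
        (Subgroup.centralizer (f.range : Set G)) =
      Nat.card ↥(Subgroup.centralizer (f.range : Set G)) := by
    have := Subgroup.relIndex_mul_relIndex (⊥ : Subgroup G)
      (f.range ⊓ Subgroup.centralizer (f.range : Set G))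
      (Subgroup.centralizer (f.range : Set G)) bot_le inf_le_right
    rw [Subgroup.relIndex_bot_left, Subgroup.relIndex_bot_left] at this
    exact this
  rw [Subgroup.inf_relIndex_right, card_inf_centralizer_range f hf] at h3
  rw [← h1, h2, card_range f hf, ← h3]
  ring

include hf hN in
theorem card_cases_range [Finite G] :
    Nat.card G = 60 * Nat.card ↥(Subgroup.centralizer (f.range : Set G)) ∨
    Nat.card G = 120 * Nat.card ↥(Subgroup.centralizer (f.range : Set G)) := by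
  have h1 := Subgroup.card_mul_index (KK f)
  have h2 := index_KK_le_two f hf hN
  have h3 := card_KK f hf hN
  have h4 : (KK f).index ≠ 0 := Subgroup.index_ne_zero_of_finite
  have h5 : (KK f).index = 1 ∨ (KK f).index = 2 := by omega
  rcases h5 with h | h
  · left; rw [← h1, h, h3]; ring
  · right; rw [← h1, h, h3]; ring

end main

section subgroup

variable {G : Type*} [Group G] (D : Subgroup G)
  (e : ↥D ≃* Matrix.SpecialLinearGroup (Fin 2) (ZMod 5))

/-- the embedding `SL(2,5) → G` with range `D`. -/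
def emb : S25 →* G := D.subtype.comp e.symm.toMonoidHom

lemma emb_injective : Function.Injective (emb D e) := by
  intro a b h
  have : (e.symm a : G) = (e.symm b : G) := h
  exact e.symm.injective (Subtype.ext this)

lemma emb_range : (emb D e).range = D := by
  ext g
  constructor
  · rintro ⟨s, rfl⟩
    exact (e.symm s).2
  · intro hg
    refine ⟨e ⟨g, hg⟩, ?_⟩
    show ((e.symm (e ⟨g, hg⟩) : ↥D) : G) = g
    rw [MulEquiv.symm_apply_apply]

variable [Finite G] [hD : D.Normal]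

include e in
/-- (1) `D * C_G(D)` has index at most `2` in `G`. -/
theorem index_sup_centralizer_le_two :
    (D ⊔ Subgroup.centralizer (D : Set G)).index ≤ 2 := by
  have hN : (emb D e).range.Normal := by rw [emb_range]; exact hD
  have := index_KK_le_two (emb D e) (emb_injective D e) hN
  rw [KK, emb_range] at this
  exact this

omit [Finite G] hD in
include e in
/-- (2) `D ∩ C_G(D)` has order `2`. -/
theorem card_inf_centralizer :
    Nat.card ↥(D ⊓ Subgroup.centralizer (D : Set G)) = 2 := by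
  have := card_inf_centralizer_range (emb D e) (emb_injective D e)
  rw [emb_range] at this
  exact this

include e in
/-- (3) `|G| = 60 |C_G(D)|` or `|G| = 120 |C_G(D)|`. -/
theorem card_cases :
    Nat.card G = 60 * Nat.card ↥(Subgroup.centralizer (D : Set G)) ∨
    Nat.card G = 120 * Nat.card ↥(Subgroup.centralizer (D : Set G)) := by
  have hN : (emb D e).range.Normal := by rw [emb_range]; exact hD
  have := card_cases_range (emb D e) (emb_injective D e) hN
  rw [emb_range] at this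
  exact this

omit [Finite G] hD in
include e in
/-- the central involution of `D`, and the quaternion elements, as elements of `G`. -/
theorem exists_quaternion :
    ∃ z i j : G, z ∈ D ∧ i ∈ D ∧ j ∈ D ∧ z ≠ 1 ∧ z ^ 2 = 1 ∧ i ^ 2 = z ∧ j ^ 2 = z ∧
      j * i = z * (i * j) ∧ (∀ d ∈ D, z * d = d * z) := by
  refine ⟨emb D e (-1), emb D e I5, emb D e J5, ?_, ?_, ?_, ?_, ?_, ?_, ?_, ?_, ?_⟩
  · exact (e.symm (-1)).2
  · exact (e.symm I5).2
  · exact (e.symm J5).2
  · intro h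
    exact neg_one_ne_one25 (emb_injective D e (by rw [h, map_one]))
  · rw [← map_pow, rels5.2.2.1, map_one]
  · rw [← map_pow, I5_sq]
  · rw [← map_pow, J5_sq]
  · rw [← map_mul, ← map_mul, ← map_mul, J5_I5]
    congr 1
    rw [neg_one_mul]
  · intro d hd
    have hd' : d ∈ (emb D e).range := by rw [emb_range]; exact hd
    obtain ⟨s, rfl⟩ := hd'
    rw [← map_mul, ← map_mul, neg_one_comm]

end subgroup

end Cfsg.Agent.Helper52.SL25Normal
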