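import Mathlib
import Cfsg.Agent.Lib.Helper52.Thompson
import Cfsg.Agent.S0144

/-!
# Kegel's theorem: a finite group with a splitting automorphism of prime order is nilpotent

Proved relative to the Glauberman--Thompson normal `p`-complement theorem (`GlaubermanHyp`), along
the lines of Thompson's theorem on fixed-point-free automorphisms.
-/

set_option autoImplicit false
set_option linter.style.haveILetI false
set_option linter.unusedSectionVars false

namespace Cfsg.Agent.Helper52

open Subgroup

universe u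

/-- `φ` is a splitting automorphism with respect to `p`: `φ ^ p = 1` and
`x * φ x * ⋯ * φ^(p-1) x = 1` for all `x`. -/
def IsSplitting {G : Type*} [Group G] (φ : G ≃* G) (p : ℕ) : Prop :=
  (⇑φ)^[p] = id ∧ ∀ x : G, ((List.range p).map (fun k => (⇑φ)^[k] x)).prod = 1

section SplittingBasics

variable {G : Type*} [Group G]

/-- the partial norms `x * φ x * ⋯ * φ^(k-1) x` -/
def partialNorm (φ : G ≃* G) (x : G) (k : ℕ) : G :=
  ((List.range k).map (fun i => (⇑φ)^[i] x)).prod

theorem partialNorm_zero (φ : G ≃* G) (x : G) : partialNorm φ x 0 = 1 := by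
  simp [partialNorm]

theorem partialNorm_succ (φ : G ≃* G) (x : G) (k : ℕ) :
    partialNorm φ x (k + 1) = partialNorm φ x k * (⇑φ)^[k] x := by
  unfold partialNorm
  rw [List.range_succ, List.map_append, List.prod_append]
  simp

theorem partialNorm_succ' (φ : G ≃* G) (x : G) (k : ℕ) :
    partialNorm φ x (k + 1) = x * φ (partialNorm φ x k) := by
  induction k with
  | zero => simp [partialNorm]
  | succ k ih =>
    calc partialNorm φ x (k + 1 + 1) = partialNorm φ x (k + 1) * (⇑φ)^[k + 1] x :=
          partialNorm_succ φ x (k + 1)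
      _ = x * φ (partialNorm φ x k) * φ ((⇑φ)^[k] x) := by
          rw [ih, Function.iterate_succ_apply' (⇑φ) k x]
      _ = x * φ (partialNorm φ x (k + 1)) := by
          rw [partialNorm_succ φ x k, map_mul, mul_assoc]

/-- iterates of the twisted automorphism `g ↦ x * φ g * x⁻¹` -/
theorem twist_iterate (φ : G ≃* G) (x g : G) (k : ℕ) :
    (⇑(MulAut.conj x * φ : G ≃* G))^[k] g =
      partialNorm φ x k * (⇑φ)^[k] g * (partialNorm φ x k)⁻¹ := by
  induction k with
  | zero => simp [partialNorm]
  | succ k ih =>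
    rw [Function.iterate_succ_apply', ih, partialNorm_succ', MulAut.mul_apply, MulAut.conj_apply,
      Function.iterate_succ_apply' (⇑φ) k g, map_mul, map_mul, map_inv]
    group

/-- partial norms of the twisted automorphism -/
theorem twist_partialNorm (φ : G ≃* G) (x g : G) (n : ℕ) :
    partialNorm (MulAut.conj x * φ : G ≃* G) g n =
      partialNorm φ (g * x) n * (partialNorm φ x n)⁻¹ := by
  induction n with
  | zero => simp [partialNorm]
  | succ n ih =>
    rw [partialNorm_succ, ih, twist_iterate, partialNorm_succ, partialNorm_succ,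
      iterate_map_mul]
    group

/-- Twisting a splitting automorphism by an inner automorphism gives a splitting automorphism. -/
theorem IsSplitting.twist {φ : G ≃* G} {p : ℕ} (h : IsSplitting φ p) (x : G) :
    IsSplitting (MulAut.conj x * φ : G ≃* G) p := by
  obtain ⟨h1, h2⟩ := h
  have hx : partialNorm φ x p = 1 := h2 x
  constructor
  · funext g
    rw [twist_iterate, hx, h1]
    simp
  · intro g
    have h3 := twist_partialNorm φ x g p
    have hgx : partialNorm φ (g * x) p = 1 := h2 (g * x)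
    rw [hx, hgx] at h3
    show partialNorm (MulAut.conj x * φ : G ≃* G) g p = 1
    rw [h3]
    simp

theorem IsSplitting.pow_eq_one_of_fixed {φ : G ≃* G} {p : ℕ} (h : IsSplitting φ p) {x : G}
    (hx : φ x = x) : x ^ p = 1 := by
  have h2 := h.2 x
  have h3 : ∀ k : ℕ, (⇑φ)^[k] x = x := fun k => Function.iterate_fixed hx k
  have h4 : (List.range p).map (fun k => (⇑φ)^[k] x) = List.replicate p x := by
    rw [List.eq_replicate_iff]
    refine ⟨by simp, ?_⟩
    intro b hb
    rw [List.mem_map] at hb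
    obtain ⟨k, _, rfl⟩ := hb
    exact h3 k
  rw [h4, List.prod_replicate] at h2
  exact h2

/-- a splitting automorphism (w.r.t. `p`) is fixed-point-free on `q`-subgroups, `q ≠ p` -/
theorem IsSplitting.eq_one_of_fixed {φ : G ≃* G} {p q : ℕ} (hp : p.Prime) (hq : q.Prime)
    (hpq : q ≠ p) (h : IsSplitting φ p) {Q : Subgroup G} (hQ : IsPGroup q Q) {x : G} (hxQ : x ∈ Q)
    (hx : φ x = x) : x = 1 := by
  have h1 := h.pow_eq_one_of_fixed hx
  obtain ⟨k, hk⟩ := hQ ⟨x, hxQ⟩
  have h2 : x ^ (q ^ k) = 1 := by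
    have := congrArg Subtype.val hk
    simpa using this
  have h3 : x ^ (Nat.gcd p (q ^ k)) = 1 := pow_gcd_eq_one.mpr ⟨h1, h2⟩
  have h4 : Nat.gcd p (q ^ k) = 1 :=
    Nat.Coprime.pow_right k ((Nat.coprime_primes hp hq).mpr (Ne.symm hpq))
  rw [h4, pow_one] at h3
  exact h3

/-- if `φ ^ p = 1` and `φ ^ j` fixes `x` for some `0 < j < p` then `φ` fixes `x` -/
theorem fixed_of_iterate_fixed (φ : G ≃* G) (p : ℕ) (hp : p.Prime) (hφp : (⇑φ)^[p] = id)
    (j : ℕ) (hj0 : 0 < j) (hjp : j < p) (x : G) (hx : (⇑φ)^[j] x = x) : φ x = x := by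
  have hcop : Nat.Coprime j p := (Nat.coprime_of_lt_prime hj0.ne' hjp hp).symm
  obtain ⟨m, -, hm⟩ := Nat.exists_mul_mod_eq_one_of_coprime hcop hp.one_lt
  have h1 : (⇑φ)^[j * m] x = x := by
    rw [Function.iterate_mul]
    exact Function.iterate_fixed hx m
  have h2 : j * m = p * (j * m / p) + 1 := by
    have := Nat.div_add_mod (j * m) p
    omega
  rw [h2, Function.iterate_succ_apply', Function.iterate_mul, hφp, Function.iterate_id] at h1
  exact h1

end SplittingBasics

section SplittingFinite

variable {G : Type*} [Group G] [Finite G]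

theorem IsSplitting.restrict {φ : G ≃* G} {p : ℕ} (h : IsSplitting φ p) (H : Subgroup G)
    (hH : ∀ x ∈ H, φ x ∈ H) : IsSplitting (restrictEquiv φ H hH) p := by
  refine ⟨restrictEquiv_iterate_eq_id φ H hH p h.1, ?_⟩
  intro x
  apply Subtype.ext
  have h1 : ((((List.range p).map (fun k => (⇑(restrictEquiv φ H hH))^[k] x)).prod : H) : G) =
      ((List.range p).map (fun k => (⇑φ)^[k] (x : G))).prod := by
    rw [← Subgroup.coe_subtype, map_list_prod, List.map_map]
    congr 1
    apply List.map_congr_left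
    intro k _
    exact restrictEquiv_iterate φ H hH k x
  rw [h1, h.2 (x : G)]
  rfl

theorem IsSplitting.quot {φ : G ≃* G} {p : ℕ} (h : IsSplitting φ p) (N : Subgroup G) [N.Normal]
    (hN : ∀ x ∈ N, φ x ∈ N) : IsSplitting (quotEquiv φ N hN) p := by
  refine ⟨quotEquiv_iterate_eq_id φ N hN p h.1, ?_⟩
  intro y
  obtain ⟨x, rfl⟩ := QuotientGroup.mk_surjective y
  have h1 : ((List.range p).map (fun k => (⇑(quotEquiv φ N hN))^[k] (x : G ⧸ N))).prod =
      QuotientGroup.mk' N (((List.range p).map (fun k => (⇑φ)^[k] x)).prod) := by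
    rw [map_list_prod, List.map_map]
    congr 1
    apply List.map_congr_left
    intro k _
    exact quotEquiv_iterate φ N hN k x
  rw [h1, h.2 x, map_one]

/-- Some inner twist of any automorphism leaves a given Sylow subgroup invariant. -/
theorem exists_twist_invariant_sylow (φ : G ≃* G) (q : ℕ) [Fact q.Prime] (Q : Sylow q G) :
    ∃ x : G, ∀ w ∈ Q, (MulAut.conj x * φ : G ≃* G) w ∈ Q := by
  have hcard : Nat.card ((Q : Subgroup G).map (φ : G →* G)) = q ^ (Nat.card G).factorization q := by
    rw [Subgroup.card_map_of_injective (f := (φ : G →* G)) φ.injective]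
    exact Q.card_eq_multiplicity
  let Q' : Sylow q G := Sylow.ofCard _ hcard
  obtain ⟨g, hg⟩ := MulAction.exists_smul_eq G Q' Q
  refine ⟨g, ?_⟩
  intro w hw
  have h1 : φ w ∈ (Q' : Subgroup G) := ⟨w, hw, rfl⟩
  have h2 : g * φ w * g⁻¹ ∈ ((g • Q' : Sylow q G) : Subgroup G) := by
    rw [Sylow.coe_subgroup_smul]
    exact ⟨φ w, h1, rfl⟩
  rw [hg] at h2
  exact h2

/-- **Frobenius norm argument, internal form for splitting automorphisms.** `φ ^ p = 1`; `V`
abelian and `Q` are `φ`-invariant subgroups, `φ` is fixed-point-free on `Q` and has trivial norms on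
`V`, `Q` normalizes `V`, `C_V(Q) = 1` and `(|Q|, |V|) = 1`. Then `V = 1`. -/
theorem eq_bot_of_frobenius' (φ : G ≃* G) (p : ℕ) (hp : p.Prime) (hφp : (⇑φ)^[p] = id)
    (V Q : Subgroup G) (hVc : ∀ a ∈ V, ∀ b ∈ V, a * b = b * a) (hφV : ∀ v ∈ V, φ v ∈ V)
    (hφQ : ∀ w ∈ Q, φ w ∈ Q) (hfQ : ∀ w ∈ Q, φ w = w → w = 1)
    (hnV : ∀ v ∈ V, ((List.range p).map (fun k => (⇑φ)^[k] v)).prod = 1)
    (hQV : Q ≤ normalizer (V : Set G))
    (hC : ∀ v ∈ V, (∀ u ∈ Q, u * v * u⁻¹ = v) → v = 1)
    (hcop : (Nat.card Q).Coprime (Nat.card V)) : V = ⊥ := by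
  classical
  letI : CommGroup V :=
    { (inferInstance : Group V) with
      mul_comm := fun a b => Subtype.ext (hVc a a.2 b b.2) }
  letI : Fintype Q := Fintype.ofFinite Q
  let act : Q →* MulAut V := V.normalizerMonoidHom.comp (Subgroup.inclusion hQV)
  have hact : ∀ (w : Q) (v : V), ((act w v : V) : G) = w * v * (w : G)⁻¹ := fun w v => rfl
  let σ : ℕ → V → V := fun i v => ⟨(⇑φ)^[i + 1] v, iterate_mem hφV (i + 1) v v.2⟩
  have hinj : ∀ j : ℕ, 0 < j → j < p →
      Function.Injective (fun w : Q => (⟨w * ((⇑φ)^[j] w)⁻¹,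
        mul_mem w.2 (inv_mem (iterate_mem hφQ j w w.2))⟩ : Q)) := by
    intro j hj0 hjp w w' hww
    have h1 : (w : G) * ((⇑φ)^[j] w)⁻¹ = w' * ((⇑φ)^[j] w')⁻¹ := congrArg Subtype.val hww
    have h2 : (⇑φ)^[j] ((w' : G)⁻¹ * w) = (w' : G)⁻¹ * w := by
      have h3 : (⇑φ)^[j] ((w' : G)⁻¹ * w) = ((⇑φ)^[j] (w' : G))⁻¹ * (⇑φ)^[j] (w : G) := by
        rw [iterate_map_mul, iterate_map_inv]
      rw [h3]
      calc ((⇑φ)^[j] (w' : G))⁻¹ * (⇑φ)^[j] (w : G)
          = (w' : G)⁻¹ * ((w' : G) * ((⇑φ)^[j] (w' : G))⁻¹) * (⇑φ)^[j] (w : G) := by group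
        _ = (w' : G)⁻¹ * ((w : G) * ((⇑φ)^[j] (w : G))⁻¹) * (⇑φ)^[j] (w : G) := by rw [h1]
        _ = (w' : G)⁻¹ * w := by group
    have h4' := fixed_of_iterate_fixed φ p hp hφp j hj0 hjp _ h2
    have h4 := hfQ _ (mul_mem (inv_mem w'.2) w.2) h4'
    apply Subtype.ext
    have h5 : (w : G) = w' * ((w' : G)⁻¹ * w) := by group
    rw [h5, h4, mul_one]
  let e : ℕ → Q ≃ Q := fun i =>
    if h : i + 1 < p then
      Equiv.ofBijective _ ((Finite.injective_iff_bijective).mp (hinj (i + 1) (Nat.succ_pos i) h))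
    else Equiv.refl Q
  have he : ∀ i : ℕ, i + 1 < p → ∀ w : Q, ((e i w : Q) : G) = w * ((⇑φ)^[i + 1] w)⁻¹ := by
    intro i hi w
    simp only [e, dif_pos hi]
    rfl
  have hall : ∀ v : V, v = 1 := by
    apply eq_one_of_frobenius_norm act (Finset.range (p - 1)) σ e
    · intro y hy
      have h1 := hC y y.2 (fun u hu => by
        have h2 := hy ⟨u, hu⟩
        have h3 := congrArg Subtype.val h2
        rw [hact] at h3
        exact h3)
      exact Subtype.ext h1
    · intro i hi w v
      have hi' : i + 1 < p := by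
        have := Finset.mem_range.mp hi
        omega
      apply Subtype.ext
      rw [hact, hact]
      show (w : G) * (⇑φ)^[i + 1] ((act w⁻¹ v : V) : G) * (w : G)⁻¹ =
        ((e i w : Q) : G) * (⇑φ)^[i + 1] (v : G) * ((e i w : Q) : G)⁻¹
      rw [hact, he i hi', iterate_map_mul, iterate_map_mul]
      have h6 : (⇑φ)^[i + 1] (((w⁻¹ : Q) : G)) = ((⇑φ)^[i + 1] (w : G))⁻¹ := by
        rw [InvMemClass.coe_inv, iterate_map_inv]
      have h7 : (⇑φ)^[i + 1] ((((w⁻¹ : Q) : G))⁻¹) = (⇑φ)^[i + 1] (w : G) := by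
        rw [InvMemClass.coe_inv, inv_inv]
      rw [h6, h7]
      group
    · intro v
      have key : ∀ n : ℕ, ((v * ∏ i ∈ Finset.range n, σ i v : V) : G) =
          ((List.range (n + 1)).map (fun k => (⇑φ)^[k] (v : G))).prod := by
        intro n
        induction n with
        | zero => simp
        | succ n ih =>
          rw [Finset.prod_range_succ, ← mul_assoc, Subgroup.coe_mul, ih,
            List.prod_range_succ (fun k => (⇑φ)^[k] (v : G)) (n + 1)]
      apply Subtype.ext
      rw [key (p - 1)]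
      have h8 : p - 1 + 1 = p := Nat.sub_add_cancel hp.one_lt.le
      rw [h8]
      exact hnV (v : G) v.2
    · rw [← Nat.card_eq_fintype_card]
      exact hcop
  rw [eq_bot_iff]
  intro v hv
  have := hall ⟨v, hv⟩
  rw [mem_bot]
  exact congrArg Subtype.val this

end SplittingFinite

section PPart

theorem prod_range_mul_mod {M : Type*} [CommMonoid M] (f : ℕ → M) (p k : ℕ) (hp : p.Prime)
    (hk0 : 0 < k) (hkp : k < p) :
    ∏ i ∈ Finset.range p, f (i * k % p) = ∏ j ∈ Finset.range p, f j := by
  have hcop : Nat.gcd p k = 1 := Nat.coprime_of_lt_prime hk0.ne' hkp hp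
  have hinj : Set.InjOn (fun i => i * k % p) (Finset.range p : Set ℕ) := by
    intro a ha b hb hab
    have h1 : a * k ≡ b * k [MOD p] := hab
    have h2 : a ≡ b [MOD p] := Nat.ModEq.cancel_right_of_coprime hcop h1
    exact Nat.ModEq.eq_of_lt_of_lt h2 (Finset.mem_range.mp ha) (Finset.mem_range.mp hb)
  have himg : (Finset.range p).image (fun i => i * k % p) = Finset.range p := by
    apply Finset.eq_of_subset_of_card_le
    · intro x hx
      obtain ⟨i, _, rfl⟩ := Finset.mem_image.mp hx
      exact Finset.mem_range.mpr (Nat.mod_lt _ hp.pos)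
    · rw [Finset.card_image_of_injOn hinj]
  rw [← Finset.prod_image hinj, himg]

variable {G : Type*} [Group G] [Finite G]

theorem partialNorm_of_fixed (φ : G ≃* G) {z : G} (hz : φ z = z) (k : ℕ) :
    partialNorm φ z k = z ^ k := by
  induction k with
  | zero => simp [partialNorm]
  | succ k ih => rw [partialNorm_succ, ih, Function.iterate_fixed hz k, pow_succ]

/-- A nontrivial `p`-subgroup invariant under an automorphism of `p`-power order contains a
nontrivial fixed point. -/
theorem exists_fixed_ne_one (φ : G ≃* G) (p : ℕ) [hp : Fact p.Prime] (hφp : (⇑φ)^[p] = id)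
    (Q : Subgroup G) (hQ : IsPGroup p Q) (hQne : Q ≠ ⊥) (hφQ : ∀ w ∈ Q, φ w ∈ Q) :
    ∃ y ∈ Q, y ≠ 1 ∧ φ y = y := by
  classical
  letI : Fintype Q := Fintype.ofFinite Q
  let f : Function.End Q := fun w => ⟨φ w, hφQ w w.2⟩
  have hfit : ∀ (k : ℕ) (w : Q), (((f ^ k) w : Q) : G) = (⇑φ)^[k] (w : G) := by
    intro k
    induction k with
    | zero => intro w; rfl
    | succ k ih =>
      intro w
      have h1 : (f ^ (k + 1)) w = f ((f ^ k) w) := by
        rw [pow_succ']
        rfl
      rw [h1, Function.iterate_succ_apply', ← ih w]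
  have hf : f ^ p ^ 1 = 1 := by
    rw [pow_one]
    funext w
    apply Subtype.ext
    rw [hfit, hφp]
    rfl
  have h1 := Equiv.Perm.card_fixedPoints_modEq (p := p) (n := 1) hf
  have h2 : p ∣ Fintype.card Q := by
    obtain ⟨n, hn⟩ := IsPGroup.iff_card.mp hQ
    rw [← Nat.card_eq_fintype_card, hn]
    have hn0 : n ≠ 0 := by
      rintro rfl
      rw [pow_zero] at hn
      exact hQne (Subgroup.card_eq_one.mp hn)
    exact dvd_pow_self p hn0
  have h3 : p ∣ Fintype.card (Function.fixedPoints f) :=
    (Nat.modEq_zero_iff_dvd.mp (h1.symm.trans (Nat.modEq_zero_iff_dvd.mpr h2)))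
  have h4 : 1 < Fintype.card (Function.fixedPoints f) := by
    have hpos : 0 < Fintype.card (Function.fixedPoints f) :=
      Fintype.card_pos_iff.mpr ⟨⟨1, by
        show f 1 = 1
        apply Subtype.ext
        show φ ((1 : Q) : G) = ((1 : Q) : G)
        rw [Subgroup.coe_one, map_one]⟩⟩
    exact lt_of_lt_of_le hp.out.one_lt (Nat.le_of_dvd hpos h3)
  obtain ⟨a, b, hab⟩ := Fintype.one_lt_card_iff.mp h4
  have hex : ∃ c : Function.fixedPoints f, (c : Q) ≠ 1 := by
    by_contra hcon
    push Not at hcon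
    apply hab
    apply Subtype.ext
    rw [hcon a, hcon b]
  obtain ⟨c, hc⟩ := hex
  refine ⟨((c : Q) : G), (c : Q).2, ?_, ?_⟩
  · intro h
    apply hc
    exact Subtype.ext h
  · have := c.2
    have h5 : f (c : Q) = (c : Q) := this
    exact congrArg Subtype.val h5

/-- **The `p`-part.** If `φ` is splitting with respect to `p` and fixes `y`, then `y` centralizes
every abelian normal `φ`-invariant subgroup of order prime to `p`. -/
theorem centralizes_of_fixed (φ : G ≃* G) (p : ℕ) (hp : p.Prime) (hs : IsSplitting φ p)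
    (V : Subgroup G) [hVn : V.Normal] (hVc : ∀ a ∈ V, ∀ b ∈ V, a * b = b * a)
    (hφV : ∀ v ∈ V, φ v ∈ V) (hcop : (Nat.card V).Coprime p) (y : G) (hy : φ y = y) :
    ∀ v ∈ V, y * v * y⁻¹ = v := by
  classical
  letI : CommGroup V :=
    { (inferInstance : Group V) with
      mul_comm := fun a b => Subtype.ext (hVc a a.2 b b.2) }
  have hyp : y ^ p = 1 := hs.pow_eq_one_of_fixed hy
  let c : MulAut V := MulAut.conjNormal y
  have hc : ∀ (n : ℕ) (u : V), (((c ^ n) u : V) : G) = y ^ n * u * (y ^ n)⁻¹ := by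
    intro n u
    have h1 : c ^ n = MulAut.conjNormal (y ^ n) := (map_pow MulAut.conjNormal y n).symm
    rw [h1]
    exact MulAut.conjNormal_apply _ _
  have hcp : c ^ p = 1 := by
    have h1 : c ^ p = MulAut.conjNormal (y ^ p) := (map_pow MulAut.conjNormal y p).symm
    rw [h1, hyp, map_one]
  have hcmod : ∀ n : ℕ, c ^ n = c ^ (n % p) := fun n => pow_eq_pow_mod n hcp
  intro v hv
  let w : ℕ → V := fun k => ⟨(⇑φ)^[k] v, iterate_mem hφV k v hv⟩
  -- the splitting identities for the twists by `y ^ i`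
  have hE1 : ∀ i : ℕ, ∏ k ∈ Finset.range p, (c ^ (i * k)) (w k) = 1 := by
    intro i
    have hyi : φ (y ^ i) = y ^ i := by rw [map_pow, hy]
    have hsi := (hs.twist (y ^ i)).2 v
    have key : ∀ n : ℕ, ((∏ k ∈ Finset.range n, (c ^ (i * k)) (w k) : V) : G) =
        ((List.range n).map (fun k => (⇑(MulAut.conj (y ^ i) * φ : G ≃* G))^[k] v)).prod := by
      intro n
      induction n with
      | zero => simp
      | succ n ih =>
        rw [Finset.prod_range_succ, Subgroup.coe_mul, ih, List.range_succ, List.map_append,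
          List.prod_append, List.map_singleton, List.prod_singleton, hc, twist_iterate,
          partialNorm_of_fixed φ hyi, ← pow_mul]
    apply Subtype.ext
    rw [key p, hsi]
    rfl
  -- the trace
  let T : V → V := fun u => ∏ j ∈ Finset.range p, (c ^ j) u
  have hT : ∀ u : V, c (T u) = T u := by
    intro u
    have h1 : ∏ j ∈ Finset.range (p + 1), (c ^ j) u = (∏ j ∈ Finset.range p, (c ^ (j + 1)) u) * u := by
      rw [Finset.prod_range_succ']
      simp
    have h2 : ∏ j ∈ Finset.range (p + 1), (c ^ j) u = T u * u := by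
      rw [Finset.prod_range_succ, hcp]
      rfl
    have h3 : c (T u) = ∏ j ∈ Finset.range p, (c ^ (j + 1)) u := by
      show c (∏ j ∈ Finset.range p, (c ^ j) u) = _
      rw [map_prod]
      apply Finset.prod_congr rfl
      intro j _
      rw [pow_succ', MulAut.mul_apply]
    rw [h3]
    exact mul_right_cancel (h1.symm.trans h2)
  have hF : ∀ k : ℕ, 0 < k → k < p → ∏ i ∈ Finset.range p, (c ^ (i * k)) (w k) = T (w k) := by
    intro k hk0 hkp
    have h1 : ∀ i : ℕ, (c ^ (i * k)) (w k) = (fun j => (c ^ j) (w k)) (i * k % p) := by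
      intro i
      show (c ^ (i * k)) (w k) = (c ^ (i * k % p)) (w k)
      rw [← hcmod]
    rw [Finset.prod_congr rfl (fun i _ => h1 i)]
    exact prod_range_mul_mod (fun j => (c ^ j) (w k)) p k hp hk0 hkp
  have hF0 : ∏ i ∈ Finset.range p, (c ^ (i * 0)) (w 0) = (w 0) ^ p := by
    simp
  -- multiply all identities together
  have hall : ∏ k ∈ Finset.range p, ∏ i ∈ Finset.range p, (c ^ (i * k)) (w k) = 1 := by
    rw [Finset.prod_comm]
    exact Finset.prod_eq_one (fun i _ => hE1 i)
  obtain ⟨m, hm⟩ : ∃ m, p = m + 1 := ⟨p - 1, (Nat.sub_add_cancel hp.one_lt.le).symm⟩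
  rw [hm, Finset.prod_range_succ', ← hm, hF0] at hall
  have hfix : c ((w 0) ^ p) = (w 0) ^ p := by
    have h1 : (w 0) ^ p = (∏ k ∈ Finset.range m, ∏ i ∈ Finset.range p, (c ^ (i * (k + 1))) (w (k + 1)))⁻¹ :=
      eq_inv_of_mul_eq_one_right hall
    rw [h1, map_inv, map_prod]
    congr 1
    apply Finset.prod_congr rfl
    intro k hk
    have hk' : k + 1 < p := by
      have := Finset.mem_range.mp hk
      omega
    rw [hF (k + 1) (Nat.succ_pos k) hk', hT]
  -- conclude
  have h2 : (c (w 0) * (w 0)⁻¹) ^ p = 1 := by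
    rw [mul_pow, inv_pow, ← map_pow, hfix, mul_inv_cancel]
  have h3 : (c (w 0) * (w 0)⁻¹) ^ Nat.card V = 1 := pow_card_eq_one'
  have h4 : (c (w 0) * (w 0)⁻¹) ^ (Nat.gcd p (Nat.card V)) = 1 := pow_gcd_eq_one.mpr ⟨h2, h3⟩
  rw [Nat.coprime_comm.mp hcop, pow_one] at h4
  have h5 : c (w 0) = w 0 := mul_inv_eq_one.mp h4
  have h6 := congrArg Subtype.val h5
  have h7 : ((c (w 0) : V) : G) = y * v * y⁻¹ := MulAut.conjNormal_apply _ _
  rw [h7] at h6
  exact h6

end PPart

theorem two_prime_pow (n p : ℕ) (hn : n ≠ 0)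
    (h : ∀ q : ℕ, q.Prime → q ∣ n → q = 2 ∨ q = p) : ∃ a b : ℕ, n = 2 ^ a * p ^ b := by
  have h1 : ordProj[2] n * ordCompl[2] n = n := Nat.ordProj_mul_ordCompl_eq_self n 2
  have h2 : ¬ 2 ∣ ordCompl[2] n := Nat.not_dvd_ordCompl Nat.prime_two hn
  have h3 : ordCompl[2] n ≠ 0 := by
    intro h0
    rw [h0, mul_zero] at h1
    exact hn h1.symm
  have h4 : ordCompl[2] n = p ^ (ordCompl[2] n).primeFactorsList.length := by
    apply Nat.eq_prime_pow_of_unique_prime_dvd h3
    intro d hd hdvd
    have h5 : d ∣ n := hdvd.trans (Nat.ordCompl_dvd n 2)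
    rcases h d hd h5 with rfl | rfl
    · exact absurd hdvd h2
    · rfl
  exact ⟨n.factorization 2, _, by rw [← h4]; exact h1.symm⟩

section KegelSteps

variable {G : Type u} [Group G] [Finite G]

/-- In the minimal situation the group is solvable. -/
theorem kegel_solvable_step (hGl : GlaubermanHyp.{u}) (φ : G ≃* G) (p : ℕ) (hp : p.Prime)
    (hs : IsSplitting φ p)
    (hsub : ∀ ψ : G ≃* G, IsSplitting ψ p → ∀ H : Subgroup G, (∀ x ∈ H, ψ x ∈ H) → H ≠ ⊤ →
      Group.IsNilpotent H)
    (hquo : ∀ ψ : G ≃* G, IsSplitting ψ p → ∀ (N : Subgroup G) [N.Normal],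
      (∀ x ∈ N, ψ x ∈ N) → N ≠ ⊥ → Group.IsNilpotent (G ⧸ N)) : Group.IsSolvable G := by
  by_cases hex : ∃ q : ℕ, q.Prime ∧ q ≠ 2 ∧ q ≠ p ∧ q ∣ Nat.card G
  swap
  · push Not at hex
    obtain ⟨a, b, hab⟩ := two_prime_pow (Nat.card G) p Nat.card_pos.ne' (fun q hq hqd => by
      by_contra hcon
      push Not at hcon
      exact hex q hq hcon.1 hcon.2 hqd)
    exact Cfsg.Agent.S0144.result 2 p a b Nat.prime_two hp hab
  obtain ⟨q, hq, hq2, hqp, hqdvd⟩ := hex
  haveI : Fact q.Prime := ⟨hq⟩
  let Q : Sylow q G := default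
  obtain ⟨x, hQ⟩ := exists_twist_invariant_sylow φ q Q
  set ψ : G ≃* G := MulAut.conj x * φ with hψ
  have hsψ : IsSplitting ψ p := hs.twist x
  have hQne : (Q : Subgroup G) ≠ ⊥ := Q.ne_bot_of_dvd_card hqdvd
  have hGood := Cfsg.Agent.Helper11.ZJ.goodAx_comm (G := G)
  set W : Subgroup G := Cfsg.centerThompsonAOf (Q : Subgroup G) with hWdef
  have hWeq : W = Cfsg.Agent.Helper11.ZJ.W (fun A : Subgroup G => IsMulCommutative A)
      (Q : Subgroup G) := Cfsg.Agent.Helper11.ZJ.centerThompsonAOf_eq_W _
  have hWne : W ≠ ⊥ := by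
    rw [hWeq]
    exact Cfsg.Agent.Helper11.ZJ.ZJ_ne_bot Q.isPGroup' hQne
  have hWQ : W ≤ (Q : Subgroup G) := by
    rw [hWeq]
    exact Cfsg.Agent.Helper11.ZJ.W_le hGood _
  have hWmap : W.map (ψ : G →* G) = W := by
    rw [hWeq]
    have h1 := Cfsg.Agent.Helper11.ZJ.W_map hGood ψ (Q : Subgroup G)
    have h3 : (Q : Subgroup G).map ψ.toMonoidHom = (Q : Subgroup G) :=
      map_eq_of_invariant ψ Q hQ
    rw [h3] at h1
    exact h1
  have hWinv : ∀ x ∈ W, ψ x ∈ W := invariant_of_map_eq ψ W hWmap
  have hWp : IsPGroup q W := Q.isPGroup'.to_le hWQ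
  set M : Subgroup G := Subgroup.normalizer (W : Set G) with hMdef
  have hMmap : M.map (ψ : G →* G) = M := by
    have h1 := Subgroup.map_equiv_normalizer_eq W ψ
    have h3 : W.map ψ.toMonoidHom = W := hWmap
    rw [h3] at h1
    exact h1
  have hMinv : ∀ x ∈ M, ψ x ∈ M := invariant_of_map_eq ψ M hMmap
  by_cases hM : M = ⊤
  · haveI hWn : W.Normal := Subgroup.normalizer_eq_top_iff.mp hM
    haveI := hquo ψ hsψ W hWinv hWne
    haveI : Group.IsNilpotent W := hWp.isNilpotent
    apply Group.isSolvable_of_ker_le_range W.subtype (QuotientGroup.mk' W)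
    rw [QuotientGroup.ker_mk', Subgroup.range_subtype]
  · haveI := hsub ψ hsψ M hMinv hM
    have h1 : Cfsg.HasNormalPComplement q ↥M := hasNormalPComplement_of_isNilpotent q
    obtain ⟨P, K, hKn, hKc⟩ := hGl G q hq2 Q h1
    haveI := hKn
    have hKmem := Cfsg.Agent.Helper2.mem_normalPComplement_iff P K hKc
    have hKinv : ∀ x ∈ K, ψ x ∈ K := by
      intro x hx
      rw [hKmem] at hx ⊢
      rw [MulEquiv.orderOf_eq]
      exact hx
    have hKne : K ≠ ⊤ := by
      intro hK
      obtain ⟨x, hx⟩ := exists_prime_orderOf_dvd_card' q hqdvd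
      have h3 : x ∈ K := by rw [hK]; exact Subgroup.mem_top x
      rw [hKmem, hx, Nat.coprime_self] at h3
      exact hq.one_lt.ne' h3
    haveI := hsub ψ hsψ K hKinv hKne
    have h4 : IsPGroup q (G ⧸ K) := by
      obtain ⟨a, ha⟩ := IsPGroup.iff_card.mp P.isPGroup'
      rw [IsPGroup.iff_card]
      refine ⟨a, ?_⟩
      rw [← ha, ← hKc.symm.index_eq_card]
      rfl
    haveI : Group.IsNilpotent (G ⧸ K) := h4.isNilpotent
    apply Group.isSolvable_of_ker_le_range K.subtype (QuotientGroup.mk' K)
    rw [QuotientGroup.ker_mk', Subgroup.range_subtype]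

/-- In the minimal situation, solvability gives nilpotency. -/
theorem kegel_nilpotent_step (φ : G ≃* G) (p : ℕ) (hp : p.Prime) (hs : IsSplitting φ p)
    (hsub : ∀ ψ : G ≃* G, IsSplitting ψ p → ∀ H : Subgroup G, (∀ x ∈ H, ψ x ∈ H) → H ≠ ⊤ →
      Group.IsNilpotent H)
    (hquo : ∀ ψ : G ≃* G, IsSplitting ψ p → ∀ (N : Subgroup G) [N.Normal],
      (∀ x ∈ N, ψ x ∈ N) → N ≠ ⊥ → Group.IsNilpotent (G ⧸ N))
    (hsol : Group.IsSolvable G) : Group.IsNilpotent G := by
  classical
  haveI : Fact p.Prime := ⟨hp⟩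
  by_cases hnt : Nontrivial G
  swap
  · rw [not_nontrivial_iff_subsingleton] at hnt
    infer_instance
  let S : Set (Subgroup G) := {N | N.Normal ∧ (∀ x ∈ N, φ x ∈ N) ∧ N ≠ ⊥}
  have hSne : S.Nonempty := ⟨⊤, inferInstance, fun x _ => Subgroup.mem_top _, top_ne_bot⟩
  obtain ⟨N, hNS, hNmin⟩ := (measure (fun N : Subgroup G => Nat.card N)).wf.has_min S hSne
  obtain ⟨hNn, hNinv, hNne⟩ := hNS
  haveI := hNn
  have hmin : ∀ N' : Subgroup G, N'.Normal → (∀ x ∈ N', φ x ∈ N') → N' ≤ N → N' ≠ ⊥ →
      N' = N := by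
    intro N' h1 h2 h3 h4
    have h5 : ¬ Nat.card N' < Nat.card N := hNmin N' ⟨h1, h2, h4⟩
    exact Subgroup.eq_of_le_of_card_ge h3 (not_lt.mp h5)
  have hNab : ⁅N, N⁆ = ⊥ := by
    by_contra hne
    have h1 : (⁅N, N⁆ : Subgroup G).Normal := Subgroup.commutator_normal N N
    have h2 : ∀ x ∈ ⁅N, N⁆, φ x ∈ ⁅N, N⁆ := by
      apply invariant_of_map_eq
      rw [Subgroup.map_commutator, map_eq_of_invariant φ N hNinv]
    have h3 : ⁅N, N⁆ ≤ N := Subgroup.commutator_le_left N N
    have h4 := hmin _ h1 h2 h3 hne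
    haveI : Nontrivial N := (Subgroup.nontrivial_iff_ne_bot N).mpr hNne
    have h5 : commutator N < ⊤ := Group.IsSolvable.commutator_lt_top_of_nontrivial N
    have h6 : (commutator N).map N.subtype = ⁅N, N⁆ := Subgroup.map_subtype_commutator N
    apply h5.ne
    apply Subgroup.map_injective N.subtype_injective
    rw [h6, h4, ← MonoidHom.range_eq_map, Subgroup.range_subtype]
  have hNcomm : ∀ a ∈ N, ∀ b ∈ N, a * b = b * a := by
    rw [Subgroup.commutator_eq_bot_iff_le_centralizer] at hNab
    intro a ha b hb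
    exact ((Subgroup.mem_centralizer_iff.mp (hNab ha)) b hb).symm
  have hcardN : Nat.card N ≠ 1 := by
    intro h
    exact hNne (Subgroup.card_eq_one.mp h)
  obtain ⟨r, hr, hrdvd⟩ := Nat.exists_prime_and_dvd hcardN
  haveI : Fact r.Prime := ⟨hr⟩
  let Nr : Subgroup G :=
    { carrier := {x | x ∈ N ∧ x ^ r = 1}
      mul_mem' := by
        rintro a b ⟨ha, ha'⟩ ⟨hb, hb'⟩
        refine ⟨mul_mem ha hb, ?_⟩
        have hc : Commute a b := hNcomm a ha b hb
        rw [hc.mul_pow, ha', hb', one_mul]
      one_mem' := ⟨one_mem N, one_pow r⟩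
      inv_mem' := by
        rintro a ⟨ha, ha'⟩
        exact ⟨inv_mem ha, by rw [inv_pow, ha', inv_one]⟩ }
  have hNr_mem : ∀ x, x ∈ Nr ↔ x ∈ N ∧ x ^ r = 1 := fun x => Iff.rfl
  have hNrN : Nr = N := by
    apply hmin
    · constructor
      intro x hx g
      rw [hNr_mem] at hx ⊢
      refine ⟨hNn.conj_mem x hx.1 g, ?_⟩
      rw [conj_pow, hx.2, mul_one, mul_inv_cancel]
    · intro x hx
      rw [hNr_mem] at hx ⊢
      refine ⟨hNinv x hx.1, ?_⟩
      rw [← map_pow, hx.2, map_one]
    · intro x hx
      exact hx.1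
    · obtain ⟨x, hx⟩ := exists_prime_orderOf_dvd_card' r hrdvd
      intro hbot
      have h1 : (x : G) ∈ Nr := by
        refine ⟨x.2, ?_⟩
        rw [← Subgroup.coe_pow, ← hx, pow_orderOf_eq_one]
        rfl
      rw [hbot, Subgroup.mem_bot] at h1
      have h2 : x = 1 := Subtype.ext h1
      rw [h2, orderOf_one] at hx
      exact hr.one_lt.ne hx
  have hNexp : ∀ x ∈ N, x ^ r = 1 := by
    intro x hx
    rw [← hNrN] at hx
    exact hx.2
  have hNp : IsPGroup r N := by
    intro x
    refine ⟨1, ?_⟩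
    apply Subtype.ext
    rw [pow_one, Subgroup.coe_pow, hNexp x x.2]
    rfl
  haveI hquoN : Group.IsNilpotent (G ⧸ N) := hquo φ hs N hNinv hNne
  by_cases hGr : IsPGroup r G
  · exact hGr.isNilpotent
  obtain ⟨q, hq, hqr, hqdvd⟩ := exists_prime_ne_dvd_card r hGr
  haveI : Fact q.Prime := ⟨hq⟩
  let Q : Sylow q G := default
  obtain ⟨x, hQ⟩ := exists_twist_invariant_sylow φ q Q
  set ψ : G ≃* G := MulAut.conj x * φ with hψ
  have hsψ : IsSplitting ψ p := hs.twist x
  have hNψ : ∀ n ∈ N, ψ n ∈ N := by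
    intro n hn
    show x * φ n * x⁻¹ ∈ N
    exact hNn.conj_mem _ (hNinv n hn) x
  have hQne : (Q : Subgroup G) ≠ ⊥ := Q.ne_bot_of_dvd_card hqdvd
  have hQmap := map_eq_of_invariant ψ Q hQ
  have hNmap := map_eq_of_invariant ψ N hNψ
  obtain ⟨bN, hbN⟩ := IsPGroup.iff_card.mp hNp
  have hcop : (Nat.card (Q : Subgroup G)).Coprime (Nat.card N) := by
    obtain ⟨a, ha⟩ := IsPGroup.iff_card.mp Q.isPGroup'
    rw [ha, hbN]
    exact Nat.Coprime.pow _ _ ((Nat.coprime_primes hq hr).mpr hqr)
  have hdisj : N ⊓ (Q : Subgroup G) = ⊥ :=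
    disjoint_iff.mp (Subgroup.disjoint_of_coprime_natCard hcop.symm)
  -- nilpotency from two nilpotent quotients
  have hembed : ∀ (D : Subgroup G) [D.Normal], N ⊓ D = ⊥ → Group.IsNilpotent (G ⧸ D) →
      Group.IsNilpotent G := by
    intro D _ hND hD
    let f : G →* (G ⧸ N) × (G ⧸ D) := (QuotientGroup.mk' N).prod (QuotientGroup.mk' D)
    have hf : Function.Injective f := by
      rw [← MonoidHom.ker_eq_bot_iff, MonoidHom.ker_prod, QuotientGroup.ker_mk',
        QuotientGroup.ker_mk']
      exact hND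
    have e : G ≃* f.range := MonoidHom.ofInjective hf
    exact (Group.isNilpotent_congr e).mpr inferInstance
  set H : Subgroup G := N ⊔ Q with hHdef
  have hHinv : ∀ x ∈ H, ψ x ∈ H := by
    apply invariant_of_map_eq
    rw [hHdef, Subgroup.map_sup, hNmap, hQmap]
  by_cases hH : H = ⊤
  · set C : Subgroup G := N ⊓ centralizer (Q : Set G) with hCdef
    have hCcomm : ∀ c ∈ C, ∀ g : G, g * c = c * g := by
      intro c hc g
      obtain ⟨hc1, hc2⟩ := Subgroup.mem_inf.mp hc
      have h1 : N ⊔ Q ≤ centralizer ({c} : Set G) := by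
        apply sup_le
        · intro n hn
          rw [Subgroup.mem_centralizer_iff]
          intro h hh
          rw [Set.mem_singleton_iff] at hh
          subst hh
          exact hNcomm h hc1 n hn
        · intro u hu
          rw [Subgroup.mem_centralizer_iff]
          intro h hh
          rw [Set.mem_singleton_iff] at hh
          subst hh
          exact ((Subgroup.mem_centralizer_iff.mp hc2) u hu).symm
      have h2 : g ∈ centralizer ({c} : Set G) := h1 (by rw [← hHdef, hH]; exact Subgroup.mem_top g)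
      exact ((Subgroup.mem_centralizer_iff.mp h2) c rfl).symm
    by_cases hC : C = ⊥
    · by_cases hqp : q = p
      · -- the `p`-part
        subst hqp
        obtain ⟨y, hyQ, hy1, hyfix⟩ :=
          exists_fixed_ne_one ψ q hsψ.1 (Q : Subgroup G) Q.isPGroup' hQne hQ
        have hcopN : (Nat.card N).Coprime q := by
          rw [hbN]
          exact Nat.Coprime.pow_left _ ((Nat.coprime_primes hr hq).mpr (Ne.symm hqr))
        have hcent := centralizes_of_fixed ψ q hp hsψ N hNcomm hNψ hcopN y hyfix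
        set D : Subgroup G := (Q : Subgroup G) ⊓ centralizer (N : Set G) with hDdef
        have hyD : y ∈ D := by
          refine Subgroup.mem_inf.mpr ⟨hyQ, ?_⟩
          rw [Subgroup.mem_centralizer_iff]
          intro n hn
          have h1 := hcent n hn
          calc n * y = (y * n * y⁻¹) * y := by rw [h1]
            _ = y * n := by group
        have hDne : D ≠ ⊥ := by
          intro h
          rw [h, Subgroup.mem_bot] at hyD
          exact hy1 hyD
        haveI hcN : (centralizer (N : Set G)).Normal := Subgroup.normal_centralizer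
        have hDn : D.Normal := by
          rw [← Subgroup.normalizer_eq_top_iff, eq_top_iff, ← hH, hHdef]
          apply sup_le
          · intro n hn
            rw [Subgroup.mem_normalizer_iff]
            intro d
            have hkey : ∀ d' ∈ D, n * d' = d' * n := fun d' hd' =>
              (Subgroup.mem_centralizer_iff.mp (Subgroup.mem_inf.mp hd').2 n hn)
            constructor
            · intro hd
              have h1 : n * d * n⁻¹ = d := by
                rw [hkey d hd]
                group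
              rw [h1]
              exact hd
            · intro hd
              have h2 := hkey _ hd
              have h4 : n * (n * d * n⁻¹) = n * d := by
                rw [h2]
                group
              have h5 := mul_left_cancel h4
              rw [← h5]
              exact hd
          · intro u hu
            rw [Subgroup.mem_normalizer_iff]
            intro d
            constructor
            · intro hd
              obtain ⟨hd1, hd2⟩ := Subgroup.mem_inf.mp hd
              exact Subgroup.mem_inf.mpr ⟨mul_mem (mul_mem hu hd1) (inv_mem hu),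
                hcN.conj_mem d hd2 u⟩
            · intro hd
              obtain ⟨hd1, hd2⟩ := Subgroup.mem_inf.mp hd
              have h3 : d = u⁻¹ * (u * d * u⁻¹) * u⁻¹⁻¹ := by group
              rw [h3]
              exact Subgroup.mem_inf.mpr ⟨mul_mem (mul_mem (inv_mem hu) hd1) (inv_mem (inv_mem hu)),
                hcN.conj_mem _ hd2 u⁻¹⟩
        have hDinv : ∀ d ∈ D, ψ d ∈ D := by
          intro d hd
          obtain ⟨hd1, hd2⟩ := Subgroup.mem_inf.mp hd
          refine Subgroup.mem_inf.mpr ⟨hQ d hd1, ?_⟩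
          rw [Subgroup.mem_centralizer_iff]
          intro n hn
          have hn2 : n ∈ N.map (ψ : G →* G) := by
            rw [hNmap]
            exact hn
          obtain ⟨n', hn', rfl⟩ := hn2
          have h1 := (Subgroup.mem_centralizer_iff.mp hd2) n' hn'
          show ψ n' * ψ d = ψ d * ψ n'
          rw [← map_mul, ← map_mul, h1]
        haveI := hDn
        have hDq := hquo ψ hsψ D hDinv hDne
        apply hembed D _ hDq
        rw [eq_bot_iff, ← hdisj]
        exact inf_le_inf_left N inf_le_left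
      · exfalso
        apply hNne
        apply eq_bot_of_frobenius' ψ p hp hsψ.1 N Q hNcomm hNψ hQ
          (fun w hw hfix => hsψ.eq_one_of_fixed hp hq hqp Q.isPGroup' hw hfix)
          (fun v _ => hsψ.2 v)
        · rw [Subgroup.normalizer_eq_top_iff.mpr hNn]
          exact le_top
        · intro v hv hfix
          have h1 : v ∈ C := by
            refine Subgroup.mem_inf.mpr ⟨hv, ?_⟩
            rw [Subgroup.mem_centralizer_iff]
            intro u hu
            have h2 := hfix u hu
            calc u * v = u * v * u⁻¹ * u := by group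
              _ = v * u := by rw [h2]
          rw [hC, Subgroup.mem_bot] at h1
          exact h1
        · exact hcop
    · have hCn : C.Normal := by
        constructor
        intro c hc g
        have h1 : g * c * g⁻¹ = c := by
          rw [hCcomm c hc g]
          group
        rw [h1]
        exact hc
      have hCinv : ∀ x ∈ C, ψ x ∈ C := by
        intro c hc
        obtain ⟨hc1, hc2⟩ := Subgroup.mem_inf.mp hc
        refine Subgroup.mem_inf.mpr ⟨hNψ c hc1, ?_⟩
        rw [Subgroup.mem_centralizer_iff]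
        intro u hu
        have hu2 : u ∈ (Q : Subgroup G).map (ψ : G →* G) := by
          rw [hQmap]
          exact hu
        obtain ⟨u', hu', rfl⟩ := hu2
        have h1 := (Subgroup.mem_centralizer_iff.mp hc2) u' hu'
        show ψ u' * ψ c = ψ c * ψ u'
        rw [← map_mul, ← map_mul, h1]
      haveI := hCn
      haveI := hquo ψ hsψ C hCinv hC
      apply Subgroup.isNilpotent_of_ker_le_center (QuotientGroup.mk' C)
      · rw [QuotientGroup.ker_mk']
        intro c hc
        rw [Subgroup.mem_center_iff]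
        intro g
        exact hCcomm c hc g
  · haveI hHnil := hsub ψ hsψ H hHinv hH
    have hHn : H.Normal := by
      have hsurj : Function.Surjective (QuotientGroup.mk' N) := QuotientGroup.mk'_surjective N
      let Qbar : Sylow q (G ⧸ N) := Q.mapSurjective hsurj
      have h1 : (Qbar : Subgroup (G ⧸ N)).Normal := inferInstance
      have h2 : ((Q : Subgroup G).map (QuotientGroup.mk' N)).comap (QuotientGroup.mk' N) = H := by
        rw [Subgroup.comap_map_eq, QuotientGroup.ker_mk', hHdef, sup_comm]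
      rw [← h2]
      exact h1.comap _
    haveI := hHn
    have hQH : (Q : Subgroup G) ≤ H := le_sup_right
    have hQn : (Q : Subgroup G).Normal := by
      let QH : Sylow q H := Q.subtype hQH
      haveI h1 : (QH : Subgroup H).Normal := inferInstance
      haveI h2 : (QH : Subgroup H).Characteristic := QH.characteristic_of_normal h1
      have h3 : ((QH : Subgroup H).map H.subtype).Normal := inferInstance
      have h4 : (QH : Subgroup H).map H.subtype = Q := by
        show ((Q : Subgroup G).subgroupOf H).map H.subtype = Q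
        rw [Subgroup.subgroupOf_map_subtype, inf_eq_left.mpr hQH]
      rw [← h4]
      exact h3
    haveI := hQn
    have hquoQ := hquo ψ hsψ Q hQ hQne
    exact hembed Q hdisj hquoQ

end KegelSteps

/-- **Kegel's theorem**, induction form. -/
theorem kegel_aux (hGl : GlaubermanHyp.{u}) (p : ℕ) (hp : p.Prime) :
    ∀ (n : ℕ) (G : Type u) [Group G] [Finite G] (φ : G ≃* G), Nat.card G = n →
      IsSplitting φ p → Group.IsNilpotent G := by
  intro n
  induction n using Nat.strong_induction_on with
  | _ n ih =>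
  intro G _ _ φ hn hs
  have hsub : ∀ ψ : G ≃* G, IsSplitting ψ p → ∀ H : Subgroup G, (∀ x ∈ H, ψ x ∈ H) → H ≠ ⊤ →
      Group.IsNilpotent H := by
    intro ψ hsψ H hH hne
    have hlt : Nat.card H < n := by
      rw [← hn]
      exact card_lt_of_ne_top H hne
    exact ih _ hlt H (restrictEquiv ψ H hH) rfl (hsψ.restrict H hH)
  have hquo : ∀ ψ : G ≃* G, IsSplitting ψ p → ∀ (N : Subgroup G) [N.Normal],
      (∀ x ∈ N, ψ x ∈ N) → N ≠ ⊥ → Group.IsNilpotent (G ⧸ N) := by
    intro ψ hsψ N _ hN hne
    have hlt : Nat.card (G ⧸ N) < n := by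
      rw [← hn]
      exact card_quotient_lt_of_ne_bot N hne
    exact ih _ hlt (G ⧸ N) (quotEquiv ψ N hN) rfl (hsψ.quot N hN)
  have hsol := kegel_solvable_step hGl φ p hp hs hsub hquo
  exact kegel_nilpotent_step φ p hp hs hsub hquo hsol

/-- **Kegel's theorem** (relative to the Glauberman--Thompson normal `p`-complement theorem): a
finite group with a splitting automorphism of prime order is nilpotent. -/
theorem kegel_of_glauberman (hGl : GlaubermanHyp.{u}) {G : Type u} [Group G] [Finite G]
    (α : MulAut G) (hp : (orderOf α).Prime)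
    (hsplit : ∀ x : G, (((List.range (orderOf α)).map (fun i : ℕ => (α ^ i) x)).prod = 1)) :
    Group.IsNilpotent G := by
  have hs : IsSplitting (α : G ≃* G) (orderOf α) := by
    constructor
    · funext x
      have h2 := mulAut_pow_apply α (orderOf α) x
      rw [pow_orderOf_eq_one] at h2
      exact h2.symm
    · intro x
      have h1 : (List.range (orderOf α)).map (fun k => (⇑(α : G ≃* G))^[k] x) =
          (List.range (orderOf α)).map (fun i : ℕ => (α ^ i) x) := by
        apply List.map_congr_left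
        intro k _
        exact (mulAut_pow_apply α k x).symm
      rw [h1]
      exact hsplit x
  exact kegel_aux hGl (orderOf α) hp _ G α rfl hs

end Cfsg.Agent.Helper52
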